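import Mathlib.Algebra.Group.End
import Mathlib.Tactic.IntervalCases
import Mathlib.Tactic.Group
import Mathlib.Data.Fintype.Pi
import Mathlib.Data.Fintype.Card
import Mathlib.Data.Fintype.EquivFin
import Mathlib.Data.Finset.Card
import Mathlib.GroupTheory.OrderOfElement

/-!
# Involutions and elements of order four acting on an elementary abelian group of order eight

An automorphism is recorded by the images of three generators, each an element number below eight.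
-/

set_option autoImplicit false
set_option linter.style.haveILetI false

namespace Cfsg.Lib.Bicyclic.Lin3

/-- Triples of element numbers. -/
abbrev Tri := ℕ × ℕ × ℕ

/-- The linear map given by a triple, on element numbers. -/
def app (T : Tri) (n : ℕ) : ℕ :=
  (if n % 2 = 1 then T.1 else 0) ^^^ (if n / 2 % 2 = 1 then T.2.1 else 0) ^^^
    (if n / 4 % 2 = 1 then T.2.2 else 0)

/-- Composition. -/
def comp (T U : Tri) : Tri := (app T U.1, app T U.2.1, app T U.2.2)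

/-- The identity. -/
def one : Tri := (1, 2, 4)

/-- Cube. -/
def cube (T : Tri) : Tri := comp T (comp T T)

/-- Fourth power. -/
def fourth (T : Tri) : Tri := comp (comp T T) (comp T T)

/-- The involutions. -/
def invs : List Tri :=
  [(1, 2, 5), (1, 2, 6), (1, 2, 7), (1, 3, 4), (1, 3, 5), (1, 4, 2), (1, 5, 3),
   (1, 6, 4), (1, 7, 4), (2, 1, 4), (2, 1, 7), (3, 2, 4), (3, 2, 6), (4, 2, 1),
   (4, 7, 1), (5, 2, 4), (5, 6, 4), (6, 2, 3), (6, 5, 4), (7, 2, 4), (7, 4, 2)]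

/-- The elements of order four. -/
def fours : List Tri :=
  [(1, 3, 6), (1, 3, 7), (1, 4, 3), (1, 5, 2), (1, 6, 5), (1, 7, 5), (2, 1, 5),
   (2, 1, 6), (2, 4, 7), (2, 5, 4), (2, 6, 3), (2, 7, 1), (3, 2, 5), (3, 2, 7),
   (3, 4, 2), (3, 5, 1), (3, 6, 4), (3, 7, 6), (4, 1, 7), (4, 2, 3), (4, 3, 1),
   (4, 5, 6), (4, 6, 1), (4, 7, 2), (5, 1, 3), (5, 2, 6), (5, 3, 4), (5, 4, 2),
   (5, 6, 7), (5, 7, 4), (6, 1, 4), (6, 2, 1), (6, 3, 2), (6, 4, 5), (6, 5, 7),
   (6, 7, 3), (7, 1, 2), (7, 2, 6), (7, 3, 5), (7, 4, 1), (7, 5, 3), (7, 6, 4)]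

set_option synthInstance.maxSize 2000 in
theorem complete_fin : ∀ a b c : Fin 8,
    (comp (a.val, b.val, c.val) (a.val, b.val, c.val) = one → (a.val, b.val, c.val) ≠ one →
      (a.val, b.val, c.val) ∈ invs) ∧
    (fourth (a.val, b.val, c.val) = one → comp (a.val, b.val, c.val) (a.val, b.val, c.val) ≠ one →
      (a.val, b.val, c.val) ∈ fours) := by
  decide +kernel

theorem complete (T : Tri) (h : T.1 < 8 ∧ T.2.1 < 8 ∧ T.2.2 < 8) :
    (comp T T = one → T ≠ one → T ∈ invs) ∧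
    (fourth T = one → comp T T ≠ one → T ∈ fours) :=
  complete_fin ⟨_, h.1⟩ ⟨_, h.2.1⟩ ⟨_, h.2.2⟩

theorem dihedral_check : ∀ a ∈ invs, ∀ j ∈ invs,
    cube (comp a j) = one ∨ fourth (comp a j) = one := by
  decide +kernel

theorem four_group_check : ∀ a ∈ invs, ∀ b ∈ invs, comp a b = comp b a → a ≠ b → ∀ j ∈ invs,
    ¬ (cube (comp a j) = one ∧ cube (comp b j) = one ∧ cube (comp (comp a b) j) = one) := by
  decide +kernel

theorem cyclic_check : ∀ t ∈ fours, ∀ j ∈ invs, cube (comp (comp t t) j) = one →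
    fourth (comp j (comp (comp t j) (comp t (comp t t)))) = one ∨
    fourth (comp j (comp (comp (comp t t) j) (comp t t))) = one ∨
    fourth (comp j (comp (comp (comp t (comp t t)) j) t)) = one := by
  decide +kernel

variable {W : Type*} [Group W]

section
variable (e₁ e₂ e₃ : W)

/-- The element with a given number. -/
def val (n : ℕ) : W := e₁ ^ (n % 2) * e₂ ^ (n / 2 % 2) * e₃ ^ (n / 4 % 2)

end

theorem comm_of_exp (hexp : ∀ w : W, w * w = 1) (u v : W) : u * v = v * u := by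
  have h : ∀ w : W, w⁻¹ = w := fun w => inv_eq_of_mul_eq_one_left (hexp w)
  calc u * v = (u * v)⁻¹ := (h _).symm
    _ = v * u := by rw [mul_inv_rev, h, h]

variable {e₁ e₂ e₃ : W}

theorem val_xor (hexp : ∀ w : W, w * w = 1) : ∀ m < 8, ∀ n < 8,
    val e₁ e₂ e₃ (m ^^^ n) = val e₁ e₂ e₃ m * val e₁ e₂ e₃ n := by
  have hc := comm_of_exp hexp
  letI : CommGroup W := { (inferInstance : Group W) with mul_comm := hc }
  have h2 : ∀ (w x : W), w * (w * x) = x := fun w x => by rw [← mul_assoc, hexp, one_mul]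
  intro m hm n hn
  interval_cases m <;> interval_cases n <;>
    simp [val, Nat.reduceXor, hexp, h2, mul_comm, mul_left_comm]

theorem val_inj (hexp : ∀ w : W, w * w = 1) (h1 : e₁ ≠ 1) (h2 : e₂ ≠ 1) (h21 : e₂ ≠ e₁)
    (h3 : ∀ n < 4, e₃ ≠ val e₁ e₂ e₃ n) : ∀ m < 8, ∀ n < 8,
    val e₁ e₂ e₃ m = val e₁ e₂ e₃ n → m = n := by
  have hz : ∀ n < 8, val e₁ e₂ e₃ n = 1 → n = 0 := by
    intro n hn h
    have hi : ∀ u v : W, u * v = 1 → v = u := fun u v e =>
      (eq_inv_of_mul_eq_one_right e).trans (inv_eq_of_mul_eq_one_left (hexp u))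
    by_contra h0
    by_cases h4 : n < 4
    · interval_cases n <;> simp [val] at h
      · exact h0 rfl
      · exact h1 h
      · exact h2 h
      · exact h21 (hi _ _ h)
    · apply h3 (n - 4) (by omega)
      have e : val e₁ e₂ e₃ n = val e₁ e₂ e₃ (n - 4) * e₃ := by
        interval_cases n <;> simp [val]
      exact hi _ _ (e ▸ h)
  intro m hm n hn h
  have h0 := hz (m ^^^ n) (Nat.xor_lt_two_pow (n := 3) hm hn) (by rw [val_xor hexp m hm n hn, h, hexp])
  interval_cases m <;> interval_cases n <;> simp_all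

theorem exists_enc [Finite W] (hexp : ∀ w : W, w * w = 1) (hcard : Nat.card W = 8) :
    ∃ enc : MulAut W → Tri, Function.Injective enc ∧ enc 1 = one ∧
      (∀ f g, enc (f * g) = comp (enc f) (enc g)) ∧
      ∀ f, (enc f).1 < 8 ∧ (enc f).2.1 < 8 ∧ (enc f).2.2 < 8 := by
  classical
  haveI := Fintype.ofFinite W
  have hout : ∀ s : Finset W, s.card < 8 → ∃ w, w ∉ s := fun s hs => by
    by_contra h
    push Not at h
    rw [Finset.eq_univ_iff_forall.mpr h, Finset.card_univ, ← Nat.card_eq_fintype_card, hcard] at hs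
    omega
  obtain ⟨e₁, h1⟩ := hout {1} (by simp)
  obtain ⟨e₂, h2⟩ := hout {1, e₁} (lt_of_le_of_lt Finset.card_le_two (by omega))
  obtain ⟨e₃, h3⟩ := hout {1, e₁, e₂, e₁ * e₂} (lt_of_le_of_lt Finset.card_le_four (by omega))
  simp only [Finset.mem_singleton] at h1
  simp only [Finset.mem_insert, Finset.mem_singleton, not_or] at h2 h3
  set ν := val e₁ e₂ e₃ with hν
  have hinj : ∀ m < 8, ∀ n < 8, ν m = ν n → m = n := val_inj hexp h1 h2.1 h2.2 fun n hn => by
    interval_cases n <;> simp [val, h3]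
  have hsur : ∀ w : W, ∃ n, n < 8 ∧ ν n = w := by
    have hb : Function.Bijective (fun n : Fin 8 => ν n) := by
      rw [Fintype.bijective_iff_injective_and_card]
      exact ⟨fun m n e => Fin.ext (hinj m m.2 n n.2 e),
        by rw [Fintype.card_fin, ← Nat.card_eq_fintype_card, hcard]⟩
    exact fun w => (hb.2 w).elim fun n hn => ⟨n, n.2, hn⟩
  choose idx hlt hidx using hsur
  let enc : MulAut W → Tri := fun f => (idx (f e₁), idx (f e₂), idx (f e₃))
  have happ : ∀ (f : MulAut W) (n : ℕ), n < 8 →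
      app (enc f) n < 8 ∧ f (ν n) = ν (app (enc f) n) := by
    intro f n hn
    have hx : ∀ p < 8, ∀ q < 8, ν (p ^^^ q) = ν p * ν q := val_xor hexp
    have hlx : ∀ p < 8, ∀ q < 8, p ^^^ q < 8 := fun p hp q hq => Nat.xor_lt_two_pow (n := 3) hp hq
    have hc : ∀ (b : Prop) [Decidable b] (w : W), (if b then idx w else 0) < 8 ∧
        ν (if b then idx w else 0) = if b then w else 1 := fun b _ w => by
      split
      · exact ⟨hlt w, hidx w⟩
      · exact ⟨by omega, by simp [hν, val]⟩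
    obtain ⟨l1, v1⟩ := hc (n % 2 = 1) (f e₁)
    obtain ⟨l2, v2⟩ := hc (n / 2 % 2 = 1) (f e₂)
    obtain ⟨l3, v3⟩ := hc (n / 4 % 2 = 1) (f e₃)
    refine ⟨hlx _ (hlx _ l1 _ l2) _ l3, ?_⟩
    show f (ν n) = ν ((_ ^^^ _) ^^^ _)
    rw [hx _ (hlx _ l1 _ l2) _ l3, hx _ l1 _ l2, v1, v2, v3]
    interval_cases n <;> simp [hν, val]
  have h12 : ν 1 = e₁ ∧ ν 2 = e₂ ∧ ν 4 = e₃ := by simp [hν, val]
  refine ⟨enc, fun f g h => ?_, ?_, fun f g => ?_, fun f => ⟨hlt _, hlt _, hlt _⟩⟩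
  · refine MulEquiv.ext fun w => ?_
    rw [← hidx w, (happ f _ (hlt w)).2, (happ g _ (hlt w)).2, h]
  · refine Prod.ext ?_ (Prod.ext ?_ ?_) <;> refine hinj _ (hlt _) _ (by simp [one]) ?_ <;>
      simp [one, hidx, h12]
  · have key : ∀ w : W, idx ((f * g) w) = app (enc f) (idx (g w)) := fun w => by
      obtain ⟨l, v⟩ := happ f _ (hlt (g w))
      refine hinj _ (hlt _) _ l ?_
      rw [hidx, ← v, hidx]
      rfl
    exact Prod.ext (key e₁) (Prod.ext (key e₂) (key e₃))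

/-- Facts on automorphisms of an elementary abelian group of order eight. -/
theorem facts [Finite W] (hexp : ∀ w : W, w * w = 1) (hcard : Nat.card W = 8) :
    (∀ a j : MulAut W, a * a = 1 → a ≠ 1 → j * j = 1 → j ≠ 1 → (a * j) ^ 3 = 1 ∨ (a * j) ^ 4 = 1) ∧
    (∀ a b j : MulAut W, a * a = 1 → a ≠ 1 → b * b = 1 → b ≠ 1 → a * b = b * a → a ≠ b →
      j * j = 1 → j ≠ 1 → ¬ ((a * j) ^ 3 = 1 ∧ (b * j) ^ 3 = 1 ∧ (a * b * j) ^ 3 = 1)) ∧
    ∀ t j : MulAut W, t ^ 4 = 1 → t * t ≠ 1 → j * j = 1 → j ≠ 1 → (t * t * j) ^ 3 = 1 →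
      ∃ s : MulAut W, (s = t ∨ s = t * t ∨ s = t * (t * t)) ∧ (j * (s * j * s⁻¹)) ^ 4 = 1 := by
  obtain ⟨enc, hinj, h1, hm, hlt⟩ := exists_enc hexp hcard
  have he : ∀ x, x = 1 ↔ enc x = one := fun x => ⟨fun h => h ▸ h1, fun h => hinj (h.trans h1.symm)⟩
  have h3 : ∀ x, x ^ 3 = 1 ↔ cube (enc x) = one := fun x => by
    rw [he, show x ^ 3 = x * (x * x) by rw [pow_succ', pow_two], hm, hm]; rfl
  have h4 : ∀ x, x ^ 4 = 1 ↔ fourth (enc x) = one := fun x => by
    rw [he, show x ^ 4 = (x * x) * (x * x) by rw [← pow_two, ← pow_two, ← pow_mul], hm, hm]; rfl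
  have hI : ∀ x, x * x = 1 → x ≠ 1 → enc x ∈ invs := fun x hx hx1 => by
    exact (complete _ (hlt x)).1 (by rw [← hm, hx, h1]) fun h => hx1 ((he x).2 h)
  refine ⟨fun a j ha ha1 hj hj1 => ?_, fun a b j ha ha1 hb hb1 hab hne hj hj1 => ?_,
    fun t j ht ht2 hj hj1 hodd => ?_⟩
  · rw [h3, h4, hm]
    exact dihedral_check _ (hI a ha ha1) _ (hI j hj hj1)
  · rw [h3, h3, h3, hm, hm, hm, hm]
    exact four_group_check _ (hI a ha ha1) _ (hI b hb hb1) (by rw [← hm, ← hm, hab])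
      (fun h => hne (hinj h)) _ (hI j hj hj1)
  · have hT : enc t ∈ fours := by
      exact (complete _ (hlt t)).2 ((h4 t).1 ht) fun h => ht2 ((he _).2 (by rw [hm]; exact h))
    have ht' : t * (t * (t * t)) = 1 := by rw [← ht, pow_succ', pow_succ', pow_two]
    have i1 : t⁻¹ = t * (t * t) := inv_eq_of_mul_eq_one_right ht'
    have i2 : (t * t)⁻¹ = t * t := inv_eq_of_mul_eq_one_right (by rw [← ht', mul_assoc])
    have i3 : (t * (t * t))⁻¹ = t := inv_eq_of_mul_eq_one_left ht'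
    rcases cyclic_check _ hT _ (hI j hj hj1) (by rw [← hm, ← hm, ← h3]; exact hodd) with h | h | h
    · exact ⟨t, Or.inl rfl, by rw [h4, i1, hm, hm, hm, hm, hm]; exact h⟩
    · exact ⟨_, Or.inr (Or.inl rfl), by rw [h4, i2, hm, hm, hm, hm]; exact h⟩
    · exact ⟨_, Or.inr (Or.inr rfl), by rw [h4, i3, hm, hm, hm, hm, hm]; exact h⟩

end Cfsg.Lib.Bicyclic.Lin3
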