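import Cfsg.Agent.Lib.Fusion.SectionalRankTwo
import Cfsg.Agent.Lib.PGroup.FrattiniStab
import Cfsg.Agent.Lib.PGroup.Huppert
import Cfsg.Agent.Lib.FusionSys.Bicyclic.Lin3

/-!
# General facts used for bicyclic 2-groups

Subgroups of metacyclic groups, sections of order eight and exponent two, and lifting metacyclicity from the quotient by
the subgroup generated by the squares and the commutators of the derived subgroup.
-/

set_option autoImplicit false
set_option linter.style.haveILetI false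

namespace Cfsg.Lib.Bicyclic

open Subgroup
open scoped commutatorElement

universe u

variable {G : Type u} [Group G]

/-- The squares of the derived subgroup and its commutators with the group. -/
def derSet (G : Type*) [Group G] : Set G :=
  {u | ∃ g ∈ commutator G, u = g * g} ∪ {u | ∃ g ∈ commutator G, ∃ w : G, u = ⁅g, w⁆}

/-- The normal subgroup they generate. -/
def derSq (G : Type*) [Group G] : Subgroup G := normalClosure (derSet G)

instance derSq_normal : (derSq G).Normal := normalClosure_normal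

theorem comm_mem_commutator (g w : G) : ⁅g, w⁆ ∈ commutator G :=
  commutator_def G ▸ commutator_mem_commutator (mem_top g) (mem_top w)

theorem mul_self_mem_derSq {g : G} (hg : g ∈ commutator G) : g * g ∈ derSq G :=
  subset_normalClosure (Or.inl ⟨g, hg, rfl⟩)

theorem comm_mem_derSq {g : G} (hg : g ∈ commutator G) (w : G) : ⁅g, w⁆ ∈ derSq G :=
  subset_normalClosure (Or.inr ⟨g, hg, w, rfl⟩)

theorem derSq_le_commutator : derSq G ≤ commutator G := by
  refine normalClosure_le_normal ?_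
  rintro u (⟨g, hg, rfl⟩ | ⟨g, -, w, rfl⟩)
  · exact mul_mem hg hg
  · exact comm_mem_commutator g w

theorem map_commutator_le {H : Type*} [Group H] (f : G →* H) : (commutator G).map f ≤ commutator H := by
  rw [commutator_def, commutator_def, map_commutator]
  exact commutator_mono le_top le_top

theorem map_derSq_le {H : Type*} [Group H] (f : G →* H) : (derSq G).map f ≤ derSq H := by
  rw [map_le_iff_le_comap]
  refine normalClosure_le_normal ?_
  rintro u (⟨g, hg, rfl⟩ | ⟨g, hg, w, rfl⟩)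
  · rw [SetLike.mem_coe, mem_comap, map_mul]
    exact mul_self_mem_derSq (map_commutator_le f (mem_map_of_mem f hg))
  · rw [SetLike.mem_coe, mem_comap, map_commutatorElement]
    exact comm_mem_derSq (map_commutator_le f (mem_map_of_mem f hg)) _

/-- Metacyclicity lifts through a central involution among those elements. -/
theorem isMetacyclic_of_quotient {z : G} (hzK : z ∈ derSq G) (hzZ : z ∈ center G) (hz2 : z * z = 1)
    [(zpowers z).Normal] (hQ : Cfsg.IsMetacyclic (G ⧸ zpowers z)) : Cfsg.IsMetacyclic G := by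
  set Z := zpowers z with hZ
  obtain ⟨N, hNn, hNc, hQc⟩ := hQ
  set π := QuotientGroup.mk' Z with hπ
  obtain ⟨ā, hā⟩ := hNc.exists_generator
  obtain ⟨a, ha⟩ := QuotientGroup.mk'_surjective Z (ā : G ⧸ Z)
  have hNform : ∀ g : G, π g ∈ N → ∃ (i e : ℤ), g = a ^ i * z ^ e := by
    intro g hg
    obtain ⟨i, hi⟩ := mem_zpowers_iff.mp (hā ⟨π g, hg⟩)
    have h1 : (a ^ i)⁻¹ * g ∈ Z := QuotientGroup.eq.mp (by
      show π (a ^ i) = π g
      rw [map_zpow, hπ, ha, ← Subgroup.coe_zpow, hi])
    obtain ⟨e, he⟩ := mem_zpowers_iff.mp h1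
    exact ⟨i, e, by rw [he]; group⟩
  have haN : π a ∈ N := by rw [hπ, ha]; exact ā.2
  have hzc : ∀ u, u * z = z * u := mem_center_iff.mp hzZ
  have hz2' : ∀ e : ℤ, z ^ e * z ^ e = 1 := fun e => by
    rw [← (Commute.refl z).mul_zpow, hz2, one_zpow]
  set A := zpowers (a * a) with hA
  have hconjA : ∀ g : G, g * (a * a) * g⁻¹ ∈ A := by
    intro g
    obtain ⟨i, e, hie⟩ := hNform (g * a * g⁻¹) (by
      rw [map_mul, map_mul, map_inv]; exact hNn.conj_mem _ haN _)
    have : g * (a * a) * g⁻¹ = (a * a) ^ i := by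
      calc g * (a * a) * g⁻¹ = (g * a * g⁻¹) * (g * a * g⁻¹) := by group
        _ = (a ^ i * z ^ e) * (a ^ i * z ^ e) := by rw [hie]
        _ = (a ^ i * a ^ i) * (z ^ e * z ^ e) := by
            rw [mul_assoc (a ^ i) (z ^ e), ← mul_assoc (z ^ e) (a ^ i),
              ← ((show Commute (a ^ i) z from hzc _).zpow_right e).eq]
            group
        _ = _ := by rw [hz2' e, mul_one, ← (Commute.refl a).mul_zpow]
    rw [this]
    exact zpow_mem (mem_zpowers _) i
  haveI hAn : A.Normal := ⟨fun u hu g => by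
    obtain ⟨i, rfl⟩ := mem_zpowers_iff.mp hu
    rw [← conj_zpow]
    exact zpow_mem (hconjA g) i⟩
  set M := A ⊔ Z with hM
  haveI : M.Normal := inferInstance
  -- `G / M` is commutative
  set ρ := QuotientGroup.mk' M with hρ
  have hac : ∀ g : G, Commute (ρ g) (ρ a) := by
    intro g
    obtain ⟨i, e, hie⟩ := hNform (g * a * g⁻¹) (by
      rw [map_mul, map_mul, map_inv]; exact hNn.conj_mem _ haN _)
    have hρz : ρ z = 1 := (QuotientGroup.eq_one_iff z).mpr (mem_sup_right (mem_zpowers z))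
    have hρa : ρ a * ρ a = 1 := by
      rw [← map_mul]; exact (QuotientGroup.eq_one_iff _).mpr (mem_sup_left (mem_zpowers _))
    have h1 : ρ g * ρ a * (ρ g)⁻¹ = ρ a ^ i := by
      rw [← map_inv, ← map_mul, ← map_mul, hie, map_mul, map_zpow, map_zpow, hρz, one_zpow, mul_one]
    rcases Int.even_or_odd i with ⟨k, rfl⟩ | ⟨k, rfl⟩
    · rw [← two_mul, zpow_mul, zpow_two, hρa, one_zpow, conj_eq_one_iff] at h1
      rw [h1]; exact Commute.one_right _
    · rw [zpow_add, zpow_mul, zpow_two, hρa, one_zpow, one_mul, zpow_one] at h1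
      exact mul_inv_eq_iff_eq_mul.mp h1
  have hcomm : ∀ g h : G, ⁅g, h⁆ ∈ M := by
    obtain ⟨q, hq⟩ := hQc.exists_generator
    obtain ⟨qb, hqb⟩ := QuotientGroup.mk'_surjective N q
    obtain ⟨b, hb⟩ := QuotientGroup.mk'_surjective Z qb
    have hform : ∀ g : G, ∃ i k : ℤ, ρ g = ρ b ^ k * ρ a ^ i := by
      intro g
      obtain ⟨k, hk⟩ := mem_zpowers_iff.mp (hq (QuotientGroup.mk' N (π g)))
      have h1 : π ((b ^ k)⁻¹ * g) ∈ N := by
        rw [map_mul, map_inv, map_zpow, hπ, hb, ← QuotientGroup.eq_one_iff,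
          ← QuotientGroup.mk'_apply, map_mul, map_inv, map_zpow, hqb, hk, inv_mul_cancel]
      obtain ⟨i, e, hie⟩ := hNform _ h1
      refine ⟨i, k, ?_⟩
      have hρz : ρ z = 1 := (QuotientGroup.eq_one_iff z).mpr (mem_sup_right (mem_zpowers z))
      have h2 : g = b ^ k * (a ^ i * z ^ e) := by rw [← hie]; group
      rw [h2, map_mul, map_mul, map_zpow, map_zpow, map_zpow, hρz, one_zpow, mul_one]
    intro g h
    obtain ⟨i, k, hg⟩ := hform g
    obtain ⟨i', k', hh⟩ := hform h
    rw [← QuotientGroup.eq_one_iff, ← QuotientGroup.mk'_apply, ← hρ, map_commutatorElement,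
      commutatorElement_eq_one_iff_mul_comm, hg, hh]
    have hbb : Commute (ρ b ^ k) (ρ b ^ k') := (Commute.refl _).zpow_zpow k k'
    have hba : ∀ u v : ℤ, Commute (ρ b ^ u) (ρ a ^ v) := fun u v => (hac b).zpow_zpow u v
    have haa : Commute (ρ a ^ i) (ρ a ^ i') := (Commute.refl _).zpow_zpow i i'
    exact ((hbb.mul_right (hba k i')).mul_left ((hba k' i).symm.mul_right haa)).eq
  have hMle : commutator G ≤ M := by
    rw [commutator_def]; exact commutator_le.mpr fun g _ h _ => hcomm g h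
  have hMform : ∀ u ∈ M, ∃ i e : ℤ, u = (a * a) ^ i * z ^ e := by
    intro u hu
    have hu' : u ∈ ((A ⊔ Z : Subgroup G) : Set G) := hu
    rw [Subgroup.normal_mul] at hu'
    obtain ⟨v, hv, w, hw, rfl⟩ := hu'
    obtain ⟨i, rfl⟩ := mem_zpowers_iff.mp hv
    obtain ⟨e, rfl⟩ := mem_zpowers_iff.mp hw
    exact ⟨i, e, rfl⟩
  have hKA : derSq G ≤ A := by
    refine normalClosure_le_normal ?_
    rintro u (⟨g, hg, rfl⟩ | ⟨g, hg, w, rfl⟩)
    · obtain ⟨i, e, rfl⟩ := hMform g (hMle hg)
      have : (a * a) ^ i * z ^ e * ((a * a) ^ i * z ^ e) = (a * a) ^ i * (a * a) ^ i := by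
        rw [mul_assoc _ (z ^ e), ← mul_assoc (z ^ e),
          ← ((show Commute ((a * a) ^ i) z from hzc _).zpow_right e).eq, mul_assoc _ (z ^ e) (z ^ e),
          hz2' e, mul_one]
      rw [this]
      exact mul_mem (zpow_mem (mem_zpowers _) i) (zpow_mem (mem_zpowers _) i)
    · obtain ⟨i, e, rfl⟩ := hMform g (hMle hg)
      have hcz : Commute w (z ^ e) := (show Commute w z from hzc w).zpow_right e
      have : ⁅(a * a) ^ i * z ^ e, w⁆ = (a * a) ^ i * (w * ((a * a) ^ i)⁻¹ * w⁻¹) := by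
        rw [commutatorElement_def]
        calc (a * a) ^ i * z ^ e * w * ((a * a) ^ i * z ^ e)⁻¹ * w⁻¹
            = (a * a) ^ i * (z ^ e * w) * (z ^ e)⁻¹ * ((a * a) ^ i)⁻¹ * w⁻¹ := by group
          _ = (a * a) ^ i * (w * z ^ e) * (z ^ e)⁻¹ * ((a * a) ^ i)⁻¹ * w⁻¹ := by rw [hcz.eq]
          _ = _ := by group
      rw [this]
      exact A.mul_mem (zpow_mem (mem_zpowers _) i) (hAn.conj_mem _ (inv_mem (zpow_mem (mem_zpowers _) i)) w)
  have hza : z ∈ zpowers a :=
    (zpowers_le.mpr (mul_mem (mem_zpowers a) (mem_zpowers a))) (hKA hzK)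
  have hcomap : N.comap π = zpowers a := by
    refine le_antisymm (fun g hg => ?_) (zpowers_le.mpr haN)
    obtain ⟨i, e, rfl⟩ := hNform g hg
    exact mul_mem (zpow_mem (mem_zpowers a) i) (zpow_mem hza e)
  refine ⟨N.comap π, hNn.comap π, ?_, ?_⟩
  · rw [hcomap]; infer_instance
  · haveI := hQc
    let f : G →* (G ⧸ Z) ⧸ N := (QuotientGroup.mk' N).comp π
    have hf : Function.Surjective f :=
      (QuotientGroup.mk'_surjective N).comp (QuotientGroup.mk'_surjective Z)
    have hker : N.comap π = f.ker := by rw [← MonoidHom.comap_ker, QuotientGroup.ker_mk']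
    exact ((QuotientGroup.quotientMulEquivOfEq hker).trans
      (QuotientGroup.quotientKerEquivOfSurjective f hf)).isCyclic.mpr hQc

/-- Metacyclicity lifts from quotients by parts of that subgroup. -/
theorem isMetacyclic_of_le_derSq : ∀ (n : ℕ) (G : Type u) [Group G] [Finite G], Nat.card G = n →
    IsPGroup 2 G → ∀ (K : Subgroup G) [K.Normal], K ≤ derSq G → Cfsg.IsMetacyclic (G ⧸ K) →
      Cfsg.IsMetacyclic G := by
  intro n
  induction n using Nat.strong_induction_on with
  | _ n ih =>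
  intro G _ _ hn h2 K _ hK hQ
  by_cases hK1 : K = ⊥
  · subst hK1
    exact Cfsg.Lib.PGroup.Huppert.isMetacyclic_map (QuotientGroup.quotientBot (G := G)).toMonoidHom
      (QuotientGroup.quotientBot (G := G)).surjective hQ
  obtain ⟨z, hzK, hzZ, hz1, hz2⟩ := Cfsg.Lib.Fusion.RankTwo.exists_central_involution h2 hK1
  haveI hZn : (zpowers z).Normal := ⟨fun u hu g => by
    rw [mem_center_iff.mp (zpowers_le.mpr hzZ hu) g, mul_inv_cancel_right]; exact hu⟩
  refine isMetacyclic_of_quotient (hK hzK) hzZ hz2 ?_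
  have hlt : Nat.card (G ⧸ zpowers z) < n := by
    rw [← hn, ← Subgroup.index_eq_card, ← (zpowers z).card_mul_index]
    refine lt_mul_of_one_lt_left (Nat.pos_of_ne_zero index_ne_zero_of_finite) ?_
    rw [Nat.card_zpowers]
    exact lt_of_le_of_ne (orderOf_pos z) fun h => hz1 (orderOf_eq_one_iff.mp h.symm)
  set π := QuotientGroup.mk' (zpowers z) with hπ
  haveI : (K.map π).Normal := ‹K.Normal›.map π (QuotientGroup.mk'_surjective _)
  refine ih _ hlt (G ⧸ zpowers z) rfl (h2.to_quotient _) (K.map π)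
    ((map_mono hK).trans (map_derSq_le π)) ?_
  let e := QuotientGroup.quotientQuotientEquivQuotient (zpowers z) K (zpowers_le.mpr hzK)
  exact Cfsg.Lib.PGroup.Huppert.isMetacyclic_map e.symm.toMonoidHom e.symm.surjective hQ

/-- A subgroup of a metacyclic group is metacyclic. -/
theorem isMetacyclic_subgroup (hm : Cfsg.IsMetacyclic G) (H : Subgroup G) : Cfsg.IsMetacyclic H := by
  obtain ⟨N, hN, hNc, hQc⟩ := hm
  haveI := hN
  haveI := hNc
  haveI := hQc
  refine ⟨N.subgroupOf H, inferInstance, ?_, ?_⟩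
  · exact isCyclic_of_injective ((H.subtype.comp (N.subgroupOf H).subtype).codRestrict N fun v => v.2)
      fun v w h => Subtype.ext (Subtype.ext (congrArg (fun t : N => (t : G)) h))
  · refine isCyclic_of_injective (QuotientGroup.map (N.subgroupOf H) N H.subtype le_rfl) ?_
    rw [← MonoidHom.ker_eq_bot_iff, eq_bot_iff]
    intro q hq
    obtain ⟨h, rfl⟩ := QuotientGroup.mk_surjective q
    exact mem_bot.mpr ((QuotientGroup.eq_one_iff h).mpr
      (show h ∈ N.subgroupOf H from (QuotientGroup.eq_one_iff (N := N) (h : G)).mp hq))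

theorem isMetacyclic_le {H K : Subgroup G} (hm : Cfsg.IsMetacyclic K) (h : H ≤ K) :
    Cfsg.IsMetacyclic H :=
  Cfsg.Lib.PGroup.Huppert.isMetacyclic_map (subgroupOfEquivOfLe h).toMonoidHom
    (subgroupOfEquivOfLe h).surjective (isMetacyclic_subgroup hm _)

/-- A metacyclic group is generated by two elements. -/
theorem two_gen_of_metacyclic (hm : Cfsg.IsMetacyclic G) :
    ∃ a b : G, closure ({a, b} : Set G) = ⊤ := by
  obtain ⟨N, hN, hNc, hQc⟩ := hm
  obtain ⟨a, ha⟩ := hNc.exists_generator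
  obtain ⟨q, hq⟩ := hQc.exists_generator
  obtain ⟨b, rfl⟩ := QuotientGroup.mk_surjective q
  refine ⟨a, b, eq_top_iff.mpr fun g _ => ?_⟩
  obtain ⟨k, hk⟩ := mem_zpowers_iff.mp (hq g)
  rw [← QuotientGroup.mk_zpow, QuotientGroup.eq] at hk
  obtain ⟨i, hi⟩ := mem_zpowers_iff.mp (ha ⟨_, hk⟩)
  have e : g = b ^ k * ((a : G)) ^ i := by
    rw [← Subgroup.coe_zpow, hi, mul_inv_cancel_left]
  rw [e]
  exact mul_mem (zpow_mem (subset_closure (by simp)) k) (zpow_mem (subset_closure (by simp)) i)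

/-- A metacyclic group has no three independent commuting involutions. -/
theorem no_three [Finite G] (hm : Cfsg.IsMetacyclic G) {a b c : G} (ha : a * a = 1) (hb : b * b = 1)
    (hc : c * c = 1) (hab : a * b = b * a) (hac : a * c = c * a) (hbc : b * c = c * b)
    (a1 : a ≠ 1) (b1 : b ≠ 1) (ba : b ≠ a) (c1 : c ≠ 1) (ca : c ≠ a) (cb : c ≠ b)
    (cab : c ≠ a * b) : False := by
  set A := closure ({a, b, c} : Set G) with hA
  haveI : IsMulCommutative A := by
    refine isMulCommutative_closure ?_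
    intro u hu v hv
    simp only [Set.mem_insert_iff, Set.mem_singleton_iff] at hu hv
    rcases hu with rfl | rfl | rfl <;> rcases hv with rfl | rfl | rfl <;>
      first | rfl | assumption | exact hab.symm | exact hac.symm | exact hbc.symm
  have hexp : ∀ w : A, w * w = 1 := by
    rintro ⟨w, hw⟩
    induction hw using closure_induction with
    | mem v hv =>
      simp only [Set.mem_insert_iff, Set.mem_singleton_iff] at hv
      rcases hv with rfl | rfl | rfl <;> exact Subtype.ext (by assumption)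
    | one => exact mul_one _
    | mul v v' hv hv' i1 i2 =>
      show ((⟨v, hv⟩ : A) * ⟨v', hv'⟩) * (⟨v, hv⟩ * ⟨v', hv'⟩) = 1
      rw [← pow_two, Commute.mul_pow ((IsMulCommutative.is_comm (M := A)).comm _ _), pow_two, pow_two,
        i1, i2, one_mul]
    | inv v hv ih =>
      show (⟨v, hv⟩ : A)⁻¹ * (⟨v, hv⟩ : A)⁻¹ = 1
      rw [← mul_inv_rev, ih, inv_one]
  have hmA := isMetacyclic_subgroup hm A
  have h4 : Nat.card A ≤ 2 * 2 := by
    obtain ⟨N, hN, hNc, hQc⟩ := hmA
    haveI := hNc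
    haveI := hQc
    rw [← N.card_mul_index, Subgroup.index_eq_card]
    refine Nat.mul_le_mul ?_ ?_
    · obtain ⟨g, hg⟩ := IsCyclic.exists_ofOrder_eq_natCard (α := N)
      exact hg ▸ Nat.le_of_dvd two_pos (orderOf_dvd_of_pow_eq_one (by
        rw [pow_two]; exact Subtype.ext (hexp g)))
    · obtain ⟨g, hg⟩ := IsCyclic.exists_ofOrder_eq_natCard (α := A ⧸ N)
      refine hg ▸ Nat.le_of_dvd two_pos (orderOf_dvd_of_pow_eq_one ?_)
      obtain ⟨g, rfl⟩ := QuotientGroup.mk_surjective g
      rw [pow_two, ← QuotientGroup.mk_mul, hexp, QuotientGroup.mk_one]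
  have haA : a ∈ A := subset_closure (by simp)
  have hbA : b ∈ A := subset_closure (by simp)
  have hcA : c ∈ A := subset_closure (by simp)
  have hinj := Lin3.val_inj (e₁ := (⟨a, haA⟩ : A)) (e₂ := ⟨b, hbA⟩) (e₃ := ⟨c, hcA⟩) hexp
    (fun h => a1 (congrArg Subtype.val h)) (fun h => b1 (congrArg Subtype.val h))
    (fun h => ba (congrArg Subtype.val h)) (fun n hn => by
      interval_cases n <;> simp [Lin3.val, Subtype.ext_iff, c1, ca, cb, cab])
  have h8 := Nat.card_le_card_of_injective (fun n : Fin 8 => Lin3.val (⟨a, haA⟩ : A) ⟨b, hbA⟩ ⟨c, hcA⟩ n)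
    fun m n h => Fin.ext (hinj m m.2 n n.2 h)
  rw [Nat.card_fin] at h8
  omega

/-- A metacyclic group has no section of order eight and exponent two. -/
theorem no_section [Finite G] (hm : Cfsg.IsMetacyclic G) {z a b c : G}
    (za : z * a = a * z) (zb : z * b = b * z) (zc : z * c = c * z)
    (ha : a * a ∈ zpowers z) (hb : b * b ∈ zpowers z) (hc : c * c ∈ zpowers z)
    (hab : ⁅a, b⁆ ∈ zpowers z) (hac : ⁅a, c⁆ ∈ zpowers z) (hbc : ⁅b, c⁆ ∈ zpowers z)
    (a1 : a ∉ zpowers z) (b1 : b ∉ zpowers z) (ba : a⁻¹ * b ∉ zpowers z)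
    (c1 : c ∉ zpowers z) (ca : a⁻¹ * c ∉ zpowers z) (cb : b⁻¹ * c ∉ zpowers z)
    (cab : (a * b)⁻¹ * c ∉ zpowers z) : False := by
  set K := closure ({z, a, b, c} : Set G) with hK
  have hzK : z ∈ K := subset_closure (by simp)
  set Z := (zpowers z).subgroupOf K with hZ
  haveI : Z.Normal := by
    refine ⟨fun v hv g => ?_⟩
    rw [hZ, mem_subgroupOf] at hv ⊢
    have hgz : (g : G) ∈ centralizer ({z} : Set G) := by
      refine (closure_le _).mpr ?_ g.2
      intro w hw
      simp only [Set.mem_insert_iff, Set.mem_singleton_iff] at hw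
      rw [SetLike.mem_coe, mem_centralizer_singleton_iff]
      rcases hw with rfl | rfl | rfl | rfl
      · rfl
      · exact za.symm
      · exact zb.symm
      · exact zc.symm
    obtain ⟨i, hi⟩ := mem_zpowers_iff.mp hv
    rw [mem_centralizer_singleton_iff] at hgz
    simp only [Subgroup.coe_mul, Subgroup.coe_inv]
    rw [← hi, ((show Commute (g : G) z from hgz).zpow_right i).eq, mul_inv_cancel_right]
    exact zpow_mem (mem_zpowers z) i
  have hmK : Cfsg.IsMetacyclic (K ⧸ Z) :=
    Cfsg.Lib.PGroup.Huppert.isMetacyclic_map (QuotientGroup.mk' Z) (QuotientGroup.mk'_surjective Z)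
      (isMetacyclic_subgroup hm K)
  let q : ∀ w : G, w ∈ K → K ⧸ Z := fun w hw => QuotientGroup.mk ⟨w, hw⟩
  have haK : a ∈ K := subset_closure (by simp)
  have hbK : b ∈ K := subset_closure (by simp)
  have hcK : c ∈ K := subset_closure (by simp)
  have e1 : ∀ (v : K), (QuotientGroup.mk v : K ⧸ Z) = 1 ↔ (v : G) ∈ zpowers z := fun v => by
    rw [QuotientGroup.eq_one_iff, hZ, mem_subgroupOf]
  have e2 : ∀ (v w : K), (QuotientGroup.mk w : K ⧸ Z) = QuotientGroup.mk v ↔
      (v : G)⁻¹ * w ∈ zpowers z := fun v w => by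
    rw [eq_comm, QuotientGroup.eq, hZ, mem_subgroupOf]
    rfl
  have e3 : ∀ (v w : K), ⁅(v : G), (w : G)⁆ ∈ zpowers z →
      (QuotientGroup.mk v : K ⧸ Z) * QuotientGroup.mk w = QuotientGroup.mk w * QuotientGroup.mk v :=
    fun v w h => by
      rw [← commutatorElement_eq_one_iff_mul_comm, ← QuotientGroup.mk'_apply, ← QuotientGroup.mk'_apply,
        ← map_commutatorElement, QuotientGroup.mk'_apply, e1]
      exact h
  refine no_three hmK (a := q a haK) (b := q b hbK) (c := q c hcK) ?_ ?_ ?_ (e3 _ _ hab) (e3 _ _ hac)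
    (e3 _ _ hbc) (fun h => a1 ((e1 _).1 h)) (fun h => b1 ((e1 _).1 h)) (fun h => ba ((e2 _ _).1 h))
    (fun h => c1 ((e1 _).1 h)) (fun h => ca ((e2 _ _).1 h)) (fun h => cb ((e2 _ _).1 h))
    (fun h => cab ((e2 ⟨a * b, mul_mem haK hbK⟩ _).1 h))
  · exact (e1 (⟨a, haK⟩ * ⟨a, haK⟩)).2 ha
  · exact (e1 (⟨b, hbK⟩ * ⟨b, hbK⟩)).2 hb
  · exact (e1 (⟨c, hcK⟩ * ⟨c, hcK⟩)).2 hc

end Cfsg.Lib.Bicyclic
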