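import Cfsg.Agent.Lib.FusionSys.Bicyclic.Shape

/-!
# The fixed points of an automorphism of order three and the case of a commutative subgroup

The fixed points centralize a small commutator subgroup and give a cyclic complement modulo it; if the subgroup is
abelian and normal the derived subgroup of the group is cyclic.
-/

set_option autoImplicit false
set_option linter.style.haveILetI false

namespace Cfsg.Lib.Bicyclic

open Subgroup
open scoped commutatorElement

universe u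

variable {G : Type u} [Group G]

namespace Fr

variable {E : Subgroup G} {a : G → G} {σ : G} (F : Fr E a σ)
include F

theorem map_conj {c g : G} (hc : c ∈ F.fixC) (hg : g ∈ E) : a (c * g * c⁻¹) = c * a g * c⁻¹ := by
  rw [F.mul _ (E.mul_mem hc.1 hg) _ (E.inv_mem hc.1), F.mul _ hc.1 _ hg, F.map_inv hc.1, hc.2]

theorem inv_twice {g : G} (hg : g ∈ E) :
    a (σ * σ * g * (σ * σ)⁻¹) = σ * σ * a g * (σ * σ)⁻¹ := by
  have hm := F.conj_mem hg
  have hm' := F.conj_mem hm
  calc a (σ * σ * g * (σ * σ)⁻¹) = a (σ * (σ * g * σ⁻¹) * σ⁻¹) := congrArg a (by group)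
    _ = a (a (a (a (σ * (σ * g * σ⁻¹) * σ⁻¹)))) := (congrArg a (F.cube _ hm')).symm
    _ = a (a (σ * a (σ * g * σ⁻¹) * σ⁻¹)) := by rw [F.inv _ hm]
    _ = σ * a (a (σ * g * σ⁻¹)) * σ⁻¹ := (F.inv _ (F.mem _ hm)).symm
    _ = σ * (σ * a g * σ⁻¹) * σ⁻¹ := by rw [← F.inv g hg]
    _ = _ := by group

variable [Finite G] (h2 : IsPGroup 2 G)
include h2

/-- A fixed element does not move a class to its image. -/
theorem fix_class {N : Subgroup G} (hNU : N ≤ comU E a)
    (hcomm : ∀ v ∈ comU E a, ∀ w ∈ comU E a, ⁅v, w⁆ ∈ N) (hNa : ∀ v ∈ N, a v ∈ N)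
    (hNc : ∀ c ∈ F.fixC, ∀ k ∈ N, c * k * c⁻¹ ∈ N)
    {c : G} (hc : c ∈ F.fixC) {v : G} (hv : v ∈ comU E a) (hvN : v ∉ N) :
    (a v)⁻¹ * (c * v * c⁻¹) ∉ N := by
  intro hm
  have hvE := F.comU_le hv
  have key : ∀ k : ℕ, (a^[k] v)⁻¹ * (c ^ k * v * (c ^ k)⁻¹) ∈ N ∧ a^[k] v ∈ E := by
    intro k
    induction k with
    | zero => exact ⟨by simp, hvE⟩
    | succ k ih =>
      obtain ⟨i1, i2⟩ := ih
      have hck : c ^ k ∈ F.fixC := pow_mem hc k
      refine ⟨?_, by rw [Function.iterate_succ_apply']; exact F.mem _ i2⟩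
      have hconjE : c ^ k * v * (c ^ k)⁻¹ ∈ E := E.mul_mem (E.mul_mem hck.1 hvE) (E.inv_mem hck.1)
      have e : (a^[k + 1] v)⁻¹ * (c ^ (k + 1) * v * (c ^ (k + 1))⁻¹) =
          a ((a^[k] v)⁻¹ * (c ^ k * v * (c ^ k)⁻¹)) *
            (c ^ k * ((a v)⁻¹ * (c * v * c⁻¹)) * (c ^ k)⁻¹) := by
        rw [F.mul _ (E.inv_mem i2) _ hconjE, F.map_inv i2, F.map_conj hck hvE,
          Function.iterate_succ_apply', pow_succ]
        group
      rw [e]
      exact mul_mem (hNa _ i1) (hNc _ hck _ hm)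
  obtain ⟨m, hcm⟩ := h2 c
  have h1 := (key (2 ^ m)).1
  rw [hcm, inv_one, one_mul, mul_one] at h1
  have hmod : ∀ k : ℕ, a^[k] v = a^[k % 3] v := by
    intro k
    conv_lhs => rw [← Nat.mod_add_div k 3, Function.iterate_add_apply]
    congr 1
    induction k / 3 with
    | zero => rfl
    | succ n ih =>
      rw [Nat.mul_succ, add_comm, Function.iterate_add_apply, ih]
      show a (a (a v)) = v
      exact F.cube v hvE
  rw [hmod] at h1
  have h3 : 2 ^ m % 3 = 1 ∨ 2 ^ m % 3 = 2 := by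
    have : ¬ (3 ∣ 2 ^ m) := fun hd => absurd (Nat.prime_three.dvd_of_dvd_pow hd) (by norm_num)
    omega
  rcases h3 with e | e <;> rw [e] at h1
  · exact hvN (F.fixed_mem h2 hNU hcomm hNa hv (by simpa using inv_mem h1))
  · have h4 := hNa _ h1
    rw [show a^[2] v = a (a v) from rfl, F.mul _ (E.inv_mem (F.mem _ (F.mem _ hvE))) _ hvE,
      F.map_inv (F.mem _ (F.mem _ hvE)), F.cube v hvE] at h4
    exact hvN (F.fixed_mem h2 hNU hcomm hNa hv h4)

theorem fix_class' {N : Subgroup G} (hNU : N ≤ comU E a)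
    (hcomm : ∀ v ∈ comU E a, ∀ w ∈ comU E a, ⁅v, w⁆ ∈ N) (hNa : ∀ v ∈ N, a v ∈ N)
    (hNc : ∀ c ∈ F.fixC, ∀ k ∈ N, c * k * c⁻¹ ∈ N)
    {c : G} (hc : c ∈ F.fixC) {v : G} (hv : v ∈ comU E a) (hvN : v ∉ N) :
    (a (a v))⁻¹ * (c * v * c⁻¹) ∉ N := by
  intro hm
  refine F.fix_class h2 hNU hcomm hNa hNc (inv_mem hc) hv hvN ?_
  have hvE := F.comU_le hv
  have hci := inv_mem hc
  have h1 := hNa _ (hNc _ hci _ hm)
  rw [show c⁻¹ * ((a (a v))⁻¹ * (c * v * c⁻¹)) * c⁻¹⁻¹ = (c⁻¹ * a (a v) * c⁻¹⁻¹)⁻¹ * v by group] at h1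
  have hE : c⁻¹ * a (a v) * c⁻¹⁻¹ ∈ E :=
    E.mul_mem (E.mul_mem hci.1 (F.mem _ (F.mem _ hvE))) (E.inv_mem hci.1)
  rw [F.mul _ (E.inv_mem hE) _ hvE, F.map_inv hE, F.map_conj hci (F.mem _ (F.mem _ hvE)),
    F.cube v hvE] at h1
  simpa [mul_assoc] using inv_mem h1

theorem fix_mem_of_mem {N : Subgroup G} (hNU : N ≤ comU E a)
    (hcomm : ∀ v ∈ comU E a, ∀ w ∈ comU E a, ⁅v, w⁆ ∈ N) (hNa : ∀ v ∈ N, a v ∈ N)
    {c : G} (hc : c ∈ F.fixC) (hcU : c ∈ comU E a) : c ∈ N :=
  F.fixed_mem h2 hNU hcomm hNa hcU (by rw [hc.2, inv_mul_cancel]; exact one_mem N)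

end Fr

namespace Fr

variable {E : Subgroup G} {a : G → G} {σ : G} (F : Fr E a σ) [Finite G] {x y : G} (h : BC G x y)
include F h

theorem Small.zpow_map {z : G} (S : Small E a z) : ∀ k ∈ zpowers z, a k ∈ zpowers z := fun k hk => by
  rcases (mem_zpowers_invol S.two).mp hk with rfl | rfl
  · rw [F.one]; exact one_mem _
  · rw [S.fix]; exact mem_zpowers _

omit F h [Finite G] in
theorem Small.le {z : G} (S : Small E a z) : zpowers z ≤ comU E a := zpowers_le.mpr S.mem

omit F h [Finite G] in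
theorem Small.central {z : G} (S : Small E a z) {k : G} (hk : k ∈ zpowers z) {g : G}
    (hg : g ∈ comU E a) : g * k = k * g := by
  rcases (mem_zpowers_invol S.two).mp hk with rfl | rfl
  · rw [mul_one, one_mul]
  · exact S.comm g hg

/-- In the small case only `z` is fixed. -/
theorem Small.fixed {z : G} (S : Small E a z) {v : G} (hv : v ∈ comU E a)
    (hfix : v⁻¹ * a v ∈ zpowers z) : v ∈ zpowers z :=
  F.fixed_mem h.two S.le S.der (S.zpow_map F h) hv hfix

/-- The four classes of the small case. -/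
theorem Small.classes {z : G} (S : Small E a z) {v : G} (hv : v ∈ comU E a) (hvz : v ∉ zpowers z)
    {g : G} (hg : g ∈ comU E a) :
    g ∈ zpowers z ∨ v⁻¹ * g ∈ zpowers z ∨ (a v)⁻¹ * g ∈ zpowers z ∨ (a (a v))⁻¹ * g ∈ zpowers z := by
  have hsq : sqSub (comU E a) ≤ zpowers z := (closure_le _).mpr (by
    rintro w ⟨p, hp, rfl⟩; exact S.sq p hp)
  have hgen : comU E a = closure ({v, a v, 1} : Set G) := by
    rw [show ({v, a v, 1} : Set G) = {v, a v} ∪ {1} by ext; simp; tauto, Subgroup.closure_union,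
      closure_singleton_one, sup_bot_eq]
    exact F.gen_U h hv fun hm => hvz (hsq hm)
  obtain ⟨i, j, k, hi, hj, -, hm⟩ := Bicyclic.classes hgen (fun p hp q hq => by
    rw [S.central hq hp, mul_inv_cancel_right]; exact hq) S.sq hg
  rw [one_pow, mul_one] at hm
  interval_cases i <;> interval_cases j <;> simp only [pow_zero, pow_one, one_mul, mul_one, inv_one] at hm
  · exact Or.inl hm
  · exact Or.inr (Or.inr (Or.inl hm))
  · exact Or.inr (Or.inl hm)
  · refine Or.inr (Or.inr (Or.inr ?_))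
    have hn := F.norm_mem h.two S.le S.der (S.zpow_map F h) hv
    have hw := F.comU_map (F.comU_map hv)
    have hwsq := S.sq _ (inv_mem hw)
    set n := v * a v * a (a v)
    have e : (a (a v))⁻¹ * g = (a (a v))⁻¹ * n * (a (a v))⁻¹ * ((v * a v)⁻¹ * g) := by
      simp only [n]; group
    rw [e, ← S.central (k := n) hn (inv_mem hw) |>.symm]
    exact mul_mem (by rw [mul_assoc]; exact mul_mem hn hwsq) hm

/-- The fixed points centralize a small commutator subgroup. -/
theorem Small.commute {z : G} (S : Small E a z) {c : G} (hc : c ∈ F.fixC) {g : G}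
    (hg : g ∈ comU E a) : c * g = g * c := by
  have hzc : ∀ c ∈ F.fixC, c * z * c⁻¹ = z := fun c hc => by
    have hmem := F.comU_conj S.mem hc.1
    have hfz : a (c * z * c⁻¹) = c * z * c⁻¹ := by
      rw [F.map_conj hc (F.comU_le S.mem), S.fix]
    have := (mem_zpowers_invol S.two).mp (S.fixed F h hmem (by rw [hfz, inv_mul_cancel]; exact one_mem _))
    rcases this with e | e
    · rw [conj_eq_one_iff.mp e, mul_one, mul_inv_cancel]
    · exact e
  have hNc : ∀ c ∈ F.fixC, ∀ k ∈ zpowers z, c * k * c⁻¹ ∈ zpowers z := fun c hc k hk => by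
    rcases (mem_zpowers_invol S.two).mp hk with rfl | rfl
    · rw [mul_one, mul_inv_cancel]; exact one_mem _
    · rw [hzc c hc]; exact mem_zpowers _
  have hkc : ∀ k ∈ zpowers z, c * k * c⁻¹ = k := fun k hk => by
    rcases (mem_zpowers_invol S.two).mp hk with rfl | rfl
    · rw [mul_one, mul_inv_cancel]
    · exact hzc c hc
  have hd : ∀ g ∈ comU E a, g⁻¹ * (c * g * c⁻¹) ∈ zpowers z := by
    intro g hg
    by_cases hgz : g ∈ zpowers z
    · rw [hkc g hgz, inv_mul_cancel]; exact one_mem _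
    rcases S.classes F h hg hgz (F.comU_conj hg hc.1) with e | e | e | e
    · refine absurd ?_ hgz
      have := hNc _ (inv_mem hc) _ e
      simpa [mul_assoc] using this
    · exact e
    · exact absurd e (F.fix_class h.two S.le S.der (S.zpow_map F h) hNc hc hg hgz)
    · exact absurd e (F.fix_class' h.two S.le S.der (S.zpow_map F h) hNc hc hg hgz)
  have hmul : ∀ p ∈ comU E a, ∀ q ∈ comU E a, (p * q)⁻¹ * (c * (p * q) * c⁻¹) =
      (p⁻¹ * (c * p * c⁻¹)) * (q⁻¹ * (c * q * c⁻¹)) := fun p hp q hq => by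
    have := S.central (hd p hp) (inv_mem hq)
    calc _ = q⁻¹ * (p⁻¹ * (c * p * c⁻¹)) * (c * q * c⁻¹) := by group
      _ = _ := by rw [this]; group
  have hda : ∀ p ∈ comU E a, (a p)⁻¹ * (c * a p * c⁻¹) = p⁻¹ * (c * p * c⁻¹) := fun p hp => by
    have hpE := F.comU_le hp
    have e : a (p⁻¹ * (c * p * c⁻¹)) = (a p)⁻¹ * (c * a p * c⁻¹) := by
      rw [F.mul _ (E.inv_mem hpE) _ (F.comU_le (F.comU_conj hp hc.1)), F.map_inv hpE,
        F.map_conj hc hpE]
    rw [← e]
    rcases (mem_zpowers_invol S.two).mp (hd p hp) with e' | e' <;> rw [e']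
    · exact F.one
    · exact S.fix
  have hn := F.norm_mem h.two S.le S.der (S.zpow_map F h) hg
  set d := g⁻¹ * (c * g * c⁻¹) with hddef
  have h3 : d * d * d = 1 := by
    have h' := hkc _ hn
    have hg1 := F.comU_map hg
    calc d * d * d = (g * a g * a (a g))⁻¹ * (c * (g * a g * a (a g)) * c⁻¹) := by
          rw [hmul _ (mul_mem hg hg1) _ (F.comU_map hg1), hmul _ hg _ hg1, hda _ hg1, hda _ hg]
      _ = 1 := by rw [h', inv_mul_cancel]
  have hd1 : d = 1 := by
    rcases (mem_zpowers_invol S.two).mp (hd g hg) with e | e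
    · exact e
    · rw [show d = z from e] at h3 ⊢
      rwa [S.two, one_mul] at h3
  have := inv_mul_eq_one.mp hd1
  exact (mul_inv_eq_iff_eq_mul.mp this.symm)

/-- Modulo `[E, a]` the subgroup is cyclic. -/
theorem exists_cyc : ∃ c ∈ F.fixC, ∀ g ∈ E, ∃ v ∈ comU E a, ∃ i : ℤ, g = v * c ^ i := by
  set U := comU E a with hU
  set N := sqSub E with hN
  have hNE : N ≤ E := sqSub_le E
  have hNc : ∀ g ∈ E, ∀ k ∈ N, g * k * g⁻¹ ∈ N := fun g hg k hk =>
    sqSub_conj (fun v hv => E.mul_mem (E.mul_mem hg hv) (E.inv_mem hg)) hk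
  have hNa : ∀ k ∈ N, a k ∈ N := fun k hk => by
    refine (map_mem_closure F.one F.mul ?_ N ?_ hk).2
    · rintro w ⟨g, hg, rfl⟩; exact E.mul_mem hg hg
    · rintro w ⟨g, hg, rfl⟩; rw [F.mul _ hg _ hg]; exact sq_mem_sqSub (F.mem g hg)
  have hform : ∀ c ∈ F.fixC, E ≤ closure ((U : Set G) ∪ {c}) →
      ∀ g ∈ E, ∃ v ∈ U, ∃ i : ℤ, g = v * c ^ i := by
    intro c hc hle g hg
    have hg' := hle hg
    clear hg
    induction hg' using closure_induction with
    | mem w hw =>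
      rcases hw with hw | rfl
      · exact ⟨w, hw, 0, by rw [zpow_zero, mul_one]⟩
      · exact ⟨1, one_mem U, 1, by rw [zpow_one, one_mul]⟩
    | one => exact ⟨1, one_mem U, 0, by rw [zpow_zero, one_mul]⟩
    | mul p q _ _ i1 i2 =>
      obtain ⟨v, hv, i, rfl⟩ := i1
      obtain ⟨w, hw, j, rfl⟩ := i2
      exact ⟨v * (c ^ i * w * (c ^ i)⁻¹), mul_mem hv (F.comU_conj hw (E.zpow_mem hc.1 i)), i + j, by
        rw [zpow_add]; group⟩
    | inv p _ i1 =>
      obtain ⟨v, hv, i, rfl⟩ := i1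
      exact ⟨(c ^ i)⁻¹ * v⁻¹ * c ^ i, by
        simpa using F.comU_conj (inv_mem hv) (E.inv_mem (E.zpow_mem hc.1 i)), -i, by
        rw [zpow_neg]; group⟩
  set T := closure ((U : Set G) ∪ (N : Set G)) with hT
  have hTE : T ≤ E := (closure_le _).mpr (Set.union_subset F.comU_le hNE)
  have hNT : N ≤ T := fun k hk => subset_closure (Or.inr hk)
  have hUT : U ≤ T := fun k hk => subset_closure (Or.inl hk)
  obtain ⟨v, hvU, hvN⟩ : ∃ v ∈ U, v ∉ N := by
    by_contra hcon
    push Not at hcon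
    have hCE : F.fixC = E := eq_of_sup_sqSub h.two (fun c hc => hc.1) (fun g hg => by
      obtain ⟨v, hv, c, hc, rfl⟩ := F.decomp h.two hg
      exact mul_mem (mem_sup_right (hcon v hv)) (mem_sup_left hc))
    obtain ⟨g, hg, hne⟩ := F.moved
    exact hne ((hCE.ge hg).2)
  have h1 : 3 ≤ N.relIndex T := three_le_relIndex (hUT hvU) (hUT (F.comU_map hvU)) hvN
    (fun hm => hvN (by rw [← F.cube v (F.comU_le hvU)]; exact hNa _ (hNa _ hm)))
    (fun hm => hvN (F.fixed_mem h.two (N := N ⊓ U) inf_le_right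
      (fun p hp q hq => ⟨comm_mem_sqSub (F.comU_le hp) (F.comU_le hq),
        U.mul_mem (U.mul_mem (U.mul_mem hp hq) (U.inv_mem hp)) (U.inv_mem hq)⟩)
      (fun k hk => ⟨hNa k hk.1, F.comU_map hk.2⟩) hvU ⟨hm, U.mul_mem (U.inv_mem hvU) (F.comU_map hvU)⟩).1)
  obtain ⟨p, q, r, hpqr⟩ := h.three_gen E
  have h8 : N.relIndex E ≤ 8 := relIndex_le_eight hpqr.symm hNc (fun g hg => sq_mem_sqSub hg)
  rw [← relIndex_mul_relIndex N T E hNT hTE] at h8
  have h2' : T.relIndex E ≤ 2 := by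
    by_contra hc
    have := Nat.mul_le_mul h1 (show 3 ≤ T.relIndex E by omega)
    omega
  by_cases hTeq : E ≤ T
  · refine ⟨1, one_mem _, hform 1 (one_mem _) ?_⟩
    have hUE : U = E := eq_of_sup_sqSub h.two F.comU_le (by
      refine hTeq.trans ?_
      rw [hT, Subgroup.closure_union, closure_eq, closure_eq])
    intro g hg
    exact subset_closure (Or.inl (hUE.symm ▸ hg))
  obtain ⟨g, hgE, hgT⟩ := SetLike.not_le_iff_exists.mp hTeq
  obtain ⟨v', hv', c, hc, rfl⟩ := F.decomp h.two hgE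
  have hcT : c ∉ T := fun hm => hgT (mul_mem (hUT hv') hm)
  set T' := closure ((T : Set G) ∪ {c}) with hT'
  have hTT' : T ≤ T' := fun k hk => subset_closure (Or.inl hk)
  have hT'E : T' ≤ E := (closure_le _).mpr (Set.union_subset hTE (Set.singleton_subset_iff.mpr hc.1))
  have hne : T.relIndex T' ≠ 1 := fun e => hcT (relIndex_eq_one.mp e (subset_closure (Or.inr rfl)))
  have hpos : T.relIndex T' ≠ 0 := index_ne_zero_of_finite
  rw [← relIndex_mul_relIndex T T' E hTT' hT'E] at h2'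
  have hfull : E ≤ T' := by
    rw [← relIndex_eq_one]
    have hpos' : T'.relIndex E ≠ 0 := index_ne_zero_of_finite
    by_contra hc'
    have := Nat.mul_le_mul (show 2 ≤ T.relIndex T' by omega) (show 2 ≤ T'.relIndex E by omega)
    omega
  refine ⟨c, hc, hform c hc ?_⟩
  set T₀ := closure ((U : Set G) ∪ {c})
  have hT₀ : T₀ = E := eq_of_sup_sqSub h.two
    ((closure_le _).mpr (Set.union_subset F.comU_le (Set.singleton_subset_iff.mpr hc.1))) (by
      refine hfull.trans ((closure_le _).mpr (Set.union_subset ?_ ?_))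
      · intro k hk
        refine (closure_le (T₀ ⊔ N)).mpr ?_ hk
        exact Set.union_subset (fun u hu => mem_sup_left (subset_closure (Or.inl hu)))
          (fun u hu => mem_sup_right hu)
      · exact Set.singleton_subset_iff.mpr (mem_sup_left (subset_closure (Or.inr rfl))))
  exact hT₀.ge

/-- If `E` is abelian, normal, equal to `[E, a]`, and its involutions span at most a four group, the
derived subgroup is cyclic. -/
theorem derived_false (hnc : ¬ IsCyclic (commutator G)) (hEU : E ≤ comU E a)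
    (hab : ∀ p ∈ E, ∀ q ∈ E, p * q = q * p) (hN : ∀ g : G, g ∈ normalizer (E : Set G))
    (hfour : ∀ p ∈ E, ∀ q ∈ E, ∀ r ∈ E, p * p = 1 → q * q = 1 → r * r = 1 → p ≠ 1 → q ≠ 1 → q ≠ p →
      r = 1 ∨ r = p ∨ r = q ∨ r = p * q) : False := by
  have hcs : ∀ e ∈ E, σ * σ * e * (σ * σ)⁻¹ = e := fun e he => by
    rw [hab _ F.sq_mem _ he, mul_inv_cancel_right]
  let I : Subgroup G :=
    { carrier := {i | ∃ e ∈ E, i = e⁻¹ * (σ * e * σ⁻¹)}
      one_mem' := ⟨1, E.one_mem, by group⟩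
      mul_mem' := fun {i j} ⟨e, he, hi⟩ ⟨f, hf, hj⟩ => ⟨e * f, E.mul_mem he hf, by
        rw [hi, hj]
        have h1 := hab _ (E.mul_mem (E.inv_mem he) (F.conj_mem he)) _ (E.inv_mem hf)
        calc _ = e⁻¹ * (σ * e * σ⁻¹) * f⁻¹ * (σ * f * σ⁻¹) := by group
          _ = f⁻¹ * (e⁻¹ * (σ * e * σ⁻¹)) * (σ * f * σ⁻¹) := by rw [h1]
          _ = _ := by group⟩
      inv_mem' := fun {i} ⟨e, he, hi⟩ => ⟨e⁻¹, E.inv_mem he, by
        rw [hi, mul_inv_rev, hab _ (E.inv_mem (F.conj_mem he)) _ (E.inv_mem (E.inv_mem he))]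
        group⟩ }
  have hIE : I ≤ E := by
    rintro i ⟨e, he, rfl⟩
    exact E.mul_mem (E.inv_mem he) (F.conj_mem he)
  have hIσ : ∀ i ∈ I, σ * i * σ⁻¹ = i⁻¹ := by
    rintro i ⟨e, he, rfl⟩
    calc σ * (e⁻¹ * (σ * e * σ⁻¹)) * σ⁻¹ = (σ * e * σ⁻¹)⁻¹ * (σ * σ * e * (σ * σ)⁻¹) := by group
      _ = (σ * e * σ⁻¹)⁻¹ * e := by rw [hcs e he]
      _ = _ := by group
  have hgen : (⊤ : Subgroup G) = closure ((E : Set G) ∪ {σ}) := by
    refine (eq_top_iff.mpr fun g _ => ?_).symm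
    rcases F.cover g (hN g) with hg | hg
    · exact subset_closure (Or.inl hg)
    · have := mul_mem (subset_closure (Or.inr rfl) : σ ∈ closure ((E : Set G) ∪ {σ}))
        (subset_closure (Or.inl hg))
      rwa [mul_inv_cancel_left] at this
  have hIconj : ∀ g ∈ (⊤ : Subgroup G), ∀ k ∈ I, g * k * g⁻¹ ∈ I := by
    intro g _ k hk
    have hEk : ∀ e ∈ E, e * k * e⁻¹ = k := fun e he => by
      rw [hab e he k (hIE hk), mul_inv_cancel_right]
    rcases F.cover g (hN g) with hg | hg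
    · rw [hEk g hg]; exact hk
    · rw [show g * k * g⁻¹ = σ * ((σ⁻¹ * g) * k * (σ⁻¹ * g)⁻¹) * σ⁻¹ by group, hEk _ hg, hIσ k hk]
      exact inv_mem hk
  have hle : ∀ g ∈ commutator G, g ∈ I := by
    intro g hg
    refine (show commutator G ≤ I from ?_) hg
    rw [_root_.commutator_def]
    refine Subgroup.commutator_le.mpr fun p hp q hq =>
      comm_mem_of_gen hgen le_top hIconj ?_ hp hq
    rintro p (hp | rfl) q (hq | rfl)
    · rw [commutatorElement_eq_one_iff_mul_comm.mpr (hab p hp q hq)]; exact one_mem _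
    · exact ⟨p⁻¹, E.inv_mem hp, by rw [commutatorElement_def]; group⟩
    · rw [← commutatorElement_inv]
      exact inv_mem ⟨q⁻¹, E.inv_mem hq, by rw [commutatorElement_def]; group⟩
    · rw [commutatorElement_self]; exact one_mem _
  letI : CommGroup (commutator G) :=
    { (inferInstance : Group (commutator G)) with
      mul_comm := fun p q => Subtype.ext (ito h.rep p p.2 q q.2) }
  refine hnc (Cfsg.Lib.Invol.AC.isCyclic_of_unique_invol (h.two.to_subgroup (commutator G))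
    fun p q hp hq => ?_)
  by_contra hne
  have inv : ∀ r : commutator G, orderOf r = 2 → (r : G) * r = 1 ∧ (r : G) ≠ 1 := fun r hr => by
    refine ⟨?_, fun e => ?_⟩
    · rw [← pow_two, ← Subgroup.coe_pow, ← hr, pow_orderOf_eq_one]; rfl
    · have : r = 1 := Subtype.ext e
      rw [this, orderOf_one] at hr
      omega
  obtain ⟨p2, p1⟩ := inv p hp
  obtain ⟨q2, q1⟩ := inv q hq
  have hpI := hle p p.2
  have hqI := hle q q.2
  have hpq : (q : G) ≠ p := fun e => hne (Subtype.ext e.symm)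
  have hfixed : ∀ r ∈ E, r * r = 1 → σ * r * σ⁻¹ = r := by
    intro r hr hr2
    rcases hfour p (hIE hpI) q (hIE hqI) r hr p2 q2 hr2 p1 q1 hpq with rfl | rfl | rfl | rfl
    · group
    · rw [hIσ _ hpI, inv_eq_of_mul_eq_one_left p2]
    · rw [hIσ _ hqI, inv_eq_of_mul_eq_one_left q2]
    · rw [hIσ _ (mul_mem hpI hqI), inv_eq_of_mul_eq_one_left hr2]
  have hpE := hIE hpI
  have h1 := hfixed _ (F.mem _ hpE) (by rw [← F.mul _ hpE _ hpE, p2, F.one])
  rw [F.inv _ hpE, hfixed _ hpE p2] at h1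
  have h2 : a (p : G) = p := F.inj (F.mem _ hpE) hpE h1
  exact p1 (mem_bot.mp (F.fixed_mem h.two (N := ⊥) bot_le
    (fun v hv w hw => by
      rw [mem_bot, commutatorElement_eq_one_iff_mul_comm]; exact hab v (F.comU_le hv) w (F.comU_le hw))
    (fun v hv => by rw [mem_bot.mp hv, F.one]; exact one_mem _)
    (hEU hpE) (by rw [h2, inv_mul_cancel]; exact one_mem _)))

end Fr

end Cfsg.Lib.Bicyclic
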