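import Cfsg.Agent.Lib.FusionSys.Bicyclic.Homo

/-!
# The commutator subgroup of the automorphism is a four group or a quaternion group: contradiction

An element outside the Frattini subgroup with central square inverts the derived subgroup, and too many of its conjugates
would lie in its abelian centralizer.
-/

set_option autoImplicit false
set_option linter.style.haveILetI false

namespace Cfsg.Lib.Bicyclic

open Subgroup
open scoped commutatorElement

universe u

variable {G : Type u} [Group G]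

/-- An element conjugating `e` to `w * e`, with `w` in the abelian centralizer of `e`, normalizes it. -/
theorem mem_normalizer_of_move [Finite G] {e w g : G}
    (hX : ∀ p ∈ centralizer ({e} : Set G), ∀ q ∈ centralizer ({e} : Set G), p * q = q * p)
    (hw : w * e = e * w) (hg : g * e * g⁻¹ = w * e) :
    g ∈ normalizer (centralizer ({e} : Set G) : Set G) := by
  suffices g⁻¹ ∈ normalizer (centralizer ({e} : Set G) : Set G) by simpa using inv_mem this
  refine Subgroup.mem_normalizer_fintype fun q hq => ?_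
  have h1 := mem_centralizer_singleton_iff.mp hq
  have h2 : q * w = w * q := hX q hq w (mem_centralizer_singleton_iff.mpr hw)
  have h3 : q * (w * e) = w * e * q := by rw [← mul_assoc, h2, mul_assoc, h1, ← mul_assoc]
  rw [← hg] at h3
  rw [SetLike.mem_coe, mem_centralizer_singleton_iff, inv_inv]
  have := congrArg (fun t => g⁻¹ * t * g) h3
  simpa [mul_assoc] using this

theorem parity_span : ∀ u : Multiplicative (ZMod 2 × ZMod 2), u ≠ 1 →
    (∀ v, v = 1 ∨ v = u ∨ v = Multiplicative.ofAdd (1, 0) ∨ v = u * Multiplicative.ofAdd (1, 0)) ∨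
    (∀ v, v = 1 ∨ v = u ∨ v = Multiplicative.ofAdd (0, 1) ∨ v = u * Multiplicative.ofAdd (0, 1)) := by
  decide

namespace BC

variable [Finite G] {x y : G} (h : BC G x y)
include h

theorem exists_two_invol (hnc : ¬ IsCyclic (commutator G)) :
    ∃ w₁ w₂ : G, w₁ ∈ commutator G ∧ w₂ ∈ commutator G ∧ w₁ * w₁ = 1 ∧ w₂ * w₂ = 1 ∧ w₁ ≠ 1 ∧
      w₂ ≠ 1 ∧ w₂ ≠ w₁ ∧ ∀ r ∈ commutator G, r * r = 1 → r = 1 ∨ r = w₁ ∨ r = w₂ ∨ r = w₁ * w₂ := by
  letI : CommGroup (commutator G) :=
    { (inferInstance : Group (commutator G)) with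
      mul_comm := fun p q => Subtype.ext (ito h.rep p p.2 q q.2) }
  have hex : ¬ ∀ p q : commutator G, orderOf p = 2 → orderOf q = 2 → p = q := fun hu =>
    hnc (Cfsg.Lib.Invol.AC.isCyclic_of_unique_invol (h.two.to_subgroup (commutator G)) hu)
  push Not at hex
  obtain ⟨p, q, hp, hq, hne⟩ := hex
  have inv : ∀ r : commutator G, orderOf r = 2 → (r : G) * r = 1 ∧ (r : G) ≠ 1 := fun r hr => by
    refine ⟨?_, fun e => ?_⟩
    · rw [← pow_two, ← Subgroup.coe_pow, ← hr, pow_orderOf_eq_one]; rfl
    · have : r = 1 := Subtype.ext e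
      rw [this, orderOf_one] at hr
      omega
  obtain ⟨p2, p1⟩ := inv p hp
  obtain ⟨q2, q1⟩ := inv q hq
  refine ⟨p, q, p.2, q.2, p2, q2, p1, q1, fun e => hne (Subtype.ext e).symm, fun r hr r2 => ?_⟩
  by_contra hcon
  push Not at hcon
  obtain ⟨r1, rp, rq, rpq⟩ := hcon
  have hΦ : ∀ g ∈ commutator G, g ∈ frattini G := fun g hg => by
    haveI : Fact (Nat.Prime 2) := ⟨Nat.prime_two⟩
    exact Cfsg.Lib.PGroup.commutator_le_frattini h.two hg
  exact no_three h.frattini_metacyclic (a := ⟨(p : G), hΦ _ p.2⟩) (b := ⟨(q : G), hΦ _ q.2⟩)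
    (c := ⟨r, hΦ r hr⟩) (Subtype.ext p2) (Subtype.ext q2) (Subtype.ext r2)
    (Subtype.ext (ito h.rep p p.2 q q.2)) (Subtype.ext (ito h.rep p p.2 r hr))
    (Subtype.ext (ito h.rep q q.2 r hr)) (fun e => p1 (congrArg Subtype.val e))
    (fun e => q1 (congrArg Subtype.val e))
    (fun e => hne (Subtype.ext (show (p : G) = (q : G) from (congrArg Subtype.val e).symm)))
    (fun e => r1 (congrArg Subtype.val e)) (fun e => rp (congrArg Subtype.val e))
    (fun e => rq (congrArg Subtype.val e)) (fun e => rpq (congrArg Subtype.val e))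

/-- The Frattini subgroup centralizes the involutions of the derived subgroup. -/
theorem frattini_commutes (hnc : ¬ IsCyclic (commutator G)) {w : G} (hw : w ∈ commutator G)
    (hw2 : w * w = 1) {g : G} (hg : g ∈ frattini G) : g * w = w * g := by
  haveI : Fact (Nat.Prime 2) := ⟨Nat.prime_two⟩
  obtain ⟨w₁, w₂, -, -, -, -, -, -, -, hfour⟩ := h.exists_two_invol hnc
  have hconj : ∀ k r : G, r ∈ commutator G → r * r = 1 →
      k * r * k⁻¹ ∈ commutator G ∧ k * r * k⁻¹ * (k * r * k⁻¹) = 1 := fun k r hr hr2 =>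
    ⟨(inferInstance : (commutator G).Normal).conj_mem r hr k, by
      rw [show k * r * k⁻¹ * (k * r * k⁻¹) = k * (r * r) * k⁻¹ by group, hr2, mul_one, mul_inv_cancel]⟩
  have hsq : ∀ k : G, k * k ∈ centralizer ({w} : Set G) := by
    intro k
    by_contra hcon
    rw [mem_centralizer_singleton_iff] at hcon
    by_cases hw1 : w = 1
    · exact hcon (by rw [hw1, mul_one, one_mul])
    set u := k * w * k⁻¹ with hu
    set v := k * u * k⁻¹ with hv
    have hvw : v ≠ w := fun e => hcon (mul_inv_eq_iff_eq_mul.mp (by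
      rw [show k * k * w * (k * k)⁻¹ = v by rw [hv, hu]; group, e]))
    have huw : u ≠ w := fun e => hvw (by rw [hv, e, ← hu, e])
    have hcan : ∀ {r r' : G}, k * r * k⁻¹ = k * r' * k⁻¹ → r = r' := fun e =>
      mul_left_cancel (mul_right_cancel e)
    have hvu : v ≠ u := fun e => huw (hcan e)
    obtain ⟨hu1, hu2⟩ := hconj k w hw hw2
    rw [← hu] at hu1 hu2
    obtain ⟨hv1, hv2⟩ := hconj k u hu1 hu2
    rw [← hv] at hv1 hv2
    obtain ⟨hs1, hs2⟩ := hconj k v hv1 hv2
    have hu1' : u ≠ 1 := fun e => hw1 (conj_eq_one_iff.mp e)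
    have hv1' : v ≠ 1 := fun e => hu1' (conj_eq_one_iff.mp e)
    set s := k * v * k⁻¹ with hs
    have hs1' : s ≠ 1 := fun e => hv1' (conj_eq_one_iff.mp e)
    have hsu : s ≠ u := fun e => hvw (hcan e)
    have hsv : s ≠ v := fun e => hvu (hcan e)
    have hthree : ∀ t ∈ commutator G, t * t = 1 → t ≠ 1 → t = w₁ ∨ t = w₂ ∨ t = w₁ * w₂ :=
      fun t h1 h2 h3 => (hfour t h1 h2).resolve_left h3
    have hsw : s = w := by
      rcases hthree w hw hw2 hw1 with e1 | e1 | e1 <;>
        rcases hthree u hu1 hu2 hu1' with e2 | e2 | e2 <;>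
          rcases hthree v hv1 hv2 hv1' with e3 | e3 | e3 <;>
            rcases hthree s hs1 hs2 hs1' with e4 | e4 | e4 <;>
              first
                | exact e4.trans e1.symm
                | exact absurd (e2.trans e1.symm) huw
                | exact absurd (e3.trans e1.symm) hvw
                | exact absurd (e3.trans e2.symm) hvu
                | exact absurd (e4.trans e2.symm) hsu
                | exact absurd (e4.trans e3.symm) hsv
    have h3 : k ^ (3 : ℤ) ∈ centralizer ({w} : Set G) := by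
      rw [mem_centralizer_singleton_iff]
      refine mul_inv_eq_iff_eq_mul.mp ?_
      rw [show k ^ (3 : ℤ) = k * k * k by rw [show (3 : ℤ) = 1 + 1 + 1 by rfl, zpow_add, zpow_add, zpow_one],
        show k * k * k * w * (k * k * k)⁻¹ = k * (k * (k * w * k⁻¹) * k⁻¹) * k⁻¹ by group]
      exact hsw
    have hkc := mem_of_odd_zpow h.two (i := 3) ⟨1, by norm_num⟩ h3
    exact hcon (mem_centralizer_singleton_iff.mp (mul_mem hkc hkc))
  have hle : frattini G ≤ centralizer ({w} : Set G) := by
    have htop : sqSub (⊤ : Subgroup G) ≤ centralizer ({w} : Set G) := (closure_le _).mpr (by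
      rintro v ⟨k, -, rfl⟩; exact hsq k)
    rw [Cfsg.Lib.PGroup.frattini_eq_sup h.two, sup_le_iff]
    refine ⟨le_trans ?_ htop, (closure_le _).mpr ?_⟩
    · rw [_root_.commutator_def]
      exact Subgroup.commutator_le.mpr fun p hp q hq => comm_mem_sqSub hp hq
    · rintro v ⟨k, rfl⟩
      show k ^ 2 ∈ centralizer ({w} : Set G)
      rw [pow_two]; exact hsq k
  exact mem_centralizer_singleton_iff.mp (hle hg)

/-- An element outside the Frattini subgroup with central square inverts the derived subgroup, every element of which is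
its commutator with some element. -/
theorem invert_and_surj (hnc : ¬ IsCyclic (commutator G)) {e : G} (he : e ∉ frattini G)
    (he2 : ∀ g : G, e * e * g = g * (e * e)) :
    (∀ t ∈ commutator G, e * t * e⁻¹ = t⁻¹) ∧ ∀ t ∈ commutator G, ∃ g, ⁅e, g⁆ = t := by
  classical
  haveI : Fact (Nat.Prime 2) := ⟨Nat.prime_two⟩
  have hne : h.par e ≠ 1 := fun e' => he (h.par_eq_one_iff.mp e')
  obtain ⟨b, hb⟩ : ∃ b : G, ∀ g : G,
      h.par g = 1 ∨ h.par g = h.par e ∨ h.par g = h.par b ∨ h.par g = h.par e * h.par b := by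
    have key : ∀ u : Multiplicative (ZMod 2 × ZMod 2), u ≠ 1 →
        (∀ v, v = 1 ∨ v = u ∨ v = Multiplicative.ofAdd (1, 0) ∨ v = u * Multiplicative.ofAdd (1, 0)) ∨
        (∀ v, v = 1 ∨ v = u ∨ v = Multiplicative.ofAdd (0, 1) ∨ v = u * Multiplicative.ofAdd (0, 1)) :=
      parity_span
    rcases key _ hne with k | k
    · exact ⟨x, fun g => by rw [h.par_x]; exact k _⟩
    · exact ⟨y, fun g => by rw [h.par_y]; exact k _⟩
  have hgen : (⊤ : Subgroup G) = closure ({e, b} : Set G) := by
    refine (frattini_nongenerating (eq_top_iff.mpr fun g _ => ?_)).symm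
    have hm : ∀ k ∈ closure ({e, b} : Set G), h.par g = h.par k →
        g ∈ closure ({e, b} : Set G) ⊔ frattini G := by
      intro k hk e'
      have : k⁻¹ * g ∈ frattini G := h.par_eq_one_iff.mp (by rw [map_mul, map_inv, e', inv_mul_cancel])
      have := mul_mem (mem_sup_left hk : k ∈ closure ({e, b} : Set G) ⊔ frattini G) (mem_sup_right this)
      rwa [mul_inv_cancel_left] at this
    have heb : e ∈ closure ({e, b} : Set G) := subset_closure (by simp)
    have hbb : b ∈ closure ({e, b} : Set G) := subset_closure (by simp)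
    rcases hb g with e' | e' | e' | e'
    · exact hm 1 (one_mem _) (e'.trans (map_one _).symm)
    · exact hm e heb e'
    · exact hm b hbb e'
    · exact hm (e * b) (mul_mem heb hbb) (e'.trans (map_mul _ _ _).symm)
  set T : Subgroup G := closure (Set.range fun g : G => ⁅e, g⁆) with hT
  have hTn : ∀ g ∈ (⊤ : Subgroup G), ∀ k ∈ T, g * k * g⁻¹ ∈ T := by
    intro g _ k hk
    refine conj_closure ?_ hk
    rintro v ⟨m, rfl⟩
    rw [show g * ⁅e, m⁆ * g⁻¹ = ⁅e, g⁆⁻¹ * ⁅e, g * m⁆ by simp only [commutatorElement_def]; group]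
    exact mul_mem (inv_mem (subset_closure ⟨g, rfl⟩)) (subset_closure ⟨g * m, rfl⟩)
  have hDT : ∀ t ∈ commutator G, t ∈ T := by
    intro t ht
    refine (show commutator G ≤ T from ?_) ht
    rw [_root_.commutator_def]
    refine Subgroup.commutator_le.mpr fun p hp q hq => comm_mem_of_gen hgen le_top hTn ?_ hp hq
    rintro p (rfl | rfl) q (rfl | rfl)
    · rw [commutatorElement_self]; exact one_mem _
    · exact subset_closure ⟨q, rfl⟩
    · rw [← commutatorElement_inv]; exact inv_mem (subset_closure ⟨p, rfl⟩)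
    · rw [commutatorElement_self]; exact one_mem _
  have hTD : ∀ t ∈ T, t ∈ commutator G := fun t ht =>
    (closure_le _).mpr (by rintro v ⟨g, rfl⟩; exact comm_mem_commutator e g) ht
  have hcommD := ito h.rep
  have hinv : ∀ t ∈ commutator G, e * t * e⁻¹ = t⁻¹ := by
    intro t ht
    have htT := hDT t ht
    clear ht
    induction htT using closure_induction with
    | mem v hv =>
      obtain ⟨g, rfl⟩ := hv
      show e * ⁅e, g⁆ * e⁻¹ = ⁅e, g⁆⁻¹
      calc e * ⁅e, g⁆ * e⁻¹ = (e * e * g) * e⁻¹ * g⁻¹ * e⁻¹ := by rw [commutatorElement_def]; group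
        _ = (g * (e * e)) * e⁻¹ * g⁻¹ * e⁻¹ := by rw [he2]
        _ = _ := by rw [commutatorElement_def]; group
    | one => group
    | mul p q hp hq i1 i2 =>
      rw [show e * (p * q) * e⁻¹ = (e * p * e⁻¹) * (e * q * e⁻¹) by group, i1, i2, mul_inv_rev]
      exact hcommD _ (inv_mem (hTD p hp)) _ (inv_mem (hTD q hq))
    | inv p hp i1 => rw [show e * p⁻¹ * e⁻¹ = (e * p * e⁻¹)⁻¹ by group, i1]
  refine ⟨hinv, ?_⟩
  obtain ⟨w₁, w₂, hw₁, hw₂, -, -, -, -, -, hfour⟩ := h.exists_two_invol hnc
  let P₂ : Subgroup G :=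
    { carrier := {t | ∃ k ∈ commutator G, t = k * k}
      one_mem' := ⟨1, one_mem _, (mul_one 1).symm⟩
      mul_mem' := fun {p q} ⟨k, hk, hp⟩ ⟨l, hl, hq⟩ => ⟨k * l, mul_mem hk hl, by
        rw [hp, hq, mul_assoc k l, ← mul_assoc l k l, hcommD l hl k hk]; group⟩
      inv_mem' := fun {p} ⟨k, hk, hp⟩ => ⟨k⁻¹, inv_mem hk, by rw [hp, mul_inv_rev]⟩ }
  have hP₂D : ∀ t ∈ P₂, t ∈ commutator G := by
    rintro t ⟨k, hk, rfl⟩; exact mul_mem hk hk
  have hP₂c : ∀ g : G, ∀ t ∈ P₂, g * t * g⁻¹ ∈ P₂ := by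
    rintro g t ⟨k, hk, rfl⟩
    exact ⟨g * k * g⁻¹, (inferInstance : (commutator G).Normal).conj_mem k hk g, by group⟩
  haveI : (P₂.subgroupOf (commutator G)).Normal := ⟨fun t ht g => by
    rw [mem_subgroupOf] at ht ⊢; exact hP₂c g t ht⟩
  -- at most four classes
  have hfew : Nat.card (commutator G ⧸ P₂.subgroupOf (commutator G)) ≤ 4 := by
    let s : commutator G →* commutator G := MonoidHom.mk' (fun t => t * t) fun p q => Subtype.ext (by
      show (p : G) * q * (p * q) = p * p * (q * q)
      rw [mul_assoc (p : G) q, ← mul_assoc (q : G) p q, hcommD q q.2 p p.2]; group)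
    have hr : s.range = P₂.subgroupOf (commutator G) := by
      ext t
      rw [mem_subgroupOf]
      exact ⟨fun ⟨k, hk⟩ => ⟨k, k.2, (congrArg Subtype.val hk).symm⟩,
        fun ⟨k, hk, e⟩ => ⟨⟨k, hk⟩, Subtype.ext e.symm⟩⟩
    have h1 := s.ker.card_mul_index
    rw [Subgroup.index_ker, ← (s.range).card_mul_index, mul_comm] at h1
    rw [← hr, ← Subgroup.index_eq_card]
    have h2 : s.range.index = Nat.card s.ker := (Nat.eq_of_mul_eq_mul_left Nat.card_pos h1).symm
    rw [h2]
    have hv : ∀ t : s.ker, ((t : commutator G) : G) ∈ ({1, w₁, w₂, w₁ * w₂} : Finset G) := fun t => by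
      rcases hfour _ (t : commutator G).2 (congrArg Subtype.val (MonoidHom.mem_ker.mp t.2)) with
        e' | e' | e' | e' <;> rw [e'] <;> simp
    refine (Nat.card_le_card_of_injective
      (fun t => (⟨_, hv t⟩ : ({1, w₁, w₂, w₁ * w₂} : Finset G))) fun p q hpq => ?_).trans ?_
    · simp only [Subtype.mk.injEq] at hpq
      exact Subtype.ext (Subtype.ext hpq)
    · rw [Nat.card_eq_fintype_card, Fintype.card_coe]; exact Finset.card_le_four
  let St : Subgroup G :=
    { carrier := {m | ⁅e, m⁆ ∈ P₂}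
      one_mem' := by rw [Set.mem_ofPred_eq, commutatorElement_one_right]; exact one_mem _
      mul_mem' := fun {p q} hp hq => by
        rw [Set.mem_ofPred_eq, comm_mul_right']
        exact mul_mem hp (hP₂c _ _ hq)
      inv_mem' := fun {p} hp => by
        rw [Set.mem_ofPred_eq, show ⁅e, p⁻¹⁆ = p⁻¹ * ⁅e, p⁆⁻¹ * (p⁻¹)⁻¹ by
          simp only [commutatorElement_def]; group]
        exact hP₂c _ _ (inv_mem hp) }
  have hkey : ∀ m n : G, (⁅e, m⁆)⁻¹ * ⁅e, n⁆ ∈ P₂ ↔ m⁻¹ * n ∈ St := by
    intro m n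
    have e1 : (⁅e, m⁆)⁻¹ * ⁅e, n⁆ = m * ⁅e, m⁻¹ * n⁆ * m⁻¹ := by
      simp only [commutatorElement_def]; group
    rw [e1]
    refine ⟨fun hm => ?_, fun hm => hP₂c _ _ hm⟩
    have := hP₂c m⁻¹ _ hm
    show ⁅e, m⁻¹ * n⁆ ∈ P₂
    simpa [mul_assoc] using this
  let f : G ⧸ St → commutator G ⧸ P₂.subgroupOf (commutator G) := fun q =>
    q.liftOn' (fun m => QuotientGroup.mk (⟨⁅e, m⁆, comm_mem_commutator e m⟩ : commutator G)) fun m n hmn => by
      rw [QuotientGroup.eq, mem_subgroupOf]
      exact (hkey m n).mpr (QuotientGroup.leftRel_apply.mp hmn)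
  have hf : Function.Injective f := by
    intro p q hpq
    induction p using QuotientGroup.induction_on with | H p =>
    induction q using QuotientGroup.induction_on with | H q =>
    rw [QuotientGroup.eq]
    have h' := QuotientGroup.eq.mp hpq
    rw [mem_subgroupOf] at h'
    exact (hkey p q).mp h'
  have hclass : ∀ t ∈ commutator G, ∃ m, (⁅e, m⁆)⁻¹ * t ∈ P₂ := by
    by_cases hsurj : Function.Surjective f
    · intro t ht
      obtain ⟨q, hq⟩ := hsurj (QuotientGroup.mk ⟨t, ht⟩)
      induction q using QuotientGroup.induction_on with | H m =>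
      have h' := QuotientGroup.eq.mp hq
      rw [mem_subgroupOf] at h'
      exact ⟨m, h'⟩
    -- otherwise at most two cosets
    have hlt : Nat.card (G ⧸ St) < Nat.card (commutator G ⧸ P₂.subgroupOf (commutator G)) := by
      refine lt_of_le_of_ne (Nat.card_le_card_of_injective f hf) fun ec => hsurj ?_
      exact ((Nat.bijective_iff_injective_and_card f).mpr ⟨hf, ec⟩).2
    obtain ⟨k, hk⟩ := h.two.index St
    have h2' : Nat.card (G ⧸ St) ≤ 2 := by
      rw [← Subgroup.index_eq_card, hk] at hlt ⊢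
      rcases k with _ | _ | k
      · simp
      · simp
      · have : 2 ^ 2 ≤ 2 ^ (k + 1 + 1) := Nat.pow_le_pow_right two_pos (by omega)
        omega
    obtain ⟨m₀, hm₀⟩ : ∃ m₀ : G, ∀ m, m ∈ St ∨ m₀⁻¹ * m ∈ St := by
      by_cases htop : ∀ m, m ∈ St
      · exact ⟨1, fun m => Or.inl (htop m)⟩
      push Not at htop
      obtain ⟨m₀, hm₀⟩ := htop
      refine ⟨m₀, fun m => ?_⟩
      by_contra hcon
      push Not at hcon
      haveI := Fintype.ofFinite (G ⧸ St)
      rw [Nat.card_eq_fintype_card] at h2'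
      have : 2 < Fintype.card (G ⧸ St) := Fintype.two_lt_card_iff.mpr
        ⟨QuotientGroup.mk 1, QuotientGroup.mk m₀, QuotientGroup.mk m,
          fun e' => hm₀ (by simpa using QuotientGroup.eq.mp e'),
          fun e' => hcon.1 (by simpa using QuotientGroup.eq.mp e'),
          fun e' => hcon.2 (QuotientGroup.eq.mp e')⟩
      omega
    set v₀ := ⁅e, m₀⁆ with hv₀
    have hv₀2 : v₀ * v₀ ∈ P₂ := ⟨v₀, comm_mem_commutator e m₀, rfl⟩
    intro t ht
    have : t ∈ P₂ ∨ v₀⁻¹ * t ∈ P₂ := by
      have htT := hDT t ht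
      clear ht
      have : t ∈ commutator G ∧ (t ∈ P₂ ∨ v₀⁻¹ * t ∈ P₂) := by
        induction htT using closure_induction with
        | mem v hv =>
          obtain ⟨m, rfl⟩ := hv
          refine ⟨comm_mem_commutator e m, ?_⟩
          rcases hm₀ m with hm | hm
          · exact Or.inl hm
          · exact Or.inr ((hkey m₀ m).mpr hm)
        | one => exact ⟨one_mem _, Or.inl (one_mem _)⟩
        | mul p q _ _ i1 i2 =>
          refine ⟨mul_mem i1.1 i2.1, ?_⟩
          rcases i1.2 with hp | hp <;> rcases i2.2 with hq | hq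
          · exact Or.inl (mul_mem hp hq)
          · refine Or.inr ?_
            rw [show v₀⁻¹ * (p * q) = (v₀⁻¹ * p * (v₀⁻¹)⁻¹) * (v₀⁻¹ * q) by group]
            exact mul_mem (hP₂c _ _ hp) hq
          · exact Or.inr (by rw [← mul_assoc]; exact mul_mem hp hq)
          · refine Or.inl ?_
            rw [show p * q = v₀ * (v₀⁻¹ * p) * v₀⁻¹ * (v₀ * v₀) * (v₀⁻¹ * q) by group]
            exact mul_mem (mul_mem (hP₂c _ _ hp) hv₀2) hq
        | inv p _ i1 =>
          refine ⟨inv_mem i1.1, ?_⟩
          rcases i1.2 with hp | hp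
          · exact Or.inl (inv_mem hp)
          · refine Or.inr ?_
            rw [show v₀⁻¹ * p⁻¹ = v₀⁻¹ * (v₀⁻¹ * p)⁻¹ * (v₀⁻¹)⁻¹ * (v₀ * v₀)⁻¹ by group]
            exact mul_mem (hP₂c _ _ (inv_mem hp)) (inv_mem hv₀2)
      exact this.2
    rcases this with hm | hm
    · exact ⟨1, by rw [commutatorElement_one_right, inv_one, one_mul]; exact hm⟩
    · exact ⟨m₀, hm⟩
  intro t ht
  obtain ⟨m, k, hk, hkm⟩ := hclass t ht
  refine ⟨k⁻¹ * m, ?_⟩
  have hmD := comm_mem_commutator e m
  have hek : e * k⁻¹ * e⁻¹ = k := by rw [hinv k⁻¹ (inv_mem hk), inv_inv]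
  calc ⁅e, k⁻¹ * m⁆ = (e * k⁻¹ * e⁻¹) * ⁅e, m⁆ * k := by simp only [commutatorElement_def]; group
    _ = k * (⁅e, m⁆ * k) := by rw [hek, mul_assoc]
    _ = ⁅e, m⁆ * k * k := hcommD k hk _ (mul_mem hmD hk)
    _ = t := by rw [mul_assoc, ← hkm]; group

end BC

namespace Fr

variable {E : Subgroup G} {a : G → G} {σ : G} (F : Fr E a σ) [Finite G] {x y : G} (h : BC G x y)
include F h

theorem small_false (hnc : ¬ IsCyclic (commutator G)) {z : G} (S : Small E a z) : False := by
  set U := comU E a with hU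
  haveI : Fact (Nat.Prime 2) := ⟨Nat.prime_two⟩
  have hz2 := S.two
  have hZi : ∀ {g : G}, g ∈ zpowers z ↔ g = 1 ∨ g = z := mem_zpowers_invol S.two
  obtain ⟨c, hc, hcyc⟩ := F.exists_cyc h
  -- fixed elements are central in `E`
  have hfixcomm : ∀ {d : G}, d ∈ F.fixC → ∀ g ∈ U, d * g = g * d := fun hd g hg => S.commute F h hd hg
  have hfixU : ∀ {d : G}, d ∈ F.fixC → d ∈ U → d ∈ zpowers z := fun hd hdU =>
    F.fix_mem_of_mem h.two S.le S.der (S.zpow_map F h) hd hdU
  have hzC : z ∈ F.fixC := ⟨F.comU_le S.mem, S.fix⟩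
  have hfixform : ∀ {d : G}, d ∈ F.fixC → ∃ k ∈ zpowers z, ∃ i : ℤ, d = k * c ^ i := by
    intro d hd
    obtain ⟨v, hv, i, rfl⟩ := hcyc d hd.1
    have : v ∈ F.fixC := by
      have := mul_mem hd (inv_mem (zpow_mem hc i))
      rwa [mul_inv_cancel_right] at this
    exact ⟨v, hfixU this hv, i, rfl⟩
  have hcen : ∀ {d : G}, d ∈ F.fixC → ∀ g ∈ E, d * g = g * d := by
    intro d hd g hg
    obtain ⟨k, hk, i, rfl⟩ := hfixform hd
    obtain ⟨v, hv, j, rfl⟩ := hcyc g hg
    have h1 : k * (c ^ j) = c ^ j * k := (hfixcomm (zpow_mem hc j) k (S.le hk)).symm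
    have h2 : c ^ i * v = v * c ^ i := hfixcomm (zpow_mem hc i) v hv
    calc k * c ^ i * (v * c ^ j) = k * v * (c ^ i * c ^ j) := by
          rw [mul_assoc k (c ^ i), ← mul_assoc (c ^ i) v, h2]; group
      _ = v * k * (c ^ j * c ^ i) := by rw [← S.central hk hv, ← zpow_add, ← zpow_add, add_comm i j]
      _ = v * (k * c ^ j) * c ^ i := by group
      _ = v * c ^ j * (k * c ^ i) := by rw [h1]; group
  have hcommE : ∀ p ∈ E, ∀ q ∈ E, ⁅p, q⁆ ∈ zpowers z := by
    intro p hp q hq
    obtain ⟨v, hv, i, rfl⟩ := hcyc p hp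
    obtain ⟨w, hw, j, rfl⟩ := hcyc q hq
    have hqE : w * c ^ j ∈ E := hq
    rw [comm_mul_left', commutatorElement_eq_one_iff_mul_comm.mpr (hcen (zpow_mem hc i) _ hqE),
      mul_one, mul_inv_cancel, one_mul, comm_mul_right',
      commutatorElement_eq_one_iff_mul_comm.mpr (hcen (zpow_mem hc j) _ (F.comU_le hv)).symm, mul_one,
      mul_inv_cancel, mul_one]
    exact S.der v hv w hw
  have hzσ : σ * z * σ⁻¹ = z := by
    have := hfixU (F.fixC_sigma hzC) (F.comU_sigma S.mem)
    rcases hZi.mp this with e | e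
    · rw [conj_eq_one_iff.mp e, mul_one, mul_inv_cancel]
    · exact e
  have hZσ : ∀ k ∈ zpowers z, σ * k * σ⁻¹ ∈ zpowers z := fun k hk => by
    rcases hZi.mp hk with rfl | rfl
    · rw [mul_one, mul_inv_cancel]; exact one_mem _
    · rw [hzσ]; exact mem_zpowers _
  -- a class moved by `σ`
  obtain ⟨u, huU, huz, hmove⟩ : ∃ u ∈ U, u ∉ zpowers z ∧ u⁻¹ * (σ * u * σ⁻¹) ∉ zpowers z := by
    by_contra hcon
    push Not at hcon
    obtain ⟨v, hvU, hvP⟩ := F.exists_out h
    have hvz : v ∉ zpowers z := fun hm => by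
      have hsq : zpowers z ≤ sqSub U := by
        by_cases hz1 : z = 1
        · rw [hz1, zpowers_one_eq_bot]; exact bot_le
        obtain ⟨w, hwU, hwz⟩ : ∃ w ∈ U, w ∉ zpowers z := by
          by_contra hc'
          push Not at hc'
          obtain ⟨g, hg, hne⟩ := F.moved
          have h1 := hc' _ (gen_mem (a := a) hg)
          have h2 : a (g⁻¹ * a g) = g⁻¹ * a g := by
            rcases hZi.mp h1 with e | e <;> rw [e]
            · exact F.one
            · exact S.fix
          have h4 : (g⁻¹ * a g) ∈ F.fixC := ⟨E.mul_mem (E.inv_mem hg) (F.mem g hg), h2⟩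
          have hgE := hg
          set k := g⁻¹ * a g with hk
          have ek : a g = g * k := by rw [hk]; group
          have ha2 : a (a g) = g * k * k := by rw [ek, F.mul _ hgE _ h4.1, ek, h2]
          have ha3 : a (a (a g)) = g * k * k * k := by
            rw [ha2, F.mul _ (E.mul_mem hgE h4.1) _ h4.1, F.mul _ hgE _ h4.1, ek, h2]
          rw [F.cube g hgE] at ha3
          have hk2 : k * k = 1 := by
            rcases hZi.mp h1 with e | e <;> rw [e]
            · rw [mul_one]
            · exact S.two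
          rw [mul_assoc g k k, hk2, mul_one] at ha3
          exact hne (by rw [ek]; exact ha3.symm)
        rw [zpowers_le, ← (S.nc hz1 w hwU hwz).1]
        exact sq_mem_sqSub hwU
      exact hvP (hsq hm)
    have hvE := F.comU_le hvU
    have h1 := hcon v hvU hvz
    have hav : a v ∉ zpowers z := fun hm => hvz (by
      rw [← F.cube v hvE]; exact S.zpow_map F h _ (S.zpow_map F h _ hm))
    have h2 := hcon (a v) (F.comU_map hvU) hav
    rw [F.inv v hvE] at h2
    have hm' := F.conj_mem hvE
    have h3 := S.zpow_map F h _ (S.zpow_map F h _ h1)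
    rw [F.mul _ (E.inv_mem hvE) _ hm', F.map_inv hvE, F.mul _ (E.inv_mem (F.mem _ hvE)) _ (F.mem _ hm'),
      F.map_inv (F.mem _ hvE)] at h3
    have h4 : (a v)⁻¹ * a (a v) ∈ zpowers z := by
      have := mul_mem h2 (inv_mem h3)
      simpa [mul_assoc] using this
    exact hav (S.fixed F h (F.comU_map hvU) h4)
  have huE := F.comU_le huU
  set u' := σ * u * σ⁻¹ with hu'
  have hu'U : u' ∈ U := F.comU_sigma huU
  have hu'cls : (a u)⁻¹ * u' ∈ zpowers z ∨ (a (a u))⁻¹ * u' ∈ zpowers z := by
    rcases S.classes F h huU huz hu'U with e | e | e | e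
    · exfalso
      apply huz
      have h1 := hZσ _ e
      have h2 : σ * u' * σ⁻¹ = (σ * σ) * u * (σ * σ)⁻¹ := by rw [hu']; group
      rw [h2, show (σ * σ) * u * (σ * σ)⁻¹ = ⁅σ * σ, u⁆ * u by rw [commutatorElement_def]; group] at h1
      have := mul_mem (inv_mem (hcommE _ F.sq_mem _ huE)) h1
      rwa [inv_mul_cancel_left] at this
    · exact absurd e hmove
    · exact Or.inl e
    · exact Or.inr e
  -- derived facts for the two commutation cases
  have hncu : z ≠ 1 → u * u' ≠ u' * u := by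
    intro hz1 hcomm
    have hnc1 := (S.nc hz1 u huU huz).2
    rcases hu'cls with e | e
    · refine hnc1 ?_
      have hk := S.central e huU
      set k := (a u)⁻¹ * u'
      have e1 : a u = u' * k⁻¹ := by simp only [k]; group
      rw [e1]
      exact (show Commute u u' from hcomm).mul_right (show Commute u k from hk).inv_right
    · have hauU := F.comU_map huU
      have haauE := F.mem _ (F.mem _ huE)
      have h5 : u * a (a u) = a (a u) * u := by
        have hk := S.central e huU
        set k := (a (a u))⁻¹ * u'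
        have e1 : a (a u) = u' * k⁻¹ := by simp only [k]; group
        rw [e1]
        exact (show Commute u u' from hcomm).mul_right (show Commute u k from hk).inv_right
      have := congrArg a h5
      rw [F.mul _ huE _ haauE, F.mul _ haauE _ huE, F.cube u huE] at this
      exact hnc1 this.symm
  have hgenuu : z ∈ frattini G → u ∈ frattini G → u' ∈ frattini G → U ≤ frattini G := by
    intro hz h1 h2 g hg
    have hZΦ : zpowers z ≤ frattini G := zpowers_le.mpr hz
    have hau : a u ∈ frattini G ∧ a (a u) ∈ frattini G := by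
      have hn := hZΦ (F.norm_mem h.two S.le S.der (S.zpow_map F h) huU)
      rcases hu'cls with e | e
      · have h3 : a u ∈ frattini G := by
          have := mul_mem h2 (inv_mem (hZΦ e)); simpa [mul_assoc] using this
        refine ⟨h3, ?_⟩
        have := mul_mem (inv_mem (mul_mem h1 h3)) hn
        rwa [inv_mul_cancel_left] at this
      · have h3 : a (a u) ∈ frattini G := by
          have := mul_mem h2 (inv_mem (hZΦ e)); simpa [mul_assoc] using this
        refine ⟨?_, h3⟩
        have := mul_mem (inv_mem h1) (mul_mem hn (inv_mem h3))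
        rwa [mul_inv_cancel_right, inv_mul_cancel_left] at this
    rcases S.classes F h huU huz hg with e | e | e | e
    · exact hZΦ e
    · have := mul_mem h1 (hZΦ e); rwa [mul_inv_cancel_left] at this
    · have := mul_mem hau.1 (hZΦ e); rwa [mul_inv_cancel_left] at this
    · have := mul_mem hau.2 (hZΦ e); rwa [mul_inv_cancel_left] at this
  have hzΦ : z ∈ frattini G := by
    by_cases hz1 : z = 1
    · rw [hz1]; exact one_mem _
    · rw [← (S.nc hz1 u huU huz).1]; exact BC.sq_mem_frattini h.two u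
  -- fixed elements of the Frattini subgroup, when `U` lies there
  have hsmallC : U ≤ frattini G → ∀ d ∈ F.fixC, d ∈ frattini G → d ∈ zpowers z := by
    intro hUΦ d hd hdΦ
    by_contra hdz
    obtain ⟨m, hm1, hm2⟩ := pow_two_descend h.two (P := fun t => t ∈ zpowers z) (g := d) (one_mem _) hdz
    set d' := d ^ 2 ^ m with hd'
    have hd'C : d' ∈ F.fixC := pow_mem hd _
    have hd'U : d' ∉ U := fun hm => hm1 (hfixU hd'C hm)
    let Z : frattini G := ⟨z, hzΦ⟩
    let A : frattini G := ⟨u, hUΦ huU⟩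
    let B : frattini G := ⟨u', hUΦ hu'U⟩
    let D : frattini G := ⟨d', pow_mem hdΦ _⟩
    have hlift : ∀ k : frattini G, k ∈ zpowers Z ↔ (k : G) ∈ zpowers z := fun k => by
      constructor
      · rintro ⟨i, rfl⟩; exact ⟨i, by simp [Z]⟩
      · rintro ⟨i, hi⟩; exact ⟨i, Subtype.ext (by simp [Z]; exact hi)⟩
    have hcu : ⁅u, d'⁆ ∈ zpowers z := by
      rw [commutatorElement_eq_one_iff_mul_comm.mpr (hcen hd'C u huE).symm]; exact one_mem _
    have hcu' : ⁅u', d'⁆ ∈ zpowers z := by
      rw [commutatorElement_eq_one_iff_mul_comm.mpr (hcen hd'C u' (F.comU_le hu'U)).symm]; exact one_mem _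
    have hu'z : u' ∉ zpowers z := fun hm => huz (by
      have h1 := hZσ _ hm
      have h2 : σ * u' * σ⁻¹ = ⁅σ * σ, u⁆ * u := by rw [hu', commutatorElement_def]; group
      rw [h2] at h1
      have := mul_mem (inv_mem (hcommE _ F.sq_mem _ huE)) h1
      rwa [inv_mul_cancel_left] at this)
    refine no_section h.frattini_metacyclic (z := Z) (a := A) (b := B) (c := D)
      (Subtype.ext (S.comm u huU).symm) (Subtype.ext (S.comm u' hu'U).symm)
      (Subtype.ext (hcen hd'C z (F.comU_le S.mem)).symm)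
      ((hlift _).mpr (S.sq u huU)) ((hlift _).mpr (S.sq u' hu'U)) ((hlift _).mpr hm2)
      ((hlift _).mpr (S.der u huU u' hu'U)) ((hlift _).mpr hcu) ((hlift _).mpr hcu')
      (fun hm => huz ((hlift _).mp hm)) (fun hm => hu'z ((hlift _).mp hm))
      (fun hm => hmove ((hlift _).mp hm)) (fun hm => hm1 ((hlift _).mp hm)) ?_ ?_ ?_ <;>
      intro hm <;> have hm' := S.le ((hlift _).mp hm) <;>
      simp only [A, B, D, Subgroup.coe_mul, Subgroup.coe_inv] at hm'
    · have := mul_mem huU hm'; rw [mul_inv_cancel_left] at this; exact hd'U this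
    · have := mul_mem hu'U hm'; rw [mul_inv_cancel_left] at this; exact hd'U this
    · have := mul_mem (mul_mem huU hu'U) hm'; rw [mul_inv_cancel_left] at this; exact hd'U this
  obtain ⟨w₁, w₂, hw₁, hw₂, hw₁2, hw₂2, hw₁1, hw₂1, hw21, hfour⟩ := h.exists_two_invol hnc
  -- `E` is not inside the Frattini subgroup
  have hEΦ : ¬ E ≤ frattini G := by
    intro hle
    have hUΦ : U ≤ frattini G := F.comU_le.trans hle
    have hEU : E ≤ U := fun g hg => by
      obtain ⟨v, hv, i, rfl⟩ := hcyc g hg
      exact mul_mem hv (S.le (hsmallC hUΦ _ (zpow_mem hc i) (hle (E.zpow_mem hc.1 i))))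
    have hwE : ∀ w ∈ commutator G, w * w = 1 → w ∈ E := fun w hw hw2 => F.cent (by
      rw [mem_centralizer_iff]
      intro g hg
      exact h.frattini_commutes hnc hw hw2 (hle hg))
    have hwcen : ∀ w ∈ commutator G, w * w = 1 → ∀ g ∈ E, g * w = w * g := fun w hw hw2 g hg =>
      h.frattini_commutes hnc hw hw2 (hle hg)
    by_cases hz1 : z = 1
    · have hab : ∀ p ∈ E, ∀ q ∈ E, p * q = q * p := fun p hp q hq => by
        have := hcommE p hp q hq
        rw [hz1, zpowers_one_eq_bot, mem_bot] at this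
        exact commutatorElement_eq_one_iff_mul_comm.mp this
      have hexp : ∀ g ∈ E, g * g = 1 := fun g hg => by
        have := S.sq g (hEU hg)
        rwa [hz1, zpowers_one_eq_bot, mem_bot] at this
      have hfourE : ∀ p ∈ E, ∀ q ∈ E, ∀ r ∈ E, p * p = 1 → q * q = 1 → r * r = 1 → p ≠ 1 → q ≠ 1 → q ≠ p →
          r = 1 ∨ r = p ∨ r = q ∨ r = p * q := by
        intro p hp q hq r hr p2 q2 r2 p1 q1 qp
        by_contra hcon
        push Not at hcon
        obtain ⟨r1, rp, rq, rpq⟩ := hcon
        exact no_three h.frattini_metacyclic (a := ⟨p, hle hp⟩) (b := ⟨q, hle hq⟩) (c := ⟨r, hle hr⟩)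
          (Subtype.ext p2) (Subtype.ext q2) (Subtype.ext r2) (Subtype.ext (hab p hp q hq))
          (Subtype.ext (hab p hp r hr)) (Subtype.ext (hab q hq r hr))
          (fun e => p1 (congrArg Subtype.val e)) (fun e => q1 (congrArg Subtype.val e))
          (fun e => qp (congrArg Subtype.val e)) (fun e => r1 (congrArg Subtype.val e))
          (fun e => rp (congrArg Subtype.val e)) (fun e => rq (congrArg Subtype.val e))
          (fun e => rpq (congrArg Subtype.val e))
      refine F.derived_false h hnc hEU hab (fun g => Subgroup.mem_normalizer_fintype fun v hv => ?_) hfourE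
      have hvD : v ∈ commutator G := by
        rcases hfourE w₁ (hwE _ hw₁ hw₁2) w₂ (hwE _ hw₂ hw₂2) v hv hw₁2 hw₂2 (hexp v hv) hw₁1 hw₂1 hw21
          with rfl | rfl | rfl | rfl
        exacts [one_mem _, hw₁, hw₂, mul_mem hw₁ hw₂]
      refine hwE _ ((inferInstance : (commutator G).Normal).conj_mem v hvD g) ?_
      rw [show g * v * g⁻¹ * (g * v * g⁻¹) = g * (v * v) * g⁻¹ by group, hexp v hv, mul_one, mul_inv_cancel]
    · obtain ⟨w, hw, hw2, hw1, hwz⟩ : ∃ w, w ∈ commutator G ∧ w * w = 1 ∧ w ≠ 1 ∧ w ≠ z := by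
        by_cases e : w₁ = z
        · exact ⟨w₂, hw₂, hw₂2, hw₂1, e ▸ hw21⟩
        · exact ⟨w₁, hw₁, hw₁2, hw₁1, e⟩
      have hwU := hEU (hwE w hw hw2)
      have hwz' : w ∉ zpowers z := fun hm => (hZi.mp hm).elim hw1 hwz
      exact (S.nc hz1 w hwU hwz').2 (hwcen w hw hw2 (a w) (F.mem _ (hwE w hw hw2))).symm
  -- the element
  obtain ⟨c₀, hc₀, heΦ, hec₀⟩ : ∃ c₀ ∈ F.fixC, u * c₀ ∉ frattini G ∧ c₀ * c₀ ∈ zpowers z := by
    by_cases huΦ : u ∈ frattini G
    · have hu'Φ : u' ∈ frattini G := (inferInstance : (frattini G).Normal).conj_mem u huΦ σ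
      have hUΦ := hgenuu hzΦ huΦ hu'Φ
      have hcΦ : c ∉ frattini G := fun hm => hEΦ fun g hg => by
        obtain ⟨v, hv, i, rfl⟩ := hcyc g hg
        exact mul_mem (hUΦ hv) (zpow_mem hm i)
      refine ⟨c, hc, fun hm => hcΦ ?_, hsmallC hUΦ _ (mul_mem hc hc) (BC.sq_mem_frattini h.two c)⟩
      have := mul_mem (inv_mem huΦ) hm
      rwa [inv_mul_cancel_left] at this
    · exact ⟨1, one_mem _, by rwa [mul_one], by rw [mul_one]; exact one_mem _⟩
  set e := u * c₀ with he
  have heE : e ∈ E := E.mul_mem huE hc₀.1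
  have he2 : e * e ∈ zpowers z := by
    rw [he, show u * c₀ * (u * c₀) = u * (c₀ * u) * c₀ by group, hfixcomm hc₀ u huU,
      show u * (u * c₀) * c₀ = u * u * (c₀ * c₀) by group]
    exact mul_mem (S.sq u huU) hec₀
  set e' := σ * e * σ⁻¹ with he'
  have he'E : e' ∈ E := F.conj_mem heE
  have hσc₀ := F.fixC_sigma hc₀
  have he'eq : e' = u' * (σ * c₀ * σ⁻¹) := by rw [he', he, hu']; group
  have he'ne : z = 1 → e' ≠ e := by
    intro hz1 e1
    apply hmove
    rw [he'eq, he] at e1
    have h1 : u⁻¹ * u' = c₀ * (σ * c₀ * σ⁻¹)⁻¹ := by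
      rw [eq_mul_inv_iff_mul_eq, mul_assoc, e1, inv_mul_cancel_left]
    rw [h1]
    exact hfixU (mul_mem hc₀ (inv_mem hσc₀)) (h1 ▸ mul_mem (inv_mem huU) hu'U)
  have hncomm : z ≠ 1 → e * e' ≠ e' * e := by
    intro hz1 e1
    refine hncu hz1 ?_
    rw [he'eq, he] at e1
    set d := σ * c₀ * σ⁻¹
    have h1 := hfixcomm hc₀ u' hu'U
    have h2 := hfixcomm hσc₀ u huU
    have h3 : c₀ * d = d * c₀ := hcen hc₀ d hσc₀.1
    have : u * u' * (c₀ * d) = u' * u * (c₀ * d) := by
      calc u * u' * (c₀ * d) = u * (u' * c₀) * d := by group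
        _ = u * c₀ * (u' * d) := by rw [← h1]; group
        _ = u' * d * (u * c₀) := e1
        _ = u' * (d * u) * c₀ := by group
        _ = u' * u * (d * c₀) := by rw [h2]; group
        _ = _ := by rw [← h3]
    exact mul_right_cancel this
  set X := centralizer ({e} : Set G) with hX
  set X₀ := X ⊓ E with hX₀
  have hmemX : ∀ {g : G}, g ∈ X ↔ g * e = e * g := fun {g} => mem_centralizer_singleton_iff
  -- normalizer of `X ∩ E` in the quaternion case
  have hN₀ : z ≠ 1 → ∀ g ∈ normalizer (X₀ : Set G), g ∈ E := by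
    intro hz1
    have hEle : E ≤ normalizer (X₀ : Set G) := fun g hg => by
      refine Subgroup.mem_normalizer_fintype fun v hv => ?_
      have hv' : v ∈ X₀ := hv
      have hk := hcommE g hg v hv'.2
      have hkX : ⁅g, v⁆ ∈ X₀ := by
        refine ⟨hmemX.mpr ?_, F.comU_le (S.le hk)⟩
        rcases hZi.mp hk with e1 | e1 <;> rw [e1]
        · rw [one_mul, mul_one]
        · exact hcen hzC e heE
      have := X₀.mul_mem hkX hv'
      rwa [commutatorElement_def, inv_mul_cancel_right] at this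
    intro g hg
    by_contra hgE
    have hlt : E < normalizer (X₀ : Set G) := SetLike.lt_iff_le_and_exists.mpr ⟨hEle, g, hg, hgE⟩
    obtain ⟨k, hk, hkE⟩ := SetLike.exists_of_lt
      (Cfsg.Lib.FusionSys.lt_inf_normalizer_self (p := 2) (h.two.to_subgroup _) hlt)
    have hk1 := (F.cover k hk.2).resolve_left hkE
    have hσN : σ ∈ normalizer (X₀ : Set G) := by
      have := Subgroup.mul_mem (normalizer (X₀ : Set G)) hk.1 (Subgroup.inv_mem _ (hEle hk1))
      simpa [mul_assoc] using this
    have heX₀ : e ∈ X₀ := ⟨hmemX.mpr rfl, heE⟩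
    have := ((mem_normalizer_iff.mp hσN e).mp heX₀).1
    exact hncomm hz1 (hmemX.mp this).symm
  have hXE : X ≤ E := by
    by_contra hcon
    obtain ⟨g, hgX, hgE⟩ := SetLike.not_le_iff_exists.mp hcon
    have hlt : X₀ < X := SetLike.lt_iff_le_and_exists.mpr ⟨inf_le_left, g, hgX, fun hm => hgE hm.2⟩
    obtain ⟨k, hk, hkX₀⟩ := SetLike.exists_of_lt
      (Cfsg.Lib.FusionSys.lt_inf_normalizer_self (p := 2) (h.two.to_subgroup _) hlt)
    have hkE : k ∉ E := fun hm => hkX₀ ⟨hk.1, hm⟩
    by_cases hz1 : z = 1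
    · have hX₀E : X₀ = E := le_antisymm inf_le_right fun v hv => ⟨hmemX.mpr (by
        have := hcommE v hv e heE
        rw [hz1, zpowers_one_eq_bot, mem_bot] at this
        exact commutatorElement_eq_one_iff_mul_comm.mp this), hv⟩
      have hkN : k ∈ normalizer (E : Set G) := by
        have := hk.2
        rwa [hX₀E] at this
      have hk1 := (F.cover k hkN).resolve_left hkE
      have h1 := hmemX.mp hk.1
      have h2 : σ⁻¹ * k * e = e * (σ⁻¹ * k) := by
        have := hcommE _ hk1 e heE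
        rw [hz1, zpowers_one_eq_bot, mem_bot] at this
        exact commutatorElement_eq_one_iff_mul_comm.mp this
      refine he'ne hz1 ?_
      calc e' = σ * (e * (σ⁻¹ * k)) * k⁻¹ := by rw [he']; group
        _ = k * e * k⁻¹ := by rw [← h2]; group
        _ = e := by rw [h1, mul_inv_cancel_right]
    · exact hkE (hN₀ hz1 k hk.2)
  have hXX₀ : X = X₀ := le_antisymm (le_inf le_rfl hXE) inf_le_left
  have hXab : ∀ p ∈ X, ∀ q ∈ X, p * q = q * p := by
    intro p hp q hq
    by_cases hz1 : z = 1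
    · have := hcommE p (hXE hp) q (hXE hq)
      rw [hz1, zpowers_one_eq_bot, mem_bot] at this
      exact commutatorElement_eq_one_iff_mul_comm.mp this
    have hform : ∀ g ∈ X, ∃ k ∈ F.fixC, g = k ∨ g = u * k := by
      intro g hg
      obtain ⟨v, hv, i, rfl⟩ := hcyc g (hXE hg)
      have hvu : v * u = u * v := by
        have h1 := hmemX.mp hg
        have hci := zpow_mem hc i
        have k1 := hfixcomm hci u huU
        have k2 := hfixcomm hc₀ v hv
        have k3 : c ^ i * c₀ = c₀ * c ^ i := hcen hci c₀ hc₀.1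
        have : v * u * (c₀ * c ^ i) = u * v * (c₀ * c ^ i) := by
          calc v * u * (c₀ * c ^ i) = v * u * (c ^ i * c₀) := by rw [k3]
            _ = v * (u * c ^ i) * c₀ := by group
            _ = v * c ^ i * (u * c₀) := by rw [← k1]; group
            _ = u * c₀ * (v * c ^ i) := h1
            _ = u * (c₀ * v) * c ^ i := by group
            _ = _ := by rw [k2]; group
        exact mul_right_cancel this
      have hZfix : ∀ k ∈ zpowers z, k ∈ F.fixC := fun k hk => (zpowers_le.mpr hzC) hk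
      have hnc1 := (S.nc hz1 u huU huz).2
      rcases S.classes F h huU huz hv with e1 | e1 | e1 | e1
      · exact ⟨v * c ^ i, mul_mem (hZfix v e1) (zpow_mem hc i), Or.inl rfl⟩
      · exact ⟨(u⁻¹ * v) * c ^ i, mul_mem (hZfix _ e1) (zpow_mem hc i), Or.inr (by group)⟩
      · exfalso
        have hk := S.central e1 huU
        set k := (a u)⁻¹ * v
        have e2 : a u = v * k⁻¹ := by simp only [k]; group
        refine hnc1 ?_
        rw [e2, ← mul_assoc, ← hvu, mul_assoc, mul_assoc,
          (show u * k⁻¹ = k⁻¹ * u from (show Commute u k from hk).inv_right)]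
      · exfalso
        have hk := S.central e1 huU
        set k := (a (a u))⁻¹ * v
        have e2 : a (a u) = v * k⁻¹ := by simp only [k]; group
        have h5 : u * a (a u) = a (a u) * u := by
          rw [e2, ← mul_assoc, ← hvu, mul_assoc, mul_assoc,
            (show u * k⁻¹ = k⁻¹ * u from (show Commute u k from hk).inv_right)]
        have haauE := F.mem _ (F.mem _ huE)
        have := congrArg a h5
        rw [F.mul _ huE _ haauE, F.mul _ haauE _ huE, F.cube u huE] at this
        exact hnc1 this.symm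
    obtain ⟨k, hk, hp' | hp'⟩ := hform p hp <;> obtain ⟨l, hl, hq' | hq'⟩ := hform q hq <;> subst hp' hq'
    · exact hcen hk _ hl.1
    · exact hcen hk _ (E.mul_mem huE hl.1)
    · exact (hcen hl _ (E.mul_mem huE hk.1)).symm
    · have h1 := hcen hk (u * l) (E.mul_mem huE hl.1)
      have h2 := hcen hl u huE
      calc u * k * (u * l) = u * (k * (u * l)) := by group
        _ = u * (u * l * k) := by rw [h1]
        _ = u * (u * l) * k := by group
        _ = u * (l * u) * k := by rw [h2]
        _ = u * l * (u * k) := by group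
  -- conjugates under the normalizer
  obtain ⟨κ, hκ, hκz⟩ : ∃ κ : G, (∀ g ∈ normalizer (X : Set G), g * e * g⁻¹ = e ∨ g * e * g⁻¹ = κ * e) ∧
      (z ≠ 1 → κ = z) := by
    by_cases hz1 : z = 1
    · refine ⟨e' * e⁻¹, fun g hg => ?_, fun hne => absurd hz1 hne⟩
      have hcE : ∀ k ∈ E, k * e * k⁻¹ = e := fun k hk => by
        have := hcommE k hk e heE
        rw [hz1, zpowers_one_eq_bot, mem_bot] at this
        rw [commutatorElement_eq_one_iff_mul_comm.mp this, mul_inv_cancel_right]
      have hXeq : X = E := le_antisymm hXE fun v hv => hmemX.mpr (mul_inv_eq_iff_eq_mul.mp (hcE v hv))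
      rw [hXeq] at hg
      rcases F.cover g hg with hgE | hgE
      · exact Or.inl (hcE g hgE)
      · refine Or.inr ?_
        rw [show g * e * g⁻¹ = σ * ((σ⁻¹ * g) * e * (σ⁻¹ * g)⁻¹) * σ⁻¹ by group, hcE _ hgE, ← he']
        group
    · refine ⟨z, fun g hg => ?_, fun _ => rfl⟩
      rw [hXX₀] at hg
      have hgE := hN₀ hz1 g hg
      rw [show g * e * g⁻¹ = ⁅g, e⁆ * e by rw [commutatorElement_def]; group]
      rcases hZi.mp (hcommE g hgE e heE) with e1 | e1 <;> rw [e1]
      · exact Or.inl (one_mul e)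
      · exact Or.inr rfl
  have hval : ∀ w g : G, w * e = e * w → g * e * g⁻¹ = w * e → w = 1 ∨ w = κ := fun w g hw hg => by
    rcases hκ g (mem_normalizer_of_move hXab hw hg) with e1 | e1 <;> rw [hg] at e1
    · exact Or.inl (mul_eq_right.mp e1)
    · exact Or.inr (mul_right_cancel e1)
  -- `z` is central
  have hzcen : ∀ g : G, g * z = z * g := by
    by_cases hz1 : z = 1
    · intro g; rw [hz1, mul_one, one_mul]
    intro g
    refine mul_inv_eq_iff_eq_mul.mp ?_
    by_contra hne
    set z' := g * z * g⁻¹ with hz'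
    have hzD : z ∈ commutator G := by
      have hne1 : ⁅u, u'⁆ ≠ 1 := fun e1 => hncu hz1 (commutatorElement_eq_one_iff_mul_comm.mp e1)
      rw [← (hZi.mp (S.der u huU u' hu'U)).resolve_left hne1]
      exact comm_mem_commutator u u'
    have hz'D : z' ∈ commutator G := (inferInstance : (commutator G).Normal).conj_mem z hzD g
    have hz'2 : z' * z' = 1 := by
      rw [hz', show g * z * g⁻¹ * (g * z * g⁻¹) = g * (z * z) * g⁻¹ by group, hz2, mul_one, mul_inv_cancel]
    have hz'1 : z' ≠ 1 := fun e1 => hz1 (conj_eq_one_iff.mp e1)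
    obtain ⟨z₀, hz₀D, hz₀Z, hz₀1, hz₀2⟩ :=
      Cfsg.Lib.Fusion.RankTwo.exists_central_involution h.two (K := commutator G) fun e1 => by
        rw [e1, mem_bot] at hzD; exact hz1 hzD
    have hz₀c := mem_center_iff.mp hz₀Z
    have hz₀z : z₀ ≠ z := fun e1 => hne (by
      rw [hz', ← e1, hz₀c g, mul_inv_cancel_right])
    have hz₀z' : z₀ ≠ z' := fun e1 => hz₀z (by
      have : g * z * g⁻¹ = g * z₀ * g⁻¹ := by rw [← hz', ← e1, hz₀c g, mul_inv_cancel_right]
      exact (mul_left_cancel (mul_right_cancel this)).symm)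
    have hprod : z₀ = z * z' := by
      by_contra h4
      have hΦ : ∀ t ∈ commutator G, t ∈ frattini G := fun t ht =>
        Cfsg.Lib.PGroup.commutator_le_frattini h.two ht
      exact no_three h.frattini_metacyclic (a := ⟨z, hΦ z hzD⟩) (b := ⟨z', hΦ z' hz'D⟩)
        (c := ⟨z₀, hΦ z₀ hz₀D⟩) (Subtype.ext hz2) (Subtype.ext hz'2) (Subtype.ext hz₀2)
        (Subtype.ext (ito h.rep z hzD z' hz'D)) (Subtype.ext (hz₀c z)) (Subtype.ext (hz₀c z'))
        (fun e1 => hz1 (congrArg Subtype.val e1)) (fun e1 => hz'1 (congrArg Subtype.val e1))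
        (fun e1 => hne (congrArg Subtype.val e1)) (fun e1 => hz₀1 (congrArg Subtype.val e1))
        (fun e1 => hz₀z (congrArg Subtype.val e1)) (fun e1 => hz₀z' (congrArg Subtype.val e1))
        (fun e1 => h4 (congrArg Subtype.val e1))
    have hz'e : z' * e = e * z' := by
      have e1 : z' = z * z₀ := by rw [hprod, ← mul_assoc, hz2, one_mul]
      rw [e1, mul_assoc, ← hz₀c e, ← mul_assoc, hcen hzC e heE, mul_assoc]
    -- `z'` is a commutator of `e` with an element of the derived subgroup
    set s := e⁻¹ * e' with hs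
    have hsD : s ∈ commutator G := by
      rw [hs, he', show e⁻¹ * (σ * e * σ⁻¹) = ⁅e⁻¹, σ⁆ by rw [commutatorElement_def]; group]
      exact comm_mem_commutator _ _
    have hzs : ⁅e, s⁆ = z := by
      rcases hZi.mp (hcommE e heE s (E.mul_mem (E.inv_mem heE) he'E)) with e1 | e1
      · exfalso
        have h1 := commutatorElement_eq_one_iff_mul_comm.mp e1
        rw [hs] at h1
        refine hncomm hz1 ?_
        calc e * e' = e * (e * (e⁻¹ * e')) := by group
          _ = e * ((e⁻¹ * e') * e) := by rw [h1]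
          _ = e' * e := by group
      · exact e1
    set s' := g * s * g⁻¹
    have hs'D : s' ∈ commutator G := (inferInstance : (commutator G).Normal).conj_mem s hsD g
    set t := ⁅g, e⁆
    have h5 : z' = ⁅t * e, s'⁆ := by
      rw [hz', ← hzs]; simp only [t, s', commutatorElement_def]; group
    have h6 : ⁅e, s'⁆ = z' := by
      have e1 := ito h.rep t (comm_mem_commutator g e) s' hs'D
      have e2 := ito h.rep t (comm_mem_commutator g e) _ (comm_mem_commutator e s')
      have e3 : ∀ p q r : G, ⁅p * q, r⁆ = p * ⁅q, r⁆ * p⁻¹ * ⁅p, r⁆ := fun p q r => comm_mul_left' p q r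
      have e4 := e3 t e s'
      rw [commutatorElement_eq_one_iff_mul_comm.mpr e1, mul_one] at e4
      calc ⁅e, s'⁆ = t * ⁅e, s'⁆ * t⁻¹ := eq_mul_inv_of_mul_eq e2.symm
        _ = ⁅t * e, s'⁆ := e4.symm
        _ = z' := h5.symm
    have h7 : s' * e * s'⁻¹ = z' * e := by
      have h8 : ⁅s', e⁆ = z' := by
        rw [← commutatorElement_inv, h6]; exact inv_eq_of_mul_eq_one_left hz'2
      rw [← h8, commutatorElement_def]; group
    rcases hval z' s' hz'e h7 with e1 | e1
    · exact hz'1 e1
    · exact hne (e1.trans (hκz hz1))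
  have he2c : ∀ g : G, e * e * g = g * (e * e) := fun g => by
    rcases hZi.mp he2 with e1 | e1 <;> rw [e1]
    · rw [one_mul, mul_one]
    · exact (hzcen g).symm
  obtain ⟨hinv, hsurj⟩ := h.invert_and_surj hnc heΦ he2c
  have hW : ∀ w ∈ commutator G, w * w = 1 → w = 1 ∨ w = κ := by
    intro w hw hw2
    have hwi : w⁻¹ = w := inv_eq_of_mul_eq_one_left hw2
    have hwe : w * e = e * w := by
      have := hinv w hw
      rw [hwi] at this
      exact (mul_inv_eq_iff_eq_mul.mp this).symm
    obtain ⟨g, hg⟩ := hsurj w hw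
    refine hval w g hwe ?_
    rw [show g * e * g⁻¹ = ⁅e, g⁆⁻¹ * e by rw [commutatorElement_def]; group, hg, hwi]
  have e1 := (hW w₁ hw₁ hw₁2).resolve_left hw₁1
  have e2 := (hW w₂ hw₂ hw₂2).resolve_left hw₂1
  exact hw21 (e2.trans e1.symm)

/-- No such configuration exists when the derived subgroup is not cyclic. -/
theorem no_frame (hnc : ¬ IsCyclic (commutator G)) : False := by
  rcases F.shape h with ⟨z, S⟩ | ⟨hab, hno⟩
  · exact F.small_false h hnc S
  · exact F.homo_false h hnc hab hno

end Fr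

end Cfsg.Lib.Bicyclic
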