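import Cfsg.Agent.Lib.FusionSys.Bicyclic.Structure

/-!
# The subgroup carrying an automorphism of order three, for a cyclic derived subgroup

A product of the derived subgroup's part of order at most four, an element inverting the derived subgroup, and a cyclic
subgroup commuting with both.
-/

set_option autoImplicit false
set_option linter.style.haveILetI false

namespace Cfsg.Lib.Bicyclic

open Subgroup
open scoped commutatorElement

universe u

variable {G : Type u} [Group G]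

/-- The subgroup, its four group or quaternion part and the cyclic part, with what the system needs. -/
structure Core (b v c : G) : Prop where
  vv : v * v = b * b
  z2 : b * b * (b * b) = 1
  zc : ∀ g : G, g * (b * b) = b * b * g
  bvb : b * v * b⁻¹ = v⁻¹
  cb : c * b = b * c
  cv : c * v = v * c
  v1 : v ≠ 1
  bout : b ∉ zpowers v
  inter : ∀ q : ℤ, c ^ q ∈ closure ({b, v} : Set G) → c ^ q ∈ zpowers (b * b)
  norm : ∀ g ∈ normalizer (closure ({b, v, c} : Set G) : Set G),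
    g * c * g⁻¹ = c ∧ g * v * g⁻¹ ∈ zpowers v ∧ g * b * g⁻¹ ∈ closure ({b, v} : Set G)
  cent : ∀ g : G, g * b = b * g → g ∈ closure ({b, v, c} : Set G)
  outer : ∃ g ∈ normalizer (closure ({b, v, c} : Set G) : Set G),
    g * b * g⁻¹ = v * b ∨ g * b * g⁻¹ = v⁻¹ * b

/-- The shape of the elements generated by `b`, `v` and `c`. -/
theorem forms {b v c : G} (hbv : b * v * b⁻¹ = v⁻¹) (hcb : c * b = b * c) (hcv : c * v = v * c) :
    ∀ g ∈ closure ({b, v, c} : Set G), ∃ p e q : ℤ, g = v ^ p * b ^ e * c ^ q := by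
  have hb : ∀ (e p : ℤ), ∃ p' : ℤ, b ^ e * v ^ p = v ^ p' * b ^ e := by
    intro e
    induction e using Int.induction_on with
    | zero => exact fun p => ⟨p, by group⟩
    | succ i ih =>
      intro p
      obtain ⟨p', hp'⟩ := ih (-p)
      refine ⟨p', ?_⟩
      rw [zpow_add_one, mul_assoc, show b * v ^ p = (b * v * b⁻¹) ^ p * b by rw [conj_zpow]; group,
        hbv, inv_zpow', ← mul_assoc, hp', mul_assoc]
    | pred i ih =>
      intro p
      have h1 : b⁻¹ * v * b = v⁻¹ := by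
        rw [show b⁻¹ * v * b = (b⁻¹ * (b * v * b⁻¹) * b)⁻¹ by rw [hbv]; group]
        group
      obtain ⟨p', hp'⟩ := ih (-p)
      refine ⟨p', ?_⟩
      rw [zpow_sub_one, mul_assoc, show b⁻¹ * v ^ p = (b⁻¹ * v * b) ^ p * b⁻¹ by
        rw [show b⁻¹ * v * b = b⁻¹ * v * b⁻¹⁻¹ by rw [inv_inv], conj_zpow]; group,
        h1, inv_zpow', ← mul_assoc, hp', mul_assoc]
  intro g hg
  induction hg using closure_induction with
  | mem u hu =>
    rcases hu with rfl | rfl | rfl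
    · exact ⟨0, 1, 0, by group⟩
    · exact ⟨1, 0, 0, by group⟩
    · exact ⟨0, 0, 1, by group⟩
  | one => exact ⟨0, 0, 0, by group⟩
  | mul g k _ _ i1 i2 =>
    obtain ⟨p, e, q, rfl⟩ := i1
    obtain ⟨p₂, e₂, q₂, rfl⟩ := i2
    obtain ⟨p', hp'⟩ := hb e p₂
    refine ⟨p + p', e + e₂, q + q₂, ?_⟩
    have h1 : c ^ q * (v ^ p₂ * b ^ e₂) = v ^ p₂ * b ^ e₂ * c ^ q :=
      (((show Commute c v from hcv).zpow_zpow q p₂).mul_right
        ((show Commute c b from hcb).zpow_zpow q e₂)).eq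
    calc v ^ p * b ^ e * c ^ q * (v ^ p₂ * b ^ e₂ * c ^ q₂)
        = v ^ p * b ^ e * (c ^ q * (v ^ p₂ * b ^ e₂)) * c ^ q₂ := by group
      _ = v ^ p * (b ^ e * v ^ p₂) * b ^ e₂ * (c ^ q * c ^ q₂) := by rw [h1]; group
      _ = _ := by rw [hp', zpow_add, zpow_add b, zpow_add c]; group
  | inv g _ i1 =>
    obtain ⟨p, e, q, rfl⟩ := i1
    obtain ⟨p', hp'⟩ := hb (-e) (-p)
    refine ⟨p', -e, -q, ?_⟩
    have h1 : c ^ (-q) * (b ^ (-e) * v ^ (-p)) = b ^ (-e) * v ^ (-p) * c ^ (-q) :=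
      (((show Commute c b from hcb).zpow_zpow _ _).mul_right ((show Commute c v from hcv).zpow_zpow _ _)).eq
    calc (v ^ p * b ^ e * c ^ q)⁻¹ = c ^ (-q) * (b ^ (-e) * v ^ (-p)) := by group
      _ = _ := by rw [h1, hp']

/-- The shape of the elements generated by `b` and `v`. -/
theorem forms_two {b v : G} (hbv : b * v * b⁻¹ = v⁻¹) :
    ∀ g ∈ closure ({b, v} : Set G), ∃ p e : ℤ, g = v ^ p * b ^ e := by
  intro g hg
  obtain ⟨p, e, q, rfl⟩ := forms (c := 1) hbv (by group) (by group) g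
    (closure_mono (by intro w; simp +contextual [or_imp]) hg)
  exact ⟨p, e, by rw [one_zpow, mul_one]⟩

/-- Two generators, the first squaring into the squares of the cyclic derived subgroup. -/
structure Base (b a : G) : Prop where
  gen : closure ({b, a} : Set G) = ⊤
  der : commutator G = zpowers ⁅b, a⁆
  t1 : ⁅b, a⁆ ≠ 1
  sq : b * b ∈ zpowers (⁅b, a⁆ * ⁅b, a⁆)
  meet : ∀ k : ℤ, a ^ k ∈ zpowers ⁅b, a⁆ → a ^ k ∈ zpowers (⁅b, a⁆ * ⁅b, a⁆)
  asq : a * a ∉ zpowers ⁅b, a⁆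
  bout : b ∉ zpowers ⁅b, a⁆ ⊔ zpowers a

variable [Finite G]

theorem BC.exists_base {x y : G} (h : BC G x y) (hc : IsCyclic (commutator G)) :
    ∃ b a : G, Base b a := by
  have hd := quotient_derived (G := G)
  have hQ := h.quotient
  obtain ⟨i, j, hi, hj, e⟩ := hQ.exists_invol hd
  set π := QuotientGroup.mk' (derSq G) with hπ
  obtain ⟨⟨t₀, ht₀⟩, hgen0⟩ := hc.exists_generator
  have hD : commutator G = zpowers t₀ := le_antisymm (fun g hg => by
    obtain ⟨k, hk⟩ := mem_zpowers_iff.mp (hgen0 ⟨g, hg⟩)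
    exact ⟨k, congrArg Subtype.val hk⟩) (zpowers_le.mpr ht₀)
  have hN : derSq G ≤ zpowers (t₀ * t₀) := by
    haveI : (zpowers (t₀ * t₀)).Normal := ⟨fun v hv g => by
      obtain ⟨k, rfl⟩ := mem_zpowers_iff.mp hv
      have h1 : g * t₀ * g⁻¹ ∈ zpowers t₀ :=
        hD ▸ (inferInstance : (commutator G).Normal).conj_mem t₀ ht₀ g
      obtain ⟨m, hm⟩ := mem_zpowers_iff.mp h1
      refine ⟨m * k, ?_⟩
      show (t₀ * t₀) ^ (m * k) = _
      rw [← conj_zpow, zpow_mul, (Commute.refl t₀).mul_zpow m, hm]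
      group⟩
    refine normalClosure_le_normal ?_
    rintro v (⟨g, hg, rfl⟩ | ⟨g, hg, w, rfl⟩) <;> rw [hD] at hg <;>
      obtain ⟨k, rfl⟩ := mem_zpowers_iff.mp hg
    · exact ⟨k, (Commute.refl t₀).mul_zpow k⟩
    · obtain ⟨m, hm⟩ := mem_zpowers_iff.mp
        (hD ▸ (inferInstance : (commutator G).Normal).conj_mem t₀ ht₀ w : w * t₀ * w⁻¹ ∈ zpowers t₀)
      have e1 : ⁅t₀ ^ k, w⁆ = t₀ ^ (k - m * k) := by
        rw [show ⁅t₀ ^ k, w⁆ = t₀ ^ k * (w * t₀ ^ k * w⁻¹)⁻¹ by rw [commutatorElement_def]; group,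
          ← conj_zpow, ← hm, ← zpow_mul, zpow_sub]
      rw [e1]
      rcases Int.even_or_odd m with ⟨r, rfl⟩ | ⟨r, rfl⟩
      · -- then the generator is trivial
        have h1 : t₀ ∈ zpowers (t₀ * t₀) := by
          have h2 : t₀ = w⁻¹ * t₀ ^ (r + r) * w⁻¹⁻¹ := by rw [hm]; group
          obtain ⟨s, hs⟩ := mem_zpowers_iff.mp
            (hD ▸ (inferInstance : (commutator G).Normal).conj_mem t₀ ht₀ w⁻¹ :
              w⁻¹ * t₀ * w⁻¹⁻¹ ∈ zpowers t₀)
          refine ⟨s * r, ?_⟩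
          conv_rhs => rw [h2, ← conj_zpow, ← hs]
          show (t₀ * t₀) ^ (s * r) = _
          rw [(Commute.refl t₀).mul_zpow, ← zpow_add, ← zpow_mul]
          ring_nf
        exact zpow_mem h1 _
      · refine ⟨-(r * k), ?_⟩
        show (t₀ * t₀) ^ (-(r * k)) = _
        rw [(Commute.refl t₀).mul_zpow, ← zpow_add]
        ring_nf
  set b := x ^ i * y ^ j with hb
  have hπb : π b = π x ^ i * π y ^ j := by rw [hb, map_mul, map_zpow, map_zpow]
  set t := ⁅b, y⁆ with ht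
  have hπt : π t = ⁅π x, π y⁆ := by rw [ht, map_commutatorElement, hπb, BC.comm_h hQ hd hi]
  have htN : t ∉ derSq G := fun hm => hQ.comm_ne_one hd (by
    rw [← hπt, hπ, QuotientGroup.mk'_apply, (QuotientGroup.eq_one_iff _).mpr hm])
  have htD : t ∈ commutator G := comm_mem_commutator b y
  obtain ⟨m, hm⟩ := mem_zpowers_iff.mp (hD ▸ htD : t ∈ zpowers t₀)
  have hmodd : Odd m := by
    rcases Int.even_or_odd m with ⟨r, rfl⟩ | ho
    · exfalso
      refine htN ?_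
      rw [← hm, zpow_add]
      exact mul_self_mem_derSq (zpow_mem ht₀ r)
    · exact ho
  have hzt : zpowers t = zpowers t₀ := le_antisymm (zpowers_le.mpr ⟨m, hm⟩)
    (zpowers_le.mpr (mem_of_odd_zpow h.two hmodd (by rw [hm]; exact mem_zpowers t)))
  obtain ⟨s, hs⟩ := mem_zpowers_iff.mp (hzt.ge (mem_zpowers t₀))
  have hNt : derSq G ≤ zpowers (t * t) := hN.trans (zpowers_le.mpr ⟨s, by
    show (t * t) ^ s = t₀ * t₀
    rw [(Commute.refl t).mul_zpow, hs]⟩)
  have hfromN : ∀ g, π g = 1 → g ∈ zpowers (t * t) := fun g hg =>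
    hNt ((QuotientGroup.eq_one_iff g).mp hg)
  have hindep : ∀ (ε f k : ℤ), π b ^ ε * π t ^ f * π y ^ k = 1 →
      Even ε ∧ Even f ∧ π y ^ k = 1 := fun ε f k he => by
    rw [hπb, hπt] at he
    exact hQ.indep hd hi hj e he
  have hmeet : ∀ k : ℤ, y ^ k ∈ zpowers t → y ^ k ∈ zpowers (t * t) := fun k hk => by
    obtain ⟨f, hf⟩ := mem_zpowers_iff.mp hk
    refine hfromN _ ?_
    rw [map_zpow]
    refine (hindep 0 (-f) k ?_).2.2
    rw [zpow_zero, one_mul, ← map_zpow, ← map_zpow, ← hf, ← map_mul, ← zpow_add, neg_add_cancel,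
      zpow_zero, map_one]
  refine ⟨b, y, ⟨?_, by rw [hD, ← hzt], fun h1 => htN (by rw [ht, h1]; exact one_mem _), hfromN _ ?_, hmeet,
    fun hm2 => h.y_sq_not_mem ?_, fun hm2 => ?_⟩⟩
  · rw [eq_top_iff, ← h.gen]
    refine (closure_le _).mpr ?_
    have hy : y ∈ closure ({b, y} : Set G) := subset_closure (by simp)
    rintro v (rfl | rfl)
    · refine mem_of_odd_zpow h.two hi ?_
      have := mul_mem (subset_closure (by simp : b ∈ ({b, y} : Set G))) (inv_mem (zpow_mem hy j))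
      rwa [hb, mul_inv_cancel_right] at this
    · exact hy
  · rw [map_mul, hπb]; exact e
  · have h2 := hmeet 2 (by rw [zpow_two]; exact hm2)
    rw [zpow_two] at h2
    have h3 : zpowers (t * t) ≤ derSq G := zpowers_le.mpr (mul_self_mem_derSq htD)
    exact h3 h2
  · haveI : (zpowers t).Normal := by rw [hzt, ← hD]; infer_instance
    have hb2 : b ∈ ((zpowers t ⊔ zpowers y : Subgroup G) : Set G) := hm2
    rw [Subgroup.normal_mul] at hb2
    obtain ⟨p, ⟨f, rfl⟩, q, ⟨k, rfl⟩, hpq⟩ := hb2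
    have := (hindep (-1) f k (by
      rw [zpow_neg_one, mul_assoc, inv_mul_eq_one, ← map_zpow, ← map_zpow, ← map_mul]
      exact congrArg π hpq.symm)).1
    exact absurd this (by decide)

section Base

variable {b a : G} (B : Base b a) (h2 : IsPGroup 2 G)
include B h2

omit [Finite G] h2 in
theorem Base.conj_t (g : G) : g * ⁅b, a⁆ * g⁻¹ ∈ zpowers ⁅b, a⁆ := by
  rw [← B.der]
  exact (inferInstance : (commutator G).Normal).conj_mem _ (comm_mem_commutator b a) g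

omit [Finite G] h2 in
theorem Base.normal_t : (zpowers ⁅b, a⁆).Normal := by
  rw [← B.der]; infer_instance

theorem Base.odd_of_conj {g : G} {χ : ℤ} (hg : g * ⁅b, a⁆ * g⁻¹ = ⁅b, a⁆ ^ χ) : Odd χ := by
  rcases Int.even_or_odd χ with ⟨r, rfl⟩ | ho
  · exfalso
    set t := ⁅b, a⁆
    obtain ⟨s, hs⟩ := mem_zpowers_iff.mp (B.conj_t g⁻¹)
    have h1 : t ^ ((r + r) * s) = t := by
      rw [zpow_mul', hs, conj_zpow, ← hg]; group
    have h3 : t ^ (1 - (r + r) * s) = 1 := by rw [zpow_sub, h1, zpow_one, mul_inv_cancel]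
    exact B.t1 (mem_bot.mp (mem_of_odd_zpow h2 (K := ⊥) ⟨-(r * s), by ring⟩ (mem_bot.mpr h3)))
  · exact ho

theorem Base.inverts : b * ⁅b, a⁆ * b⁻¹ = ⁅b, a⁆⁻¹ ∧ b * b * (b * b) = 1 := by
  set t := ⁅b, a⁆ with ht
  obtain ⟨μ, hμ⟩ := mem_zpowers_iff.mp (B.conj_t a)
  obtain ⟨β, hβ⟩ := mem_zpowers_iff.mp (B.conj_t b)
  obtain ⟨k, hk⟩ := (B.odd_of_conj h2 hμ.symm)
  obtain ⟨m, hm⟩ := mem_zpowers_iff.mp B.sq
  have hm' : t ^ (2 * m) = b * b := by rw [← hm, (Commute.refl t).mul_zpow, two_mul, zpow_add]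
  -- conjugate `b²` by `a`
  have e1 : a * (b * b) * a⁻¹ = t⁻¹ * (b * t⁻¹ * b⁻¹) * (b * b) := by
    rw [ht, commutatorElement_def]; group
  rw [← hm', ← conj_zpow, ← hμ, ← zpow_mul,
    show b * t⁻¹ * b⁻¹ = (b * t * b⁻¹)⁻¹ by group, ← hβ, ← zpow_neg_one, ← zpow_neg, ← zpow_add,
    ← zpow_add] at e1
  have e2 : t ^ (β + 1 + 4 * m * k) = 1 := by
    have : t ^ (μ * (2 * m) - (-1 + -β + 2 * m)) = 1 := by rw [zpow_sub, e1, mul_inv_cancel]
    rw [hk] at this
    convert this using 2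
    ring
  -- `b` fixes its square
  have e3 : t ^ (β * (2 * m) - 2 * m) = 1 := by
    rw [zpow_sub, zpow_mul, hβ, conj_zpow, hm']
    group
  have e4 : t ^ (4 * m) = 1 := by
    refine mem_bot.mp (mem_of_odd_zpow h2 (K := ⊥) (i := -(2 * m * k + 1)) ⟨-(m * k) - 1, by ring⟩ ?_)
    rw [mem_bot, ← zpow_mul, show 4 * m * -(2 * m * k + 1) =
      (β * (2 * m) - 2 * m) + (β + 1 + 4 * m * k) * (-(2 * m)) by ring, zpow_add, e3, zpow_mul, e2,
      one_zpow, one_mul]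
  refine ⟨?_, ?_⟩
  · rw [← hβ, ← zpow_neg_one]
    have : t ^ (β + 1) = 1 := by
      have h5 : t ^ (4 * m * k) = 1 := by rw [zpow_mul, e4, one_zpow]
      rw [zpow_add, h5, mul_one] at e2
      exact e2
    rw [show β = (β + 1) + -1 by ring, zpow_add, this, one_mul]
  · rw [← hm', ← zpow_add, ← e4]
    ring_nf

/-- The involution of the derived subgroup. -/
theorem Base.exists_invol : ∃ n : ℕ, orderOf ⁅b, a⁆ = 2 ^ (n + 1) ∧
    ∀ w ∈ zpowers ⁅b, a⁆, w * w = 1 → w = 1 ∨ w = ⁅b, a⁆ ^ 2 ^ n := by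
  set t := ⁅b, a⁆
  haveI : Fact (Nat.Prime 2) := ⟨Nat.prime_two⟩
  obtain ⟨k, hk⟩ := IsPGroup.iff_orderOf.mp h2 t
  obtain ⟨n, rfl⟩ : ∃ n, k = n + 1 := ⟨k - 1, by
    have : k ≠ 0 := fun e => B.t1 (orderOf_eq_one_iff.mp (by rw [hk, e, pow_zero]))
    omega⟩
  refine ⟨n, hk, fun w hw hw2 => ?_⟩
  obtain ⟨i, rfl⟩ := mem_zpowers_iff.mp hw
  rw [← zpow_add, ← orderOf_dvd_iff_zpow_eq_one, hk, ← two_mul] at hw2
  push_cast at hw2
  rw [pow_succ'] at hw2
  obtain ⟨r, rfl⟩ := (mul_dvd_mul_iff_left (by norm_num : (2 : ℤ) ≠ 0)).mp hw2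
  have hz2 : t ^ ((2 : ℤ) ^ n) * t ^ ((2 : ℤ) ^ n) = 1 := by
    rw [← zpow_add, ← orderOf_dvd_iff_zpow_eq_one, hk]
    push_cast
    exact ⟨1, by ring⟩
  have he : t ^ 2 ^ n = t ^ ((2 : ℤ) ^ n) := by
    rw [← zpow_natCast]; push_cast; rfl
  rw [he, zpow_mul]
  rcases Int.even_or_odd r with ⟨p, rfl⟩ | ⟨p, rfl⟩
  · exact Or.inl (by rw [← two_mul, zpow_mul, zpow_two, hz2, one_zpow])
  · exact Or.inr (by rw [zpow_add, zpow_mul, zpow_two, hz2, one_zpow, one_mul, zpow_one])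

/-- The cyclic part. -/
theorem Base.exists_c : ∃ l κ : ℤ, (4 : ℤ) ∣ κ ∧
    (⁅b, a⁆ ^ l * (a * a)) * b = b * (⁅b, a⁆ ^ l * (a * a)) ∧
    ∀ g : G, ∃ χ s : ℤ, g * ⁅b, a⁆ * g⁻¹ = ⁅b, a⁆ ^ χ ∧ g * b * g⁻¹ = ⁅b, a⁆ ^ s * b ∧
      g * (⁅b, a⁆ ^ l * (a * a)) * g⁻¹ = ⁅b, a⁆ ^ (κ * s) * (⁅b, a⁆ ^ l * (a * a)) := by
  set t := ⁅b, a⁆ with ht
  obtain ⟨μ, hμ⟩ := mem_zpowers_iff.mp (B.conj_t a)
  obtain ⟨k, hk⟩ := B.odd_of_conj h2 hμ.symm
  subst hk
  obtain ⟨hinv, -⟩ := B.inverts h2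
  rw [← ht] at hμ hinv
  have hab : a * b * a⁻¹ = t⁻¹ * b := by rw [ht, commutatorElement_def]; group
  obtain ⟨k', hk'⟩ : ∃ k', k * (k + 1) = 2 * k' := by
    obtain ⟨r, hr⟩ := Int.even_mul_succ_self k
    exact ⟨r, by rw [hr]; ring⟩
  set c := t ^ (k + 1) * (a * a) with hc
  have hcb : c * b = b * c := by
    have e1 : a * a * b * (a * a)⁻¹ = t ^ (-(2 * k + 2)) * b := by
      rw [show a * a * b * (a * a)⁻¹ = a * (a * b * a⁻¹) * a⁻¹ by group, hab,
        show a * (t⁻¹ * b) * a⁻¹ = (a * t * a⁻¹)⁻¹ * (a * b * a⁻¹) by group, hab, ← hμ,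
        ← zpow_neg, ← mul_assoc, ← zpow_neg_one, ← zpow_add]
      ring_nf
    have e2 : b * t ^ (k + 1) = t ^ (-(k + 1)) * b := by
      rw [show b * t ^ (k + 1) = (b * t * b⁻¹) ^ (k + 1) * b by rw [conj_zpow]; group, hinv,
        inv_zpow']
    calc c * b = t ^ (k + 1) * (a * a * b * (a * a)⁻¹) * (a * a) := by rw [hc]; group
      _ = t ^ (k + 1 + -(2 * k + 2)) * b * (a * a) := by rw [e1]; group
      _ = t ^ (-(k + 1)) * b * (a * a) := by ring_nf
      _ = b * c := by rw [← e2, hc, mul_assoc]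
  refine ⟨k + 1, -2 * (k * (k + 1)), ⟨-k', by rw [hk']; ring⟩, hcb, ?_⟩
  intro g
  have hg : g ∈ closure ({b, a} : Set G) := B.gen ▸ mem_top g
  induction hg using closure_induction with
  | mem v hv =>
    rcases hv with rfl | rfl
    · exact ⟨-1, 0, by rw [hinv, zpow_neg_one], by group,
        by rw [mul_zero, zpow_zero, one_mul, ← hcb, mul_inv_cancel_right]⟩
    · refine ⟨2 * k + 1, -1, hμ.symm, by rw [hab, zpow_neg_one], ?_⟩
      rw [show v * (t ^ (k + 1) * (v * v)) * v⁻¹ = (v * t * v⁻¹) ^ (k + 1) * (v * v) by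
        rw [conj_zpow]; group, ← hμ, ← zpow_mul, ← mul_assoc (t ^ (-2 * (k * (k + 1)) * -1)), ← zpow_add]
      ring_nf
  | one => exact ⟨1, 0, by group, by group, by rw [mul_zero]; group⟩
  | mul g g' _ _ i1 i2 =>
    obtain ⟨χ, s, e1, e2, e3⟩ := i1
    obtain ⟨χ', s', f1, f2, f3⟩ := i2
    refine ⟨χ * χ', χ * s' + s, ?_, ?_, ?_⟩
    · rw [show g * g' * t * (g * g')⁻¹ = g * (g' * t * g'⁻¹) * g⁻¹ by group, f1, ← conj_zpow, e1,
        ← zpow_mul]
    · rw [show g * g' * b * (g * g')⁻¹ = g * (g' * b * g'⁻¹) * g⁻¹ by group, f2,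
        show g * (t ^ s' * b) * g⁻¹ = (g * t ^ s' * g⁻¹) * (g * b * g⁻¹) by group, ← conj_zpow, e1, e2,
        ← zpow_mul, ← mul_assoc, ← zpow_add]
    · rw [show g * g' * c * (g * g')⁻¹ = g * (g' * c * g'⁻¹) * g⁻¹ by group, f3,
        show g * (t ^ (-2 * (k * (k + 1)) * s') * c) * g⁻¹ =
          (g * t ^ (-2 * (k * (k + 1)) * s') * g⁻¹) * (g * c * g⁻¹) by group,
        ← conj_zpow, e1, e3, ← zpow_mul, ← mul_assoc, ← zpow_add]
      ring_nf
  | inv g _ i1 =>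
    obtain ⟨χ, s, e1, e2, e3⟩ := i1
    obtain ⟨χ', hχ'⟩ := mem_zpowers_iff.mp (B.conj_t g⁻¹)
    rw [inv_inv, ← ht] at hχ'
    refine ⟨χ', -(χ' * s), by rw [inv_inv, hχ'], ?_, ?_⟩
    · rw [inv_inv, show g⁻¹ * b * g = (g⁻¹ * t ^ (-s) * g⁻¹⁻¹) * (g⁻¹ * (t ^ s * b) * g) by group, ← e2,
        ← conj_zpow, inv_inv, ← hχ', ← zpow_mul]
      group
    · rw [inv_inv, show g⁻¹ * c * g = (g⁻¹ * t ^ (-(-2 * (k * (k + 1)) * s)) * g⁻¹⁻¹) *
        (g⁻¹ * (t ^ (-2 * (k * (k + 1)) * s) * c) * g) by group, ← e3, ← conj_zpow, inv_inv, ← hχ',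
        ← zpow_mul]
      group

/-- The central involution among the powers of the cyclic part can be moved into the square of `b`. -/
theorem Base.improve {l κ : ℤ} (hκ : (4 : ℤ) ∣ κ) {c : G} (hc : c = ⁅b, a⁆ ^ l * (a * a))
    (hcb : c * b = b * c) (hca : a * c * a⁻¹ = ⁅b, a⁆ ^ (-κ) * c) (hbb : b * b = 1) {n : ℕ}
    (hn : orderOf ⁅b, a⁆ = 2 ^ (n + 1)) (hzc : ⁅b, a⁆ ^ 2 ^ n ∈ zpowers c) :
    ∃ b' : G, Base b' a ∧ b' * b' ≠ 1 := by
  haveI : Fact (Nat.Prime 2) := ⟨Nat.prime_two⟩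
  set t := ⁅b, a⁆ with ht
  set z := t ^ 2 ^ n with hz
  have hz1 : z ≠ 1 := fun e => by
    rw [← orderOf_dvd_iff_pow_eq_one, hn, Nat.pow_dvd_pow_iff_le_right (by norm_num)] at e
    omega
  haveI := B.normal_t
  have hct : c ∈ zpowers t ⊔ zpowers a :=
    hc ▸ mul_mem (mem_sup_left (zpow_mem (mem_zpowers t) l))
      (mem_sup_right (mul_mem (mem_zpowers a) (mem_zpowers a)))
  have hcΦ : c ∈ frattini G := by
    rw [hc]
    refine mul_mem (zpow_mem (Cfsg.Lib.PGroup.commutator_le_frattini h2 (comm_mem_commutator b a)) l) ?_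
    rw [← pow_two]; exact Cfsg.Lib.PGroup.pow_mem_frattini h2 a
  obtain ⟨q, hq⟩ := mem_zpowers_iff.mp hzc
  obtain ⟨r, rfl⟩ : Even q := by
    rcases Int.even_or_odd q with he | ho
    · exact he
    exfalso
    have h1 : c ∈ zpowers t := mem_of_odd_zpow h2 ho (hq ▸ pow_mem (mem_zpowers t) _)
    have h3 := mul_mem (inv_mem (zpow_mem (mem_zpowers t) l)) h1
    rw [hc, inv_mul_cancel_left] at h3
    exact B.asq h3
  set w := c ^ r with hw
  have hww : w * w = z := by rw [hw, ← zpow_add, hq]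
  -- the derived subgroup has order at least four
  obtain ⟨n', rfl⟩ : ∃ n', n = n' + 1 := by
    refine ⟨n - 1, ?_⟩
    by_contra hn0
    obtain rfl : n = 0 := by omega
    have hzt : z = t := by rw [hz, pow_zero, pow_one]
    have htt : t * t = 1 := by rw [← pow_two, ← orderOf_dvd_iff_pow_eq_one, hn]; norm_num
    have hta : Commute (a * a) t := by
      obtain ⟨i, hi⟩ := mem_zpowers_iff.mp (B.conj_t (a * a))
      rcases Int.even_or_odd i with ⟨p, rfl⟩ | ⟨p, rfl⟩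
      · rw [← two_mul, zpow_mul, zpow_two, htt, one_zpow] at hi
        exact absurd (conj_eq_one_iff.mp hi.symm) B.t1
      · rw [zpow_add, zpow_mul, zpow_two, htt, one_zpow, one_mul, zpow_one] at hi
        exact mul_inv_eq_iff_eq_mul.mp hi.symm
    have h1 : (a ^ (2 * (r + r)) : G) = t := by
      rw [← hzt, ← hq, hc, (hta.symm.zpow_left l).mul_zpow, ← zpow_mul t,
        show l * (r + r) = 2 * (l * r) by ring, zpow_mul t, zpow_two, htt, one_zpow, one_mul,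
        ← zpow_two, ← zpow_mul]
    have h3 := B.meet _ (by rw [h1]; exact mem_zpowers t : a ^ (2 * (r + r)) ∈ zpowers t)
    rw [h1, htt, zpowers_one_eq_bot, mem_bot] at h3
    exact B.t1 h3
  haveI hK : (zpowers (t * t)).Normal := ⟨fun v hv g => by
    obtain ⟨i, rfl⟩ := mem_zpowers_iff.mp hv
    obtain ⟨j, hj⟩ := mem_zpowers_iff.mp (B.conj_t g)
    rw [← ht] at hj
    refine ⟨j * i, ?_⟩
    show (t * t) ^ (j * i) = _
    rw [← conj_zpow, zpow_mul, (Commute.refl t).mul_zpow j, hj]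
    group⟩
  have hwa : ⁅w, a⁆ ∈ zpowers (t * t) := by
    set π := QuotientGroup.mk' (zpowers (t * t))
    obtain ⟨p, hp⟩ := hκ
    have h1 : π (t ^ (-κ)) = 1 := (QuotientGroup.eq_one_iff _).mpr ⟨-2 * p, by
      show (t * t) ^ (-2 * p) = _
      rw [(Commute.refl t).mul_zpow, ← zpow_add, hp]; ring_nf⟩
    have h3 : Commute (π a) (π c) := by
      have := congrArg π hca
      rw [map_mul, map_mul, map_mul, map_inv, h1, one_mul] at this
      exact mul_inv_eq_iff_eq_mul.mp this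
    rw [← QuotientGroup.eq_one_iff, ← QuotientGroup.mk'_apply, map_commutatorElement,
      commutatorElement_eq_one_iff_mul_comm, hw, map_zpow]
    exact (h3.symm.zpow_left r).eq
  set t' := ⁅b * w, a⁆ with ht'
  obtain ⟨i, hi⟩ : ∃ i : ℤ, t' = t ^ (2 * i + 1) := by
    obtain ⟨i, hi⟩ := mem_zpowers_iff.mp (hK.conj_mem _ hwa b)
    refine ⟨i, ?_⟩
    rw [ht', show ⁅b * w, a⁆ = b * ⁅w, a⁆ * b⁻¹ * t by rw [ht]; simp only [commutatorElement_def]; group,
      ← hi, (Commute.refl t).mul_zpow, ← zpow_add, ← two_mul, zpow_add t (2 * i), zpow_one]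
  have hzp : zpowers t' = zpowers t := by
    refine le_antisymm (zpowers_le.mpr ⟨_, hi.symm⟩) (zpowers_le.mpr ?_)
    exact mem_of_odd_zpow h2 ⟨i, rfl⟩ (hi ▸ mem_zpowers _)
  obtain ⟨j, hj⟩ := mem_zpowers_iff.mp (hzp.ge (mem_zpowers t))
  have hsqle : zpowers (t * t) ≤ zpowers (t' * t') := zpowers_le.mpr ⟨j, by
    show (t' * t') ^ j = t * t
    rw [(Commute.refl t').mul_zpow, hj]⟩
  have hwc : Commute b w := (show Commute b c from hcb.symm).zpow_right r
  have hbw : b * w * (b * w) = z := by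
    calc b * w * (b * w) = b * (w * b) * w := by group
      _ = (b * b) * (w * w) := by rw [← hwc.eq]; group
      _ = z := by rw [hbb, one_mul, hww]
  refine ⟨b * w, ⟨?_, by rw [B.der, hzp], ?_, ?_, ?_, ?_, ?_⟩, by rw [hbw]; exact hz1⟩
  · refine frattini_nongenerating (eq_top_iff.mpr ?_)
    rw [← B.gen]
    refine (closure_le _).mpr ?_
    rintro v (rfl | rfl)
    · have := mul_mem (mem_sup_left (subset_closure (by simp : v * w ∈ ({v * w, a} : Set G))) :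
        v * w ∈ closure ({v * w, a} : Set G) ⊔ frattini G) (mem_sup_right (inv_mem (zpow_mem hcΦ r)))
      rwa [← hw, mul_inv_cancel_right] at this
    · exact mem_sup_left (subset_closure (by simp))
  · intro e
    exact B.t1 (mem_bot.mp (zpowers_one_eq_bot (G := G) ▸ (e ▸ hzp.ge (mem_zpowers t) : t ∈ zpowers (1 : G))))
  · rw [hbw]
    refine hsqle ⟨((2 ^ n' : ℕ) : ℤ), ?_⟩
    show (t * t) ^ ((2 ^ n' : ℕ) : ℤ) = z
    rw [zpow_natCast, ← pow_two, ← pow_mul, hz, pow_succ']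
  · intro k hk
    exact hsqle (B.meet k (hzp ▸ hk))
  · rw [hzp]; exact B.asq
  · rw [hzp]
    intro hm
    refine B.bout ?_
    have := mul_mem hm (inv_mem (zpow_mem hct r))
    rwa [← hw, mul_inv_cancel_right] at this

/-- The subgroup exists in the good case. -/
theorem Base.core {l κ : ℤ} (hκ : (4 : ℤ) ∣ κ) {c : G} (hc : c = ⁅b, a⁆ ^ l * (a * a))
    (hcb : c * b = b * c) (hconj : ∀ g : G, ∃ χ s : ℤ, g * ⁅b, a⁆ * g⁻¹ = ⁅b, a⁆ ^ χ ∧
      g * b * g⁻¹ = ⁅b, a⁆ ^ s * b ∧ g * c * g⁻¹ = ⁅b, a⁆ ^ (κ * s) * c) {n : ℕ}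
    (hn : orderOf ⁅b, a⁆ = 2 ^ (n + 1))
    (hu : ∀ w ∈ zpowers ⁅b, a⁆, w * w = 1 → w = 1 ∨ w = ⁅b, a⁆ ^ 2 ^ n)
    (hgood : b * b = 1 → ⁅b, a⁆ ^ 2 ^ n ∉ zpowers c) : ∃ v : G, Core b v c := by
  haveI : Fact (Nat.Prime 2) := ⟨Nat.prime_two⟩
  obtain ⟨hinv, hb4⟩ := B.inverts h2
  set t := ⁅b, a⁆ with ht
  set z := t ^ 2 ^ n with hz
  haveI := B.normal_t
  have hbbt : b * b ∈ zpowers t := (zpowers_le.mpr (mul_mem (mem_zpowers t) (mem_zpowers t))) B.sq
  have hz1 : z ≠ 1 := fun e => by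
    rw [← orderOf_dvd_iff_pow_eq_one, hn, Nat.pow_dvd_pow_iff_le_right (by norm_num)] at e
    omega
  have hzz : z * z = 1 := by rw [hz, ← pow_add, ← two_mul, ← pow_succ', ← hn, pow_orderOf_eq_one]
  -- the element `v`
  obtain ⟨m, hm, hvv, hv1⟩ : ∃ m : ℕ, m ≤ n ∧ t ^ 2 ^ m * t ^ 2 ^ m = b * b ∧ t ^ 2 ^ m ≠ 1 := by
    by_cases hbb : b * b = 1
    · exact ⟨n, le_rfl, by rw [hbb, ← hz, hzz], hz1⟩
    have hbz : b * b = z := (hu _ hbbt hb4).resolve_left hbb
    obtain ⟨n', rfl⟩ : ∃ n', n = n' + 1 := by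
      refine ⟨n - 1, ?_⟩
      by_contra hn0
      obtain rfl : n = 0 := by omega
      have htt : t * t = 1 := by rw [← pow_two, ← orderOf_dvd_iff_pow_eq_one, hn]; norm_num
      have h3 := B.sq
      rw [htt, zpowers_one_eq_bot, mem_bot] at h3
      exact hbb h3
    refine ⟨n', Nat.le_succ _, by rw [hbz, hz, ← pow_add, ← two_mul, ← pow_succ'], fun e => hz1 ?_⟩
    rw [hz, pow_succ, pow_mul, e, one_pow]
  set v := t ^ 2 ^ m with hv
  have hvt : v ∈ zpowers t := pow_mem (mem_zpowers t) _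
  have hv4 : v ^ (4 : ℤ) = 1 := by
    rw [show (4 : ℤ) = 2 + 2 by norm_num, zpow_add, zpow_two, hvv, hb4]
  have hbvb : b * v * b⁻¹ = v⁻¹ := by rw [hv, ← conj_pow, hinv, inv_pow]
  have hzv : z ∈ zpowers v := ⟨((2 ^ (n - m) : ℕ) : ℤ), by
    show v ^ ((2 ^ (n - m) : ℕ) : ℤ) = z
    rw [zpow_natCast, hv, ← pow_mul, ← pow_add, Nat.add_sub_cancel' hm, hz]⟩
  have hcomm_t : ∀ p q : G, p ∈ zpowers t → q ∈ zpowers t → p * q = q * p := by
    rintro p q ⟨i, rfl⟩ ⟨j, rfl⟩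
    exact ((Commute.refl t).zpow_zpow i j).eq
  -- elements of the derived subgroup commuting with `b`
  have hinvt : ∀ w ∈ zpowers t, w * b = b * w → w = 1 ∨ w = z := fun w hw hwb => by
    refine hu w hw ?_
    obtain ⟨i, rfl⟩ := mem_zpowers_iff.mp hw
    have h1 : b * t ^ i * b⁻¹ = t ^ i := by rw [← hwb, mul_inv_cancel_right]
    rw [← conj_zpow, hinv, inv_zpow] at h1
    conv_lhs => arg 1; rw [← h1]
    rw [inv_mul_cancel]
  have hkill : ∀ s : ℤ, t ^ s ∈ zpowers v → t ^ (κ * s) = 1 := by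
    intro s hs
    obtain ⟨i, hi⟩ := mem_zpowers_iff.mp hs
    obtain ⟨k, rfl⟩ := hκ
    rw [show 4 * k * s = s * (4 * k) by ring, zpow_mul, ← hi, ← zpow_mul, ← mul_assoc, mul_comm i 4,
      mul_assoc, zpow_mul, hv4, one_zpow]
  -- parity of the exponent of `b`
  have hodd : ∀ e : ℤ, b ^ e ∈ zpowers t ⊔ zpowers a → Even e := fun e he => by
    by_contra hne
    rw [Int.not_even_iff_odd] at hne
    exact B.bout (mem_of_odd_zpow h2 hne he)
  have hct : c ∈ zpowers t ⊔ zpowers a :=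
    hc ▸ mul_mem (mem_sup_left (zpow_mem (mem_zpowers t) l))
      (mem_sup_right (mul_mem (mem_zpowers a) (mem_zpowers a)))
  have heven : ∀ e : ℤ, Even e → b ^ e ∈ zpowers (b * b) := by
    rintro e ⟨i, rfl⟩
    exact ⟨i, ((Commute.refl b).mul_zpow i).trans (zpow_add b i i).symm⟩
  have hcv : c * v = v * c := by
    obtain ⟨χ, s, e1, -, -⟩ := hconj (c)
    obtain ⟨k, hk⟩ := mem_zpowers_iff.mp (B.conj_t a)
    obtain ⟨r, hr⟩ := B.odd_of_conj h2 hk.symm
    have h1 : a * a * v * (a * a)⁻¹ = v := by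
      rw [show a * a * v * (a * a)⁻¹ = a * (a * v * a⁻¹) * a⁻¹ by group, hv, ← zpow_natCast,
        ← conj_zpow, ← hk, ← zpow_mul, ← conj_zpow, ← hk, ← zpow_mul, hr]
      have : t ^ ((((2 ^ m : ℕ) : ℤ)) * 4) = 1 := by rw [zpow_mul, zpow_natCast, ← hv, hv4]
      rw [show (2 * r + 1) * ((2 * r + 1) * ((2 ^ m : ℕ) : ℤ)) =
        ((2 ^ m : ℕ) : ℤ) * 4 * (r * (r + 1)) + ((2 ^ m : ℕ) : ℤ) by ring, zpow_add, zpow_mul, this,
        one_zpow, one_mul]
    rw [hc, mul_assoc, mul_inv_eq_iff_eq_mul.mp h1, ← mul_assoc, ← mul_assoc,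
      hcomm_t _ v (zpow_mem (mem_zpowers t) l) hvt]
    simp only [mul_assoc]
  set E := closure ({b, v, c} : Set G) with hE
  have hbE : b ∈ E := subset_closure (by simp)
  have hvE : v ∈ E := subset_closure (by simp)
  have hcE : c ∈ E := subset_closure (by simp)
  have hzcen : ∀ g, g * z * g⁻¹ = z := by
    intro g
    refine (hu _ ((inferInstance : (zpowers t).Normal).conj_mem z (pow_mem (mem_zpowers t) _) g) ?_).resolve_left
      fun e => hz1 (conj_eq_one_iff.mp e)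
    rw [show g * z * g⁻¹ * (g * z * g⁻¹) = g * (z * z) * g⁻¹ by group, hzz, mul_one, mul_inv_cancel]
  have hEt : ∀ w ∈ E, w ∈ zpowers t → w ∈ zpowers v := by
    intro w hwE hwt
    obtain ⟨p, e, q, rfl⟩ := forms hbvb hcb hcv w hwE
    have he : Even e := hodd e (by
      have h3 := mul_mem (mul_mem (mem_sup_left (inv_mem (zpow_mem hvt p))) (mem_sup_left hwt))
        (inv_mem (zpow_mem hct q))
      rwa [show (v ^ p)⁻¹ * (v ^ p * b ^ e * c ^ q) * (c ^ q)⁻¹ = b ^ e by group] at h3)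
    have hbe : b ^ e ∈ zpowers v :=
      (zpowers_le.mpr (hvv ▸ mul_mem (mem_zpowers v) (mem_zpowers v))) (heven e he)
    have hcq : c ^ q ∈ zpowers t := by
      have h3 := mul_mem (inv_mem (mul_mem (zpow_mem hvt p) ((zpowers_le.mpr hvt) hbe))) hwt
      rwa [inv_mul_cancel_left] at h3
    refine mul_mem (mul_mem (zpow_mem (mem_zpowers v) p) hbe) ?_
    rcases hinvt _ hcq ((show Commute c b from hcb).zpow_left q).eq with e' | e' <;> rw [e']
    · exact one_mem _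
    · exact hzv
  refine ⟨v, ⟨hvv, hb4, ?_, hbvb, hcb, hcv, hv1, ?_, ?_, ?_, ?_, ?_⟩⟩
  · intro g
    rcases hu _ hbbt hb4 with e | e <;> rw [e]
    · rw [mul_one, one_mul]
    · exact mul_inv_eq_iff_eq_mul.mp (hzcen g)
  · exact fun hm => B.bout (mem_sup_left (zpowers_le.mpr hvt hm))
  · intro q hq
    obtain ⟨p, e, hpe⟩ := forms_two hbvb _ hq
    have he : Even e := hodd e (by
      have h3 := mul_mem (mem_sup_left (inv_mem (zpow_mem hvt p))) (zpow_mem hct q)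
      rwa [hpe, inv_mul_cancel_left] at h3)
    have hcq : c ^ q ∈ zpowers t := hpe ▸ mul_mem (zpow_mem hvt p)
      ((zpowers_le.mpr hbbt) (heven e he))
    rcases hinvt _ hcq ((show Commute c b from hcb).zpow_left q).eq with e' | e'
    · rw [e']; exact one_mem _
    · by_cases hbb : b * b = 1
      · exact absurd ⟨q, e'⟩ (hgood hbb)
      · rw [(hu _ hbbt hb4).resolve_left hbb, e']
        exact mem_zpowers z
  · intro g hg
    obtain ⟨χ, s, e1, e2, e3⟩ := hconj g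
    have hs : t ^ s ∈ zpowers v := hEt _ (by
      have h3 := mul_mem ((mem_normalizer_iff.mp hg b).mp hbE) (inv_mem hbE)
      rwa [e2, mul_inv_cancel_right] at h3) (zpow_mem (mem_zpowers t) s)
    refine ⟨by rw [e3, hkill s hs, one_mul], ?_, ?_⟩
    · rw [hv, ← conj_pow, e1, ← zpow_natCast (t ^ χ), ← zpow_mul, mul_comm, zpow_mul, zpow_natCast]
      exact zpow_mem (mem_zpowers _) χ
    · rw [e2]
      exact mul_mem ((zpowers_le.mpr (subset_closure (by simp))) hs) (subset_closure (by simp))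
  · intro g hg
    obtain ⟨e₀, he₀⟩ : ∃ e₀ : ℤ, a * t * a⁻¹ = t ^ e₀ := by
      obtain ⟨i, hi⟩ := mem_zpowers_iff.mp (B.conj_t a); exact ⟨i, hi.symm⟩
    have hform : ∃ (w : G) (q : ℤ) (r : G), w ∈ zpowers t ∧ (r = 1 ∨ r = b) ∧
        (g = w * r * c ^ q ∨ g = w * r * c ^ q * a) := by
      haveI : (zpowers t ⊔ zpowers b).Normal := by
        rw [← normalizer_eq_top_iff, eq_top_iff]
        intro k _
        refine Subgroup.mem_normalizer_fintype fun p hp => ?_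
        have : zpowers t ⊔ zpowers b ≤ (zpowers t ⊔ zpowers b).comap (MulAut.conj k).toMonoidHom := by
          rw [sup_le_iff, zpowers_le, zpowers_le]
          refine ⟨mem_sup_left (B.conj_t k), ?_⟩
          obtain ⟨χ, s, -, e2, -⟩ := hconj k
          show k * b * k⁻¹ ∈ zpowers t ⊔ zpowers b
          rw [e2]
          exact mul_mem (mem_sup_left (zpow_mem (mem_zpowers t) s)) (mem_sup_right (mem_zpowers b))
        exact this hp
      have htop : g ∈ (((zpowers t ⊔ zpowers b) ⊔ zpowers a : Subgroup G) : Set G) := by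
        refine (show closure ({b, a} : Set G) ≤ _ from (closure_le _).mpr ?_) (B.gen ▸ mem_top g)
        rintro v' (rfl | rfl)
        exacts [mem_sup_left (mem_sup_right (mem_zpowers _)), mem_sup_right (mem_zpowers _)]
      rw [Subgroup.normal_mul] at htop
      obtain ⟨p, hp, u, ⟨i, rfl⟩, rfl⟩ := htop
      rw [Subgroup.normal_mul] at hp
      obtain ⟨w₁, hw₁, p', ⟨j, rfl⟩, rfl⟩ := hp
      obtain ⟨w₂, r, hw₂, hr, hbj⟩ : ∃ w₂ r, w₂ ∈ zpowers t ∧ ((r = 1 ∨ r = b) ∧ b ^ j = w₂ * r) := by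
        rcases Int.even_or_odd j with ⟨p, rfl⟩ | ⟨p, rfl⟩
        · exact ⟨b ^ (p + p), 1, zpowers_le.mpr hbbt (heven _ ⟨p, rfl⟩), Or.inl rfl, (mul_one _).symm⟩
        · exact ⟨b ^ (2 * p), b, zpowers_le.mpr hbbt (heven _ ⟨p, by ring⟩), Or.inr rfl, zpow_add_one b _⟩
      -- powers of `a * a`
      obtain ⟨w₃, hw₃, q, ε, hε, hai⟩ : ∃ w₃ ∈ zpowers t, ∃ (q : ℤ) (ε : G),
          (ε = 1 ∨ ε = a) ∧ a ^ i = w₃ * c ^ q * ε := by
        have hsq : ∀ p : ℤ, ∃ w₃ ∈ zpowers t, (a * a) ^ p = w₃ * c ^ p := by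
          intro p
          refine ⟨(a * a) ^ p * (c ^ p)⁻¹, ?_, (inv_mul_cancel_right _ _).symm⟩
          rw [← QuotientGroup.eq_one_iff, hc]
          simp only [QuotientGroup.mk_mul, QuotientGroup.mk_inv, QuotientGroup.mk_zpow]
          rw [show ((t : G ⧸ zpowers t)) = 1 from (QuotientGroup.eq_one_iff t).mpr (mem_zpowers t), one_zpow,
            one_mul, mul_inv_cancel]
        rcases Int.even_or_odd i with ⟨p, rfl⟩ | ⟨p, rfl⟩
        · obtain ⟨w₃, hw₃, h3⟩ := hsq p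
          exact ⟨w₃, hw₃, p, 1, Or.inl rfl, by rw [zpow_add, ← (Commute.refl a).mul_zpow, h3, mul_one]⟩
        · obtain ⟨w₃, hw₃, h3⟩ := hsq p
          exact ⟨w₃, hw₃, p, a, Or.inr rfl, by
            rw [zpow_add_one, two_mul, zpow_add, ← (Commute.refl a).mul_zpow, h3]⟩
      refine ⟨w₁ * w₂ * (r * w₃ * r⁻¹), q, r, mul_mem (mul_mem hw₁ hw₂)
        ((inferInstance : (zpowers t).Normal).conj_mem w₃ hw₃ r), hr, ?_⟩
      rcases hε with rfl | rfl
      · exact Or.inl (by simp only [hbj, hai]; group)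
      · exact Or.inr (by simp only [hbj, hai]; group)
    obtain ⟨w, q, r, hw, hr, hg'⟩ := hform
    have hrb : Commute r b := by
      rcases hr with rfl | rfl
      · exact Commute.one_left b
      · exact Commute.refl _
    have hcqb : Commute (c ^ q) b := (show Commute c b from hcb).zpow_left q
    rcases hg' with rfl | rfl
    · have hwb : w * b = b * w := by
        have h3 : Commute (r * c ^ q) b := hrb.mul_left hcqb
        have h4 : Commute (w * r * c ^ q) b := hg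
        have := h4.mul_left h3.inv_left
        rwa [show w * r * c ^ q * (r * c ^ q)⁻¹ = w by group] at this
      refine mul_mem (mul_mem ?_ ?_) (zpow_mem hcE q)
      · rcases hinvt w hw hwb with e | e <;> rw [e]
        · exact one_mem _
        · exact zpowers_le.mpr hvE hzv
      · rcases hr with rfl | rfl
        exacts [one_mem _, hbE]
    · exfalso
      -- conjugation by `a` moves `b` by an odd power of the generator
      have hab : a * b * a⁻¹ = t⁻¹ * b := by rw [ht, commutatorElement_def]; group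
      obtain ⟨χ, s, e1, -, -⟩ := hconj (r * c ^ q)
      obtain ⟨f, hf⟩ := mem_zpowers_iff.mp hw
      have hrq : (r * c ^ q) * b * (r * c ^ q)⁻¹ = b := by
        rw [(hrb.mul_left hcqb).eq, mul_inv_cancel_right]
      have h1 : w * r * c ^ q * a * b * (w * r * c ^ q * a)⁻¹ = b := by rw [hg, mul_inv_cancel_right]
      rw [show w * r * c ^ q * a * b * (w * r * c ^ q * a)⁻¹ =
          w * ((r * c ^ q) * (a * b * a⁻¹) * (r * c ^ q)⁻¹) * w⁻¹ by group, hab,
        show (r * c ^ q) * (t⁻¹ * b) * (r * c ^ q)⁻¹ =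
          ((r * c ^ q) * t * (r * c ^ q)⁻¹)⁻¹ * ((r * c ^ q) * b * (r * c ^ q)⁻¹) by group, hrq, e1,
        ← hf] at h1
      have h2' : b * (t ^ f)⁻¹ = t ^ f * b := by
        rw [show b * (t ^ f)⁻¹ = (b * t * b⁻¹) ^ (-f) * b by rw [conj_zpow]; group, hinv, inv_zpow',
          neg_neg]
      rw [show t ^ f * ((t ^ χ)⁻¹ * b) * (t ^ f)⁻¹ = t ^ f * (t ^ χ)⁻¹ * (b * (t ^ f)⁻¹) by group, h2',
        ← mul_assoc, mul_eq_right, ← zpow_neg, ← zpow_add, ← zpow_add] at h1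
      obtain ⟨p, rfl⟩ := B.odd_of_conj h2 e1
      exact B.t1 (mem_bot.mp (mem_of_odd_zpow h2 (K := ⊥) ⟨f - p - 1, by ring⟩ (mem_bot.mpr h1)))
  · obtain ⟨g, hg⟩ : ∃ g : G, ∃ s : ℤ, g * b * g⁻¹ = t ^ s * b ∧
        (t ^ s = v ∨ t ^ s = v⁻¹) := by
      rcases m with _ | m'
      · refine ⟨a, -1, by rw [ht, commutatorElement_def]; group, Or.inr ?_⟩
        rw [hv, pow_zero, pow_one, zpow_neg_one]
      · refine ⟨t ^ 2 ^ m', ((2 ^ (m' + 1) : ℕ) : ℤ), ?_, Or.inl (by rw [zpow_natCast, ← hv])⟩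
        have h1 : b * (t ^ 2 ^ m')⁻¹ = t ^ 2 ^ m' * b := by
          rw [show b * (t ^ 2 ^ m')⁻¹ = (b * t * b⁻¹)⁻¹ ^ 2 ^ m' * b by rw [inv_pow, conj_pow]; group,
            hinv, inv_inv]
        rw [mul_assoc, h1, ← mul_assoc, ← pow_add, zpow_natCast, pow_succ, mul_two]
    obtain ⟨s, e2, hsv⟩ := hg
    refine ⟨g, ?_, by rcases hsv with e | e <;> simp [e2, e]⟩
    obtain ⟨χ, s', e1, e2', e3⟩ := hconj g
    have hsv' : t ^ s' ∈ zpowers v := by
      rw [mul_right_cancel (e2'.symm.trans e2)]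
      rcases hsv with e | e <;> rw [e]
      exacts [mem_zpowers v, inv_mem (mem_zpowers v)]
    have : E ≤ E.comap (MulAut.conj g).toMonoidHom := (closure_le _).mpr (by
      rintro w (rfl | rfl | rfl)
      · show g * w * g⁻¹ ∈ E
        rw [e2']
        exact mul_mem ((zpowers_le.mpr hvE) hsv') hbE
      · show g * (t ^ 2 ^ m) * g⁻¹ ∈ E
        rw [← conj_pow, e1, ← zpow_natCast (t ^ χ), ← zpow_mul, mul_comm, zpow_mul, zpow_natCast]
        exact zpow_mem hvE χ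
      · show g * w * g⁻¹ ∈ E
        rw [e3, hkill s' hsv', one_mul]
        exact hcE)
    exact Subgroup.mem_normalizer_fintype fun w hw => this hw

end Base

/-- The subgroup with an automorphism of order three exists when the derived subgroup is cyclic. -/
theorem BC.exists_core {x y : G} (h : BC G x y) (hc : IsCyclic (commutator G)) :
    ∃ b v c : G, Core b v c := by
  obtain ⟨b, a, B⟩ := h.exists_base hc
  obtain ⟨n, hn, hu⟩ := B.exists_invol h.two
  obtain ⟨l, κ, hκ, hcb, hconj⟩ := B.exists_c h.two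
  by_cases hgood : b * b = 1 ∧ ⁅b, a⁆ ^ 2 ^ n ∈ zpowers (⁅b, a⁆ ^ l * (a * a))
  · obtain ⟨χ, s, -, e2, e3⟩ := hconj a
    have hab : a * b * a⁻¹ = ⁅b, a⁆⁻¹ * b := by rw [commutatorElement_def]; group
    have hs : ⁅b, a⁆ ^ s = ⁅b, a⁆⁻¹ := mul_right_cancel (e2.symm.trans hab)
    have hca : a * (⁅b, a⁆ ^ l * (a * a)) * a⁻¹ = ⁅b, a⁆ ^ (-κ) * (⁅b, a⁆ ^ l * (a * a)) := by
      rw [e3, mul_comm κ s, zpow_mul, hs, inv_zpow']
    obtain ⟨b', B', hb'⟩ := B.improve h.two hκ rfl hcb hca hgood.1 hn hgood.2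
    obtain ⟨n', hn', hu'⟩ := B'.exists_invol h.two
    obtain ⟨l', κ', hκ', hcb', hconj'⟩ := B'.exists_c h.two
    obtain ⟨v, hv⟩ := B'.core h.two hκ' rfl hcb' hconj' hn' hu' fun e => absurd e hb'
    exact ⟨b', v, _, hv⟩
  · obtain ⟨v, hv⟩ := B.core h.two hκ rfl hcb hconj hn hu fun e hz => hgood ⟨e, hz⟩
    exact ⟨b, v, _, hv⟩

end Cfsg.Lib.Bicyclic
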