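import Cfsg.Agent.Lib.FusionSys.Bicyclic.Centralize
import Cfsg.Agent.Lib.FusionSys.StronglyEmb

/-!
# The commutator subgroup of the automorphism cannot be homocyclic of exponent at least four
-/

set_option autoImplicit false
set_option linter.style.haveILetI false

namespace Cfsg.Lib.Bicyclic

open Subgroup
open scoped commutatorElement

universe u

variable {G : Type u} [Group G]

theorem pow_two_descend [Finite G] (h2 : IsPGroup 2 G) {g : G} {P : G → Prop} (h1 : P 1)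
    (hg : ¬ P g) : ∃ k : ℕ, ¬ P (g ^ 2 ^ k) ∧ P (g ^ 2 ^ k * g ^ 2 ^ k) := by
  classical
  obtain ⟨e, he⟩ := h2 g
  have hex : ∃ k, P (g ^ 2 ^ k) := ⟨e, he.symm ▸ h1⟩
  have hne : Nat.find hex ≠ 0 := fun h0 => by
    have := Nat.find_spec hex
    rw [h0, pow_zero, pow_one] at this
    exact hg this
  obtain ⟨k, hk⟩ := Nat.exists_eq_succ_of_ne_zero hne
  refine ⟨k, Nat.find_min hex (by omega), ?_⟩
  have := Nat.find_spec hex
  rwa [hk, pow_succ, pow_mul, pow_two] at this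

theorem BC.par_mul_xy [Finite G] {x y : G} (h : BC G x y) {p q : G}
    (hp : h.par p = Multiplicative.ofAdd (1, 1)) (hq : h.par q = Multiplicative.ofAdd (1, 1)) :
    h.par (p * q) ≠ Multiplicative.ofAdd (1, 1) := by
  rw [map_mul, hp, hq]
  exact (by decide : Multiplicative.ofAdd ((1, 1) : ZMod 2 × ZMod 2) *
    Multiplicative.ofAdd ((1, 1) : ZMod 2 × ZMod 2) ≠ Multiplicative.ofAdd ((1, 1) : ZMod 2 × ZMod 2))

namespace Fr

variable {E : Subgroup G} {a : G → G} {σ : G} (F : Fr E a σ) [Finite G] {x y : G} (h : BC G x y)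
include F h

theorem homo_false (hnc : ¬ IsCyclic (commutator G))
    (hab : ∀ p ∈ comU E a, ∀ q ∈ comU E a, p * q = q * p)
    (hno : ∀ v ∈ comU E a, v ∉ sqSub (comU E a) → v * v ≠ 1) : False := by
  set U := comU E a with hU
  have hbotc : ∀ v ∈ U, ∀ w ∈ U, ⁅v, w⁆ ∈ (⊥ : Subgroup G) := fun v hv w hw => by
    rw [mem_bot, commutatorElement_eq_one_iff_mul_comm]; exact hab v hv w hw
  have hbota : ∀ v ∈ (⊥ : Subgroup G), a v ∈ (⊥ : Subgroup G) := fun v hv => by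
    rw [mem_bot.mp hv, F.one]; exact one_mem _
  have hnofix : ∀ v ∈ U, a v = v → v = 1 := fun v hv e => mem_bot.mp
    (F.fixed_mem h.two (N := ⊥) bot_le hbotc hbota hv (by rw [e, inv_mul_cancel]; exact one_mem _))
  have hnorm : ∀ v ∈ U, v * a v * a (a v) = 1 := fun v hv => mem_bot.mp
    (F.norm_mem h.two (N := ⊥) bot_le hbotc hbota hv)
  have hinvΦ : ∀ r ∈ U, r * r = 1 → r ∈ frattini G := fun r hr hr2 => by
    by_contra hcon
    exact hno r hr (fun hP => hcon (sqSub_le_frattini h.two U hP)) hr2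
  have hmΦ : Cfsg.IsMetacyclic (frattini G) := h.frattini_metacyclic
  -- the four group of involutions
  have hfour : ∀ p ∈ U, ∀ q ∈ U, ∀ r ∈ U, p * p = 1 → q * q = 1 → r * r = 1 → p ≠ 1 → q ≠ 1 → q ≠ p →
      r = 1 ∨ r = p ∨ r = q ∨ r = p * q := by
    intro p hp q hq r hr p2 q2 r2 p1 q1 qp
    by_contra hcon
    push Not at hcon
    obtain ⟨r1, rp, rq, rpq⟩ := hcon
    exact no_three hmΦ (a := ⟨p, hinvΦ p hp p2⟩) (b := ⟨q, hinvΦ q hq q2⟩) (c := ⟨r, hinvΦ r hr r2⟩)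
      (Subtype.ext p2) (Subtype.ext q2) (Subtype.ext r2) (Subtype.ext (hab p hp q hq))
      (Subtype.ext (hab p hp r hr)) (Subtype.ext (hab q hq r hr))
      (fun e => p1 (congrArg Subtype.val e)) (fun e => q1 (congrArg Subtype.val e))
      (fun e => qp (congrArg Subtype.val e)) (fun e => r1 (congrArg Subtype.val e))
      (fun e => rp (congrArg Subtype.val e)) (fun e => rq (congrArg Subtype.val e))
      (fun e => rpq (congrArg Subtype.val e))
  obtain ⟨v, hvU, hvP⟩ := F.exists_out h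
  have hv1 : v * v ≠ 1 := hno v hvU hvP
  obtain ⟨k, hk1, hk2⟩ := pow_two_descend h.two (P := fun t => t * t = 1) (g := v) (mul_one 1) hv1
  set y₀ := v ^ 2 ^ k with hy₀
  have hy₀U : y₀ ∈ U := pow_mem hvU _
  set w₀ := y₀ * y₀ with hw₀
  have hw₀U : w₀ ∈ U := mul_mem hy₀U hy₀U
  have hw₀1 : w₀ ≠ 1 := hk1
  have hw₀2 : w₀ * w₀ = 1 := hk2
  have hw₀E := F.comU_le hw₀U
  have haw₀2 : a w₀ * a w₀ = 1 := by rw [← F.mul _ hw₀E _ hw₀E, hw₀2, F.one]
  have haw₀1 : a w₀ ≠ 1 := fun e => hw₀1 (F.inj hw₀E E.one_mem (e.trans F.one.symm))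
  have haw₀ne : a w₀ ≠ w₀ := fun e => hw₀1 (hnofix w₀ hw₀U e)
  -- fixed elements commute with these involutions
  have hcw : ∀ c ∈ F.fixC, ∀ w ∈ U, w * w = 1 → c * w = w * c := by
    intro c hc w hw hw2
    by_cases hw1 : w = 1
    · rw [hw1, mul_one, one_mul]
    have hwE := F.comU_le hw
    have haw : a w * a w = 1 := by rw [← F.mul _ hwE _ hwE, hw2, F.one]
    have hnc' : ∀ d ∈ F.fixC, ∀ k ∈ (⊥ : Subgroup G), d * k * d⁻¹ ∈ (⊥ : Subgroup G) := fun d _ k hk => by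
      rw [mem_bot.mp hk, mul_one, mul_inv_cancel]; exact one_mem _
    rcases hfour w hw (a w) (F.comU_map hw) (c * w * c⁻¹) (F.comU_conj hw hc.1) hw2 haw
      (by rw [show c * w * c⁻¹ * (c * w * c⁻¹) = c * (w * w) * c⁻¹ by group, hw2, mul_one, mul_inv_cancel])
      hw1 (fun e => hw1 (F.inj hwE E.one_mem (e.trans F.one.symm)))
      (fun e => hw1 (hnofix w hw e)) with e | e | e | e
    · exact absurd (conj_eq_one_iff.mp e) hw1
    · exact mul_inv_eq_iff_eq_mul.mp e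
    · exact absurd (mem_bot.mpr (by rw [e, inv_mul_cancel]))
        (F.fix_class h.two bot_le hbotc hbota hnc' hc hw fun e' => hw1 (mem_bot.mp e'))
    · refine absurd (mem_bot.mpr ?_)
        (F.fix_class' h.two bot_le hbotc hbota hnc' hc hw fun e' => hw1 (mem_bot.mp e'))
      have := hnorm w hw
      rw [e, ← this, inv_eq_of_mul_eq_one_left (show a (a w) * a (a w) = 1 by
        rw [← F.mul _ (F.mem _ hwE) _ (F.mem _ hwE), haw, F.one])]
      exact hab _ (F.comU_map (F.comU_map hw)) _ (mul_mem hw (F.comU_map hw))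
  -- no third commuting involution next to the four group
  have hE8 : ∀ K : Subgroup G, Cfsg.IsMetacyclic K → frattini G ≤ K → ∀ c ∈ F.fixC, c ∈ K →
      c * c = 1 → c = 1 := by
    intro K hK hΦK c hc hcK hc2
    by_contra hc1
    have hwK : w₀ ∈ K := hΦK (hinvΦ w₀ hw₀U hw₀2)
    have hawK : a w₀ ∈ K := hΦK (hinvΦ _ (F.comU_map hw₀U) haw₀2)
    have hout : c ∉ U := fun hm => hc1 (hnofix c hm hc.2)
    exact no_three hK (a := ⟨w₀, hwK⟩) (b := ⟨a w₀, hawK⟩) (c := ⟨c, hcK⟩)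
      (Subtype.ext hw₀2) (Subtype.ext haw₀2) (Subtype.ext hc2)
      (Subtype.ext (hab _ hw₀U _ (F.comU_map hw₀U))) (Subtype.ext (hcw c hc w₀ hw₀U hw₀2).symm)
      (Subtype.ext (hcw c hc _ (F.comU_map hw₀U) haw₀2).symm)
      (fun e => hw₀1 (congrArg Subtype.val e)) (fun e => haw₀1 (congrArg Subtype.val e))
      (fun e => haw₀ne (congrArg Subtype.val e)) (fun e => hc1 (congrArg Subtype.val e))
      (fun e => hout (by rw [show c = w₀ from congrArg Subtype.val e]; exact hw₀U))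
      (fun e => hout (by rw [show c = a w₀ from congrArg Subtype.val e]; exact F.comU_map hw₀U))
      (fun e => hout (by
        rw [show c = w₀ * a w₀ from congrArg Subtype.val e]; exact mul_mem hw₀U (F.comU_map hw₀U)))
  obtain ⟨c, hc, hcyc⟩ := F.exists_cyc h
  have hc2 : c * c = 1 := by
    by_contra hne
    obtain ⟨m, hm1, hm2⟩ := pow_two_descend h.two (P := fun t => t = 1) (g := c * c) rfl hne
    exact hm1 (hE8 _ hmΦ le_rfl _ (pow_mem (mul_mem hc hc) _)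
      (pow_mem (BC.sq_mem_frattini h.two c) _) hm2)
  have hform : ∀ g ∈ E, ∃ u ∈ U, g = u ∨ g = u * c := by
    intro g hg
    obtain ⟨u, hu, i, rfl⟩ := hcyc g hg
    rcases Int.even_or_odd i with ⟨j, rfl⟩ | ⟨j, rfl⟩
    · exact ⟨u, hu, Or.inl (by rw [← two_mul, zpow_mul, zpow_two, hc2, one_zpow, mul_one])⟩
    · exact ⟨u, hu, Or.inr (by rw [zpow_add, zpow_mul, zpow_two, hc2, one_zpow, one_mul, zpow_one])⟩
  by_cases hc1 : c = 1
  · -- `E` is abelian
    have hEU : E ≤ U := fun g hg => by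
      obtain ⟨u, hu, e | e⟩ := hform g hg
      · exact e.symm ▸ hu
      · rw [hc1, mul_one] at e; exact e.symm ▸ hu
    have habE : ∀ p ∈ E, ∀ q ∈ E, p * q = q * p := fun p hp q hq => hab p (hEU hp) q (hEU hq)
    refine F.derived_false h hnc hEU habE (fun g => ?_)
      (fun p hp q hq r hr => hfour p (hEU hp) q (hEU hq) r (hEU hr))
    by_contra hgN
    set M := normalizer (E : Set G) with hM
    have hsqM : ∀ m ∈ M, m * m ∈ E := by
      intro m hm
      rcases F.cover m hm with hmE | hmE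
      · exact E.mul_mem hmE hmE
      · rw [show m * m = σ * (σ⁻¹ * m) * σ⁻¹ * (σ * σ) * (σ⁻¹ * m) by group]
        exact E.mul_mem (E.mul_mem (F.conj_mem hmE) F.sq_mem) hmE
    haveI : Fact (Nat.Prime 2) := ⟨Nat.prime_two⟩
    have hlt : M < ⊤ := lt_top_iff_ne_top.mpr fun e => hgN (e ▸ mem_top g)
    have h3 := Cfsg.Lib.FusionSys.lt_inf_normalizer_self (p := 2) (R := (⊤ : Subgroup G))
      (h.two.to_subgroup _) hlt
    obtain ⟨n, hn, hnM⟩ := SetLike.exists_of_lt h3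
    have hnN := (mem_normalizer_iff.mp hn.2)
    obtain ⟨e₁, he₁, hout⟩ : ∃ e ∈ E, n * e * n⁻¹ ∉ E := by
      by_contra hcon
      push Not at hcon
      exact hnM (Subgroup.mem_normalizer_fintype fun e he => hcon e he)
    have htM : n * e₁ * n⁻¹ ∈ M := (hnN e₁).mp (le_normalizer he₁)
    have hσe := (F.cover _ htM).resolve_left hout
    -- `σ` centralizes the squares of `E`
    have hσsq : ∀ e ∈ E, σ * (e * e) * σ⁻¹ = e * e := by
      intro e he
      have hm : n⁻¹ * e * n ∈ M := by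
        rw [hnN, show n * (n⁻¹ * e * n) * n⁻¹ = e by group]
        exact le_normalizer he
      have hsq := hsqM _ hm
      have hcomm := habE e₁ he₁ _ hsq
      have e1 : n * e₁ * n⁻¹ * (e * e) = e * e * (n * e₁ * n⁻¹) := by
        calc _ = n * (e₁ * (n⁻¹ * e * n * (n⁻¹ * e * n))) * n⁻¹ := by group
          _ = n * (n⁻¹ * e * n * (n⁻¹ * e * n) * e₁) * n⁻¹ := by rw [hcomm]
          _ = _ := by group
      set t := n * e₁ * n⁻¹
      have e2 : σ⁻¹ * t * (e * e) = e * e * (σ⁻¹ * t) := habE _ hσe _ (E.mul_mem he he)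
      calc σ * (e * e) * σ⁻¹ = σ * (e * e * (σ⁻¹ * t)) * t⁻¹ := by group
        _ = t * (e * e) * t⁻¹ := by rw [← e2]; group
        _ = _ := by rw [e1, mul_inv_cancel_right]
    have hvE := F.comU_le hvU
    have h4 : σ * a (v * v) * σ⁻¹ = a (v * v) := by
      rw [F.mul _ hvE _ hvE]; exact hσsq _ (F.mem _ hvE)
    rw [F.inv _ (E.mul_mem hvE hvE), hσsq v hvE] at h4
    have h5 := F.inj (F.mem _ (E.mul_mem hvE hvE)) (E.mul_mem hvE hvE) h4
    exact hv1 (hnofix _ (mul_mem hvU hvU) h5)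
  -- `E` is `U` extended by an involution `c`
  have hcU : c ∉ U := fun hm => hc1 (hnofix c hm hc.2)
  have hparc : h.par c = Multiplicative.ofAdd (1, 1) := by
    by_contra hp
    obtain ⟨K, hK, hcK, hΦK⟩ := h.exists_metacyclic_of_par hp
    exact hc1 (hE8 K hK hΦK c hc hcK hc2)
  have hσc : σ * c * σ⁻¹ = c := by
    have hm := F.fixC_sigma hc
    obtain ⟨u, hu, e | e⟩ := hform _ hm.1
    · exfalso
      have h1 : σ * c * σ⁻¹ = 1 := hnofix _ (e.symm ▸ hu) hm.2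
      exact hc1 (conj_eq_one_iff.mp h1)
    · have huC : u ∈ F.fixC := by
        have := mul_mem hm (inv_mem hc)
        rwa [e, mul_inv_cancel_right] at this
      rw [e, hnofix u hu huC.2, one_mul]
  obtain ⟨u₀, hu₀, hs⟩ := hform _ F.sq_mem
  have hu₀E := F.comU_le hu₀
  obtain ⟨d, hd, hsd, hd2⟩ : ∃ d, (d = 1 ∨ d = c) ∧ σ * σ = u₀ * d ∧ d ∈ F.fixC := by
    rcases hs with e | e
    · exact ⟨1, Or.inl rfl, by rw [mul_one]; exact e, one_mem _⟩
    · exact ⟨c, Or.inr rfl, e, hc⟩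
  -- `u₀` commutes with `c`
  have hsc : σ * σ * c * (σ * σ)⁻¹ = c := by
    calc _ = σ * (σ * c * σ⁻¹) * σ⁻¹ := by group
      _ = c := by rw [hσc, hσc]
  have hu₀c : c * u₀ = u₀ * c := by
    have hdc : d * c * d⁻¹ = c := by rcases hd with rfl | rfl <;> group
    rw [hsd, show u₀ * d * c * (u₀ * d)⁻¹ = u₀ * (d * c * d⁻¹) * u₀⁻¹ by group, hdc] at hsc
    exact (mul_inv_eq_iff_eq_mul.mp hsc).symm
  have hσu₀ : σ * u₀ * σ⁻¹ = u₀ := by
    have hσd : σ * d * σ⁻¹ = d := by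
      rcases hd with rfl | rfl
      · group
      · exact hσc
    calc σ * u₀ * σ⁻¹ = σ * (σ * σ) * σ⁻¹ * (σ * d * σ⁻¹)⁻¹ := by rw [hsd]; group
      _ = σ * σ * d⁻¹ := by rw [hσd]; group
      _ = u₀ := by rw [hsd, mul_inv_cancel_right]
  set y₁ := a u₀ with hy₁
  have hy₁U : y₁ ∈ U := F.comU_map hu₀
  have hy₁c : c * y₁ = y₁ * c := by
    have := F.map_conj hc hu₀E
    rw [hu₀c, mul_inv_cancel_right] at this
    exact mul_inv_eq_iff_eq_mul.mp this.symm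
  have hy₁cen : ∀ g ∈ E, y₁ * g = g * y₁ := by
    intro g hg
    obtain ⟨u, hu, rfl | rfl⟩ := hform g hg
    · exact hab _ hy₁U _ hu
    · rw [← mul_assoc, hab _ hy₁U _ hu, mul_assoc, ← hy₁c, mul_assoc]
  have hσy₁ : σ * y₁ * σ⁻¹ = a (a u₀) := by rw [hy₁, F.inv _ hu₀E, hσu₀]
  set σ₁ := σ * y₁ with hσ₁
  have hσ₁sq : σ₁ * σ₁ = 1 := by
    have e : σ₁ * σ₁ = d := by
      calc σ₁ * σ₁ = (σ * y₁ * σ⁻¹) * (σ * σ) * y₁ := by rw [hσ₁]; group
        _ = a (a u₀) * u₀ * (d * y₁) := by rw [hσy₁, hsd]; simp only [mul_assoc]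
        _ = a (a u₀) * u₀ * y₁ * d := by
          have hdy : d * y₁ = y₁ * d := by
            rcases hd with rfl | rfl
            · rw [one_mul, mul_one]
            · exact hy₁c
          rw [hdy]; simp only [mul_assoc]
        _ = u₀ * y₁ * a (a u₀) * d := by
          rw [mul_assoc (a (a u₀)), hab _ (F.comU_map hy₁U) _ (mul_mem hu₀ hy₁U)]
        _ = d := by rw [hnorm u₀ hu₀, one_mul]
    rcases hd with rfl | rfl
    · exact e
    · have h0 := h.par_sq σ₁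
      rw [e, hparc] at h0
      exact absurd h0 (by
        intro e'
        have := congrArg (fun v => (Multiplicative.toAdd v).1) e'
        simp only [toAdd_ofAdd, toAdd_one, Prod.fst_zero] at this
        exact absurd this (by decide))
  have hσ₁c : σ₁ * c = c * σ₁ := by
    calc σ₁ * c = σ * (y₁ * c) := mul_assoc _ _ _
      _ = (σ * c * σ⁻¹) * (σ * y₁) := by rw [← hy₁c]; group
      _ = c * σ₁ := by rw [hσc]
  obtain ⟨σ', hσ'par, hσ'sq, hσ'inv, hσ'E, hnormU⟩ : ∃ σ', h.par σ' ≠ Multiplicative.ofAdd (1, 1) ∧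
      σ' * σ' = 1 ∧ (∀ w ∈ U, w * w = 1 → σ' * a w * σ'⁻¹ = a (a (σ' * w * σ'⁻¹))) ∧ σ' ∉ E ∧
      ∀ u ∈ U, σ' * u * σ'⁻¹ ∈ U := by
    have hinv₁ : ∀ g ∈ E, σ₁ * a g * σ₁⁻¹ = a (a (σ₁ * g * σ₁⁻¹)) := by
      intro g hg
      have e : ∀ g ∈ E, σ₁ * g * σ₁⁻¹ = σ * g * σ⁻¹ := fun g hg => by
        rw [hσ₁, show σ * y₁ * g * (σ * y₁)⁻¹ = σ * (y₁ * g * y₁⁻¹) * σ⁻¹ by group, hy₁cen g hg,
          mul_inv_cancel_right]
      rw [e _ (F.mem g hg), e g hg, F.inv g hg]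
    have hout : σ₁ ∉ E := fun hm => F.out (by
      have := E.mul_mem hm (E.inv_mem (F.comU_le hy₁U))
      rwa [hσ₁, mul_inv_cancel_right] at this)
    have hσ₁U : ∀ u ∈ U, σ₁ * u * σ₁⁻¹ ∈ U := fun u hu => by
      rw [hσ₁, show σ * y₁ * u * (σ * y₁)⁻¹ = σ * (y₁ * u * y₁⁻¹) * σ⁻¹ by group]
      exact F.comU_sigma (mul_mem (mul_mem hy₁U hu) (inv_mem hy₁U))
    by_cases hp : h.par σ₁ = Multiplicative.ofAdd (1, 1)
    · refine ⟨σ₁ * c, h.par_mul_xy hp hparc, ?_, fun w hw hw2 => ?_,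
        fun hm => hout (by simpa using E.mul_mem hm (E.inv_mem hc.1)), fun u hu => ?_⟩
      · rw [show σ₁ * c * (σ₁ * c) = σ₁ * (c * σ₁) * c by group, ← hσ₁c,
          ← mul_assoc, hσ₁sq, one_mul, hc2]
      · have hwE := F.comU_le hw
        have e : ∀ w ∈ U, w * w = 1 → σ₁ * c * w * (σ₁ * c)⁻¹ = σ₁ * w * σ₁⁻¹ := fun w hw hw2 => by
          rw [show σ₁ * c * w * (σ₁ * c)⁻¹ = σ₁ * (c * w * c⁻¹) * σ₁⁻¹ by group, hcw c hc w hw hw2,
            mul_inv_cancel_right]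
        rw [e w hw hw2, e _ (F.comU_map hw) (by rw [← F.mul _ hwE _ hwE, hw2, F.one]),
          hinv₁ w hwE]
      · rw [show σ₁ * c * u * (σ₁ * c)⁻¹ = σ₁ * (c * u * c⁻¹) * σ₁⁻¹ by group]
        exact hσ₁U _ (F.comU_conj hu hc.1)
    · exact ⟨σ₁, hp, hσ₁sq, fun w hw _ => hinv₁ w (F.comU_le hw), hout, hσ₁U⟩
  obtain ⟨K, hK, hσK, hΦK⟩ := h.exists_metacyclic_of_par hσ'par
  have hσi : σ'⁻¹ = σ' := inv_eq_of_mul_eq_one_left hσ'sq
  -- an involution moved by `σ'`, with a square root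
  obtain ⟨w, hwU, hw2, hw1, hmove, r, hrU, hr⟩ : ∃ w ∈ U, w * w = 1 ∧ w ≠ 1 ∧ σ' * w * σ'⁻¹ ≠ w ∧
      ∃ r ∈ U, r * r = w := by
    by_cases hm : σ' * w₀ * σ'⁻¹ = w₀
    · refine ⟨a w₀, F.comU_map hw₀U, haw₀2, haw₀1, fun e => ?_, a y₀, F.comU_map hy₀U,
        (F.mul _ (F.comU_le hy₀U) _ (F.comU_le hy₀U)).symm⟩
      rw [hσ'inv w₀ hw₀U hw₀2, hm] at e
      exact haw₀ne (F.inj (F.mem _ hw₀E) hw₀E e)
    · exact ⟨w₀, hw₀U, hw₀2, hw₀1, hm, y₀, hy₀U, rfl⟩
  set r' := σ' * r * σ'⁻¹ with hr'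
  set p := r * r' with hp
  set w' := σ' * w * σ'⁻¹ with hw'
  have hr'sq : r' * r' = w' := by
    rw [hr', show σ' * r * σ'⁻¹ * (σ' * r * σ'⁻¹) = σ' * (r * r) * σ'⁻¹ by group, hr]
  have hw'U := hnormU w hwU
  have hr'U := hnormU r hrU
  have hσw' : σ' * w' * σ'⁻¹ = w := by
    calc σ' * w' * σ'⁻¹ = (σ' * σ') * w * (σ' * σ')⁻¹ := by rw [hw']; group
      _ = w := by rw [hσ'sq, inv_one, one_mul, mul_one]
  have hσr' : σ' * r' * σ'⁻¹ = r := by
    calc σ' * r' * σ'⁻¹ = (σ' * σ') * r * (σ' * σ')⁻¹ := by rw [hr']; group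
      _ = r := by rw [hσ'sq, inv_one, one_mul, mul_one]
  set z₀ := w * w' with hz₀
  have hp2 : p * p = z₀ := by
    rw [hp, show r * r' * (r * r') = r * (r' * r) * r' by group, hab _ hr'U _ hrU,
      show r * (r * r') * r' = (r * r) * (r' * r') by group, hr, hr'sq]
  have hw'2 : w' * w' = 1 := by
    rw [hw', show σ' * w * σ'⁻¹ * (σ' * w * σ'⁻¹) = σ' * (w * w) * σ'⁻¹ by group, hw2, mul_one,
      mul_inv_cancel]
  have hz₀2 : z₀ * z₀ = 1 := by
    rw [hz₀, show w * w' * (w * w') = w * (w' * w) * w' by group, hab _ hw'U _ hwU,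
      show w * (w * w') * w' = (w * w) * (w' * w') by group, hw2, hw'2, one_mul]
  have hz₀U : z₀ ∈ U := mul_mem hwU hw'U
  have hpU : p ∈ U := mul_mem hrU hr'U
  have hwΦ : w ∈ frattini G := hinvΦ w hwU hw2
  have hpΦ : p ∈ frattini G := by
    rw [hp, hr', show r * (σ' * r * σ'⁻¹) = (r * r) * ⁅r⁻¹, σ'⁆ by rw [commutatorElement_def]; group]
    exact mul_mem (BC.sq_mem_frattini h.two r) (BC.comm_mem_frattini h.two _ _)
  have hzc : σ' * z₀ * σ'⁻¹ = z₀ := by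
    calc σ' * z₀ * σ'⁻¹ = (σ' * w * σ'⁻¹) * (σ' * w' * σ'⁻¹) := by rw [hz₀]; group
      _ = z₀ := by rw [hσw', ← hw', hz₀, hab _ hw'U _ hwU]
  have hpc : σ' * p * σ'⁻¹ = p := by
    calc σ' * p * σ'⁻¹ = (σ' * r * σ'⁻¹) * (σ' * r' * σ'⁻¹) := by rw [hp]; group
      _ = p := by rw [hσr', ← hr', hp, hab _ hr'U _ hrU]
  have hz₀1 : z₀ ≠ 1 := fun e => hmove (by
    rw [eq_inv_of_mul_eq_one_right (e : w * w' = 1), inv_eq_of_mul_eq_one_left hw2])
  set Z : K := ⟨z₀, hΦK (hinvΦ z₀ hz₀U hz₀2)⟩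
  set A : K := ⟨w, hΦK hwΦ⟩
  set B : K := ⟨σ', hσK⟩
  set C : K := ⟨p, hΦK hpΦ⟩
  have hσnotU : ∀ u ∈ U, σ' ≠ u := fun u hu e => hσ'E (e ▸ F.comU_le hu)
  have hmem' : ∀ k : K, k ∈ zpowers Z → (k : G) = 1 ∨ (k : G) = z₀ := fun k hm => by
    rcases (mem_zpowers_invol (Subtype.ext hz₀2)).mp hm with e | e
    · exact Or.inl (by rw [e]; rfl)
    · exact Or.inr (by rw [e])
  have hmemU : ∀ k : K, k ∈ zpowers Z → (k : G) ∈ U := fun k hm => by
    rcases hmem' k hm with e | e <;> rw [e]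
    exacts [one_mem U, hz₀U]
  have hpz : p ∉ ({1, z₀} : Set G) := by
    rintro (e | e)
    · rw [e, one_mul] at hp2; exact hz₀1 hp2.symm
    · rw [e, hz₀2] at hp2; exact hz₀1 hp2.symm
  have hcσ : ∀ g : G, σ' * g * σ'⁻¹ = g → σ' * g = g * σ' := fun g e => mul_inv_eq_iff_eq_mul.mp e
  refine no_section hK (z := Z) (a := A) (b := B) (c := C) (Subtype.ext (hab _ hz₀U _ hwU))
    (Subtype.ext (hcσ _ hzc).symm) (Subtype.ext (hab _ hz₀U _ hpU)) ?_ ?_ ?_ ?_ ?_ ?_ ?_ ?_ ?_ ?_ ?_ ?_ ?_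
  · rw [show A * A = 1 from Subtype.ext hw2]; exact one_mem _
  · rw [show B * B = 1 from Subtype.ext hσ'sq]; exact one_mem _
  · rw [show C * C = Z from Subtype.ext hp2]; exact mem_zpowers _
  · rw [show ⁅A, B⁆ = Z from Subtype.ext (by
      show ⁅w, σ'⁆ = z₀
      rw [commutatorElement_def, hz₀, hw', hσi, inv_eq_of_mul_eq_one_left hw2]; simp only [mul_assoc])]
    exact mem_zpowers _
  · rw [commutatorElement_eq_one_iff_mul_comm.mpr (Subtype.ext (hab _ hwU _ hpU) : A * C = C * A)]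
    exact one_mem _
  · rw [commutatorElement_eq_one_iff_mul_comm.mpr (Subtype.ext (hcσ _ hpc) : B * C = C * B)]
    exact one_mem _
  · intro hm
    rcases hmem' A hm with e | e
    · exact hw1 e
    · have h1 : w' = 1 := mul_eq_left.mp (e : w = w * w').symm
      have h2 := hσw'
      rw [h1, mul_one, mul_inv_cancel] at h2
      exact hw1 h2.symm
  · intro hm; exact hσnotU _ (hmemU B hm) rfl
  · intro hm
    refine hσnotU _ (mul_mem hwU (hmemU _ hm)) ?_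
    simp [A, B]
  · intro hm; exact hpz (hmem' C hm)
  · intro hm
    have h1 : p = w * ((A⁻¹ * C : K) : G) := by simp [A, C]
    rcases hmem' _ hm with e | e <;> rw [e] at h1
    · rw [mul_one] at h1
      rw [h1, hw2] at hp2
      exact hz₀1 hp2.symm
    · rw [hz₀, ← mul_assoc, hw2, one_mul] at h1
      rw [h1, hw'2] at hp2
      exact hz₀1 hp2.symm
  · intro hm
    refine hσnotU _ (mul_mem hpU (inv_mem (hmemU _ hm))) ?_
    simp [B, C]
  · intro hm
    refine hσnotU _ (mul_mem (mul_mem (inv_mem hwU) hpU) (inv_mem (hmemU _ hm))) ?_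
    simp [A, B, C, mul_assoc]

end Fr

end Cfsg.Lib.Bicyclic
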