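import Cfsg.Agent.Lib.FusionSys.Bicyclic.Structure
import Cfsg.Agent.Lib.Invol.AbelianCentralizers.Basic

/-!
# An automorphism of order three of a subgroup, inverted by an element of its normalizer

The commutator subgroup of the automorphism, its fixed points, and the product of the two.
-/

set_option autoImplicit false
set_option linter.style.haveILetI false

namespace Cfsg.Lib.Bicyclic

open Subgroup
open scoped commutatorElement

universe u

variable {G : Type u} [Group G]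

/-- A self-centralizing subgroup with an automorphism `a` of order three, inverted by an element `σ` which, with the
subgroup, makes up the normalizer. -/
structure Fr (E : Subgroup G) (a : G → G) (σ : G) : Prop where
  mem : ∀ g ∈ E, a g ∈ E
  mul : ∀ g ∈ E, ∀ k ∈ E, a (g * k) = a g * a k
  cube : ∀ g ∈ E, a (a (a g)) = g
  moved : ∃ g ∈ E, a g ≠ g
  cent : centralizer (E : Set G) ≤ E
  norm : σ ∈ normalizer (E : Set G)
  out : σ ∉ E
  cover : ∀ g ∈ normalizer (E : Set G), g ∈ E ∨ σ⁻¹ * g ∈ E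
  inv : ∀ g ∈ E, σ * a g * σ⁻¹ = a (a (σ * g * σ⁻¹))

namespace Fr

variable {E : Subgroup G} {a : G → G} {σ : G} (F : Fr E a σ)
include F

theorem one : a 1 = 1 := by
  have := F.mul 1 E.one_mem 1 E.one_mem
  rw [one_mul] at this
  exact mul_eq_left.mp this.symm

theorem map_inv {g : G} (hg : g ∈ E) : a g⁻¹ = (a g)⁻¹ := by
  refine eq_inv_of_mul_eq_one_left ?_
  rw [← F.mul _ (E.inv_mem hg) _ hg, inv_mul_cancel, F.one]

theorem map_pow {g : G} (hg : g ∈ E) (n : ℕ) : a (g ^ n) = a g ^ n := by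
  induction n with
  | zero => rw [pow_zero, pow_zero, F.one]
  | succ n ih => rw [pow_succ, pow_succ, F.mul _ (E.pow_mem hg n) _ hg, ih]

theorem conj_mem {g : G} (hg : g ∈ E) : σ * g * σ⁻¹ ∈ E := (mem_normalizer_iff.mp F.norm g).mp hg

theorem inj {g k : G} (hg : g ∈ E) (hk : k ∈ E) (e : a g = a k) : g = k := by
  rw [← F.cube g hg, e, F.cube k hk]

theorem sq_mem : σ * σ ∈ E := by
  rcases F.cover _ (mul_mem F.norm F.norm) with h | h
  · exact h
  · rw [inv_mul_cancel_left] at h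
    exact absurd h F.out

omit F in
/-- The subgroup generated by the quotients `g⁻¹ a(g)`. -/
def comU (E : Subgroup G) (a : G → G) : Subgroup G := closure {w | ∃ g ∈ E, w = g⁻¹ * a g}

/-- The fixed points. -/
def fixC : Subgroup G where
  carrier := {g | g ∈ E ∧ a g = g}
  one_mem' := ⟨E.one_mem, F.one⟩
  mul_mem' := fun {g k} hg hk => ⟨E.mul_mem hg.1 hk.1, by rw [F.mul _ hg.1 _ hk.1, hg.2, hk.2]⟩
  inv_mem' := fun {g} hg => ⟨E.inv_mem hg.1, by rw [F.map_inv hg.1, hg.2]⟩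

theorem mem_fixC {g : G} : g ∈ F.fixC ↔ g ∈ E ∧ a g = g := Iff.rfl

omit F in
theorem gen_mem {g : G} (hg : g ∈ E) : g⁻¹ * a g ∈ comU E a := subset_closure ⟨g, hg, rfl⟩

theorem comU_le : comU E a ≤ E := (closure_le _).mpr (by
  rintro w ⟨g, hg, rfl⟩
  exact E.mul_mem (E.inv_mem hg) (F.mem g hg))

theorem comU_map {u : G} (hu : u ∈ comU E a) : a u ∈ comU E a := by
  have : comU E a ≤
      { carrier := {w | w ∈ E ∧ a w ∈ comU E a}
        one_mem' := ⟨E.one_mem, by rw [F.one]; exact one_mem _⟩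
        mul_mem' := fun {v w} hv hw => ⟨E.mul_mem hv.1 hw.1, by
          rw [F.mul _ hv.1 _ hw.1]; exact mul_mem hv.2 hw.2⟩
        inv_mem' := fun {v} hv => ⟨E.inv_mem hv.1, by rw [F.map_inv hv.1]; exact inv_mem hv.2⟩
        : Subgroup G } := (closure_le _).mpr (by
    rintro w ⟨g, hg, rfl⟩
    refine ⟨E.mul_mem (E.inv_mem hg) (F.mem g hg), ?_⟩
    rw [F.mul _ (E.inv_mem hg) _ (F.mem g hg), F.map_inv hg]
    exact gen_mem (F.mem g hg))
  exact (this hu).2

theorem comU_conj {u g : G} (hu : u ∈ comU E a) (hg : g ∈ E) : g * u * g⁻¹ ∈ comU E a := by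
  have : comU E a ≤ (comU E a).comap (MulAut.conj g).toMonoidHom := (closure_le _).mpr (by
    rintro w ⟨v, hv, rfl⟩
    show g * (v⁻¹ * a v) * g⁻¹ ∈ comU E a
    have e : g * (v⁻¹ * a v) * g⁻¹ = (v * g⁻¹)⁻¹ * a (v * g⁻¹) * ((g⁻¹)⁻¹ * a g⁻¹)⁻¹ := by
      rw [F.mul _ hv _ (E.inv_mem hg)]; group
    rw [e]
    exact mul_mem (gen_mem (E.mul_mem hv (E.inv_mem hg))) (inv_mem (gen_mem (E.inv_mem hg))))
  exact this hu

theorem comU_sigma {u : G} (hu : u ∈ comU E a) : σ * u * σ⁻¹ ∈ comU E a := by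
  have : comU E a ≤ (comU E a).comap (MulAut.conj σ).toMonoidHom := (closure_le _).mpr (by
    rintro w ⟨v, hv, rfl⟩
    show σ * (v⁻¹ * a v) * σ⁻¹ ∈ comU E a
    have hw := F.conj_mem hv
    have hw' := F.mem _ (F.mem _ hw)
    have e : σ * (v⁻¹ * a v) * σ⁻¹ = (σ * v * σ⁻¹)⁻¹ * a (a (σ * v * σ⁻¹)) := by
      rw [← F.inv v hv]; group
    rw [e, show (σ * v * σ⁻¹)⁻¹ * a (a (σ * v * σ⁻¹)) =
      ((a (a (σ * v * σ⁻¹)))⁻¹ * a (a (a (σ * v * σ⁻¹))))⁻¹ by rw [F.cube _ hw]; group]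
    exact inv_mem (gen_mem hw'))
  exact this hu

theorem fixC_sigma {c : G} (hc : c ∈ F.fixC) : σ * c * σ⁻¹ ∈ F.fixC := by
  refine ⟨F.conj_mem hc.1, ?_⟩
  have h1 : a (a (σ * c * σ⁻¹)) = σ * c * σ⁻¹ := by rw [← F.inv c hc.1, hc.2]
  conv_rhs => rw [← F.cube _ (F.conj_mem hc.1), h1]

variable [Finite G] (h2 : IsPGroup 2 G)
include h2

theorem exists_fixed_in_coset {g : G} (hg : g ∈ E) : ∃ c ∈ F.fixC, g⁻¹ * c ∈ comU E a := by
  classical
  haveI : Fact (Nat.Prime 3) := ⟨Nat.prime_three⟩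
  let K := {k : G // g⁻¹ * k ∈ comU E a}
  haveI : Fintype K := Fintype.ofFinite K
  have hmemE : ∀ k : K, (k : G) ∈ E := fun k => by
    have := E.mul_mem hg (F.comU_le k.2)
    rwa [mul_inv_cancel_left] at this
  let f : K → K := fun k => ⟨a k, by
    have h1 := F.comU_map k.2
    rw [F.mul _ (E.inv_mem hg) _ (hmemE k), F.map_inv hg] at h1
    have := mul_mem (gen_mem hg) h1
    rwa [show g⁻¹ * a g * ((a g)⁻¹ * a k) = g⁻¹ * a k by group] at this⟩
  have hf : ∀ k, f (f (f k)) = k := fun k => Subtype.ext (F.cube _ (hmemE k))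
  let p : Equiv.Perm K := ⟨f, fun k => f (f k), hf, hf⟩
  have hp : p ^ 3 ^ 1 = 1 := Equiv.ext fun k => by
    rw [pow_one, pow_succ', pow_succ', pow_one]; exact hf k
  have hcard : ¬ 3 ∣ Fintype.card K := by
    rw [← Nat.card_eq_fintype_card]
    have e : K ≃ comU E a := (Equiv.mulLeft g⁻¹).subtypeEquiv fun k => Iff.rfl
    rw [Nat.card_congr e]
    obtain ⟨n, hn⟩ := IsPGroup.iff_card.mp (h2.to_subgroup (comU E a))
    rw [hn]
    exact fun hd => absurd (Nat.prime_three.dvd_of_dvd_pow hd) (by norm_num)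
  obtain ⟨k, hk⟩ := Equiv.Perm.exists_fixed_point_of_prime hcard hp
  exact ⟨k, ⟨hmemE k, congrArg Subtype.val hk⟩, k.2⟩

theorem decomp {g : G} (hg : g ∈ E) : ∃ u ∈ comU E a, ∃ c ∈ F.fixC, g = u * c := by
  obtain ⟨c, hc, hk⟩ := F.exists_fixed_in_coset h2 hg
  refine ⟨g * c⁻¹, ?_, c, hc, by group⟩
  have h1 := F.comU_conj (inv_mem hk) hc.1
  have h3 : g * c⁻¹ = c * (g⁻¹ * c)⁻¹ * c⁻¹ := by group
  rw [h3]
  -- conjugate of the inverse
  exact (by simpa [mul_assoc] using h1)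

theorem comU_self : comU E a = closure {w | ∃ u ∈ comU E a, w = u⁻¹ * a u} := by
  refine le_antisymm ((closure_le _).mpr ?_) ((closure_le _).mpr ?_)
  · rintro w ⟨g, hg, rfl⟩
    obtain ⟨u, hu, c, hc, rfl⟩ := F.decomp h2 hg
    refine subset_closure ⟨c⁻¹ * u * c, ?_, ?_⟩
    · simpa using F.comU_conj hu (E.inv_mem hc.1)
    · have hci := E.inv_mem hc.1
      rw [F.mul _ (F.comU_le hu) _ hc.1, hc.2,
        F.mul _ (E.mul_mem hci (F.comU_le hu)) _ hc.1, F.mul _ hci _ (F.comU_le hu), F.map_inv hc.1,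
        hc.2]
      group
  · rintro w ⟨u, hu, rfl⟩
    exact mul_mem (inv_mem hu) (F.comU_map hu)

/-- In an abelian quotient of `[E, a]` only the identity is fixed. -/
theorem fixed_mem {N : Subgroup G} (hNU : N ≤ comU E a)
    (hcomm : ∀ v ∈ comU E a, ∀ w ∈ comU E a, ⁅v, w⁆ ∈ N) (hNa : ∀ v ∈ N, a v ∈ N)
    {v : G} (hv : v ∈ comU E a) (hfix : v⁻¹ * a v ∈ N) : v ∈ N := by
  classical
  set U := comU E a with hUdef
  set N' := N.subgroupOf U with hN'
  haveI : N'.Normal := ⟨fun n hn g => by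
    rw [hN', mem_subgroupOf] at hn ⊢
    have h1 := mul_mem (hcomm g g.2 n n.2) hn
    rw [commutatorElement_def] at h1
    simpa [mul_assoc] using h1⟩
  set Q := U ⧸ N'
  have hQ : ∀ p q : Q, p * q = q * p := fun p q => by
    induction p using QuotientGroup.induction_on with | H p =>
    induction q using QuotientGroup.induction_on with | H q =>
    rw [← commutatorElement_eq_one_iff_mul_comm, ← QuotientGroup.mk'_apply, ← QuotientGroup.mk'_apply,
      ← map_commutatorElement]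
    exact (QuotientGroup.eq_one_iff _).mpr (mem_subgroupOf.mpr (hcomm p p.2 q q.2))
  let au : U →* U := MonoidHom.mk' (fun v => ⟨a v, F.comU_map v.2⟩) fun p q =>
    Subtype.ext (F.mul _ (F.comU_le p.2) _ (F.comU_le q.2))
  let aq : Q →* Q := QuotientGroup.map N' N' au (fun p hp => hNa _ hp)
  let d : Q →* Q := MonoidHom.mk' (fun q => q⁻¹ * aq q) fun p q => by
    rw [_root_.map_mul, mul_inv_rev]
    calc q⁻¹ * p⁻¹ * (aq p * aq q) = q⁻¹ * (p⁻¹ * aq p) * aq q := by group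
      _ = (p⁻¹ * aq p) * q⁻¹ * aq q := by rw [hQ q⁻¹]
      _ = _ := by group
  have hsurj : Function.Surjective d := by
    rw [← MonoidHom.range_eq_top, eq_top_iff]
    intro q _
    induction q using QuotientGroup.induction_on with | H q =>
    have : U ≤ (d.range.comap (QuotientGroup.mk' N')).map U.subtype := by
      conv_lhs => rw [hUdef, F.comU_self h2]
      rw [closure_le]
      rintro w ⟨u, hu, rfl⟩
      exact ⟨⟨u, hu⟩⁻¹ * au ⟨u, hu⟩, ⟨QuotientGroup.mk ⟨u, hu⟩, rfl⟩, rfl⟩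
    obtain ⟨w, hw, he⟩ := this q.2
    rw [Subtype.ext he] at hw
    exact hw
  have hinj : Function.Injective d := Finite.injective_iff_surjective.mpr hsurj
  have h1 : d (QuotientGroup.mk ⟨v, hv⟩) = 1 := (QuotientGroup.eq_one_iff _).mpr (mem_subgroupOf.mpr hfix)
  exact mem_subgroupOf.mp ((QuotientGroup.eq_one_iff _).mp (hinj (h1.trans (map_one d).symm)))

theorem norm_mem {N : Subgroup G} (hNU : N ≤ comU E a)
    (hcomm : ∀ v ∈ comU E a, ∀ w ∈ comU E a, ⁅v, w⁆ ∈ N) (hNa : ∀ v ∈ N, a v ∈ N)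
    {v : G} (hv : v ∈ comU E a) : v * a v * a (a v) ∈ N := by
  refine F.fixed_mem h2 hNU hcomm hNa (mul_mem (mul_mem hv (F.comU_map hv)) (F.comU_map (F.comU_map hv))) ?_
  have hvE := F.comU_le hv
  have h1 := F.mem _ hvE
  rw [F.mul _ (E.mul_mem hvE h1) _ (F.mem _ h1), F.mul _ hvE _ h1, F.cube _ hvE]
  have := hcomm _ (inv_mem (mul_mem (F.comU_map hv) (F.comU_map (F.comU_map hv)))) _ (inv_mem hv)
  rw [commutatorElement_def, inv_inv, inv_inv] at this
  simpa [mul_assoc] using this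

theorem comU_ne_bot : comU E a ≠ ⊥ := fun h => by
  obtain ⟨g, hg, hne⟩ := F.moved
  have := gen_mem (a := a) hg
  rw [h, mem_bot, inv_mul_eq_one] at this
  exact hne this.symm

end Fr

end Cfsg.Lib.Bicyclic
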