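import Cfsg.Agent.Lib.FusionSys.Bicyclic.Basic
import Cfsg.Agent.Lib.PGroup.Basic
import Mathlib.Tactic.IntervalCases

/-!
# Counting and nongeneration inside a subgroup of a 2-group
-/

set_option autoImplicit false
set_option linter.style.haveILetI false

namespace Cfsg.Lib.Bicyclic

open Subgroup
open scoped commutatorElement

universe u

variable {G : Type u} [Group G]

/-- The subgroup generated by the squares of a subgroup. -/
def sqSub (U : Subgroup G) : Subgroup G := closure {w | ∃ v ∈ U, w = v * v}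

/-- The subgroup generated by the squares of `X` and its commutators with `U`. -/
def sqc (X U : Subgroup G) : Subgroup G :=
  closure ({w | ∃ k ∈ X, w = k * k} ∪ {w | ∃ k ∈ X, ∃ g ∈ U, w = ⁅k, g⁆})

theorem sqSub_le (U : Subgroup G) : sqSub U ≤ U := (closure_le _).mpr (by
  rintro w ⟨v, hv, rfl⟩; exact mul_mem hv hv)

theorem sq_mem_sqSub {U : Subgroup G} {v : G} (hv : v ∈ U) : v * v ∈ sqSub U :=
  subset_closure ⟨v, hv, rfl⟩

theorem comm_mem_sqSub {U : Subgroup G} {v w : G} (hv : v ∈ U) (hw : w ∈ U) : ⁅v, w⁆ ∈ sqSub U := by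
  rw [show ⁅v, w⁆ = v * v * ((v⁻¹ * w) * (v⁻¹ * w)) * (w⁻¹ * w⁻¹) by
    rw [commutatorElement_def]; group]
  exact mul_mem (mul_mem (sq_mem_sqSub hv) (sq_mem_sqSub (mul_mem (inv_mem hv) hw)))
    (sq_mem_sqSub (inv_mem hw))

theorem conj_closure {S : Set G} {g : G} (h : ∀ w ∈ S, g * w * g⁻¹ ∈ closure S) {w : G}
    (hw : w ∈ closure S) : g * w * g⁻¹ ∈ closure S :=
  (closure_le ((closure S).comap (MulAut.conj g).toMonoidHom)).mpr (fun v hv => h v hv) hw

theorem sqSub_conj {U : Subgroup G} {g : G} (hg : ∀ v ∈ U, g * v * g⁻¹ ∈ U) {w : G}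
    (hw : w ∈ sqSub U) : g * w * g⁻¹ ∈ sqSub U := by
  refine conj_closure ?_ hw
  rintro w ⟨v, hv, rfl⟩
  rw [show g * (v * v) * g⁻¹ = g * v * g⁻¹ * (g * v * g⁻¹) by group]
  exact sq_mem_sqSub (hg v hv)

theorem sqc_conj {X U : Subgroup G} {g : G} (hX : ∀ k ∈ X, g * k * g⁻¹ ∈ X) (hgU : g ∈ U) {w : G}
    (hw : w ∈ sqc X U) : g * w * g⁻¹ ∈ sqc X U := by
  refine conj_closure ?_ hw
  rintro w (⟨k, hk, rfl⟩ | ⟨k, hk, m, hm, rfl⟩)
  · exact subset_closure (Or.inl ⟨_, hX k hk, by group⟩)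
  · exact subset_closure (Or.inr ⟨_, hX k hk, g * m * g⁻¹, mul_mem (mul_mem hgU hm) (inv_mem hgU),
      by simp only [commutatorElement_def]; group⟩)

theorem sqc_le {X U : Subgroup G} (hX : ∀ g ∈ U, ∀ k ∈ X, g * k * g⁻¹ ∈ X) : sqc X U ≤ X :=
  (closure_le _).mpr (by
    rintro w (⟨k, hk, rfl⟩ | ⟨k, hk, m, hm, rfl⟩)
    · exact mul_mem hk hk
    · rw [SetLike.mem_coe, show ⁅k, m⁆ = k * (m * k⁻¹ * m⁻¹) by rw [commutatorElement_def]; group]
      exact mul_mem hk (hX m hm _ (inv_mem hk)))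

theorem map_mem_closure {S : Set G} {E : Subgroup G} {f : G → G} (h1 : f 1 = 1)
    (hm : ∀ g ∈ E, ∀ k ∈ E, f (g * k) = f g * f k) (hSE : S ⊆ E) (T : Subgroup G)
    (hS : ∀ w ∈ S, f w ∈ T) {w : G} (hw : w ∈ closure S) : w ∈ E ∧ f w ∈ T := by
  induction hw using closure_induction with
  | mem w hw => exact ⟨hSE hw, hS w hw⟩
  | one => exact ⟨E.one_mem, by rw [h1]; exact T.one_mem⟩
  | mul v w _ _ hv hw => exact ⟨E.mul_mem hv.1 hw.1, by rw [hm _ hv.1 _ hw.1]; exact T.mul_mem hv.2 hw.2⟩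
  | inv v _ hv =>
    refine ⟨E.inv_mem hv.1, ?_⟩
    have : f v⁻¹ = (f v)⁻¹ := by
      refine eq_inv_of_mul_eq_one_left ?_
      rw [← hm _ (E.inv_mem hv.1) _ hv.1, inv_mul_cancel, h1]
    rw [this]
    exact T.inv_mem hv.2

/-- Commutators lie in a normalized subgroup when those of generators do. -/
theorem comm_mem_of_gen {U N : Subgroup G} {S : Set G} (hgen : U = closure S) (hNU : N ≤ U)
    (hn : ∀ g ∈ U, ∀ k ∈ N, g * k * g⁻¹ ∈ N) (hS : ∀ p ∈ S, ∀ q ∈ S, ⁅p, q⁆ ∈ N)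
    {p q : G} (hp : p ∈ U) (hq : q ∈ U) : ⁅p, q⁆ ∈ N := by
  subst hgen
  haveI : (N.subgroupOf (closure S)).Normal := ⟨fun v hv g => by
    rw [mem_subgroupOf] at hv ⊢
    exact hn g g.2 v hv⟩
  set π := QuotientGroup.mk' (N.subgroupOf (closure S)) with hπ
  have key : ∀ u v : closure S, ⁅(u : G), (v : G)⁆ ∈ N ↔ Commute (π u) (π v) := fun u v => by
    rw [commute_iff_eq, ← commutatorElement_eq_one_iff_mul_comm, ← map_commutatorElement, hπ,
      QuotientGroup.mk'_apply, QuotientGroup.eq_one_iff, mem_subgroupOf]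
    rfl
  have h1 : ∀ v : closure S, ∀ p₀ (hp₀ : p₀ ∈ S), Commute (π v) (π ⟨p₀, subset_closure hp₀⟩) := by
    rintro ⟨v, hv⟩ p₀ hp₀
    induction hv using closure_induction with
    | mem v hv => exact (key _ _).mp (hS v hv p₀ hp₀)
    | one =>
      rw [show (⟨1, one_mem _⟩ : closure S) = 1 from rfl, map_one]
      exact Commute.one_left _
    | mul v w hv hw i1 i2 =>
      rw [show (⟨v * w, mul_mem hv hw⟩ : closure S) = ⟨v, hv⟩ * ⟨w, hw⟩ from rfl, map_mul]
      exact i1.mul_left i2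
    | inv v hv i =>
      rw [show (⟨v⁻¹, inv_mem hv⟩ : closure S) = ⟨v, hv⟩⁻¹ from rfl, map_inv]
      exact i.inv_left
  refine (key ⟨p, hp⟩ ⟨q, hq⟩).mpr ?_
  induction hq using closure_induction with
  | mem v hv => exact h1 _ v hv
  | one =>
    rw [show (⟨1, one_mem _⟩ : closure S) = 1 from rfl, map_one]
    exact Commute.one_right _
  | mul v w hv hw i1 i2 =>
    rw [show (⟨v * w, mul_mem hv hw⟩ : closure S) = ⟨v, hv⟩ * ⟨w, hw⟩ from rfl, map_mul]
    exact i1.mul_right i2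
  | inv v hv i =>
    rw [show (⟨v⁻¹, inv_mem hv⟩ : closure S) = ⟨v, hv⟩⁻¹ from rfl, map_inv]
    exact i.inv_right

/-- The eight classes modulo a subgroup containing the squares. -/
theorem classes {U N : Subgroup G} {p q r : G} (hgen : U = closure ({p, q, r} : Set G))
    (hn : ∀ g ∈ U, ∀ k ∈ N, g * k * g⁻¹ ∈ N) (hsq : ∀ g ∈ U, g * g ∈ N) {g : G} (hg : g ∈ U) :
    ∃ i j k : ℕ, i < 2 ∧ j < 2 ∧ k < 2 ∧ (p ^ i * q ^ j * r ^ k)⁻¹ * g ∈ N := by
  subst hgen
  haveI : (N.subgroupOf (closure ({p, q, r} : Set G))).Normal := ⟨fun v hv g => by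
    rw [mem_subgroupOf] at hv ⊢
    exact hn g g.2 v hv⟩
  set π := QuotientGroup.mk' (N.subgroupOf (closure ({p, q, r} : Set G))) with hπ
  have hp : p ∈ closure ({p, q, r} : Set G) := subset_closure (by simp)
  have hq : q ∈ closure ({p, q, r} : Set G) := subset_closure (by simp)
  have hr : r ∈ closure ({p, q, r} : Set G) := subset_closure (by simp)
  have hexp : ∀ w : ↥(closure ({p, q, r} : Set G)) ⧸ N.subgroupOf (closure ({p, q, r} : Set G)),
      w * w = 1 := fun w => by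
    induction w using QuotientGroup.induction_on with | H w =>
    exact (QuotientGroup.eq_one_iff _).mpr (mem_subgroupOf.mpr (hsq w w.2))
  let e : ℕ → _ := Lin3.val (π ⟨p, hp⟩) (π ⟨q, hq⟩) (π ⟨r, hr⟩)
  have hall : ∀ v (hv : v ∈ closure ({p, q, r} : Set G)), ∃ n < 8, π ⟨v, hv⟩ = e n := by
    intro v hv
    induction hv using closure_induction with
    | mem v hv =>
      simp only [Set.mem_insert_iff, Set.mem_singleton_iff] at hv
      rcases hv with rfl | rfl | rfl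
      · exact ⟨1, by omega, by simp [e, Lin3.val]⟩
      · exact ⟨2, by omega, by simp [e, Lin3.val]⟩
      · exact ⟨4, by omega, by simp [e, Lin3.val]⟩
    | one => exact ⟨0, by omega, by simp [e, Lin3.val]; rfl⟩
    | mul v w hv hw i1 i2 =>
      obtain ⟨m, hm, e1⟩ := i1
      obtain ⟨n, hn', e2⟩ := i2
      exact ⟨m ^^^ n, Nat.xor_lt_two_pow (n := 3) hm hn', by
        rw [show (⟨v * w, mul_mem hv hw⟩ : closure ({p, q, r} : Set G)) = ⟨v, hv⟩ * ⟨w, hw⟩ from rfl,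
          map_mul, e1, e2]
        exact (Lin3.val_xor hexp m hm n hn').symm⟩
    | inv v hv i =>
      obtain ⟨m, hm, e1⟩ := i
      exact ⟨m, hm, by
        rw [show (⟨v⁻¹, inv_mem hv⟩ : closure ({p, q, r} : Set G)) = ⟨v, hv⟩⁻¹ from rfl, map_inv, e1]
        exact inv_eq_of_mul_eq_one_left (hexp _)⟩
  obtain ⟨n, -, e1⟩ := hall g hg
  refine ⟨n % 2, n / 2 % 2, n / 4 % 2, by omega, by omega, by omega, ?_⟩
  have e2 : π (⟨p, hp⟩ ^ (n % 2) * ⟨q, hq⟩ ^ (n / 2 % 2) * ⟨r, hr⟩ ^ (n / 4 % 2)) = π ⟨g, hg⟩ := by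
    rw [e1, map_mul, map_mul, map_pow, map_pow, map_pow]
    rfl
  have e3 := QuotientGroup.eq.mp e2
  rw [mem_subgroupOf] at e3
  simpa using e3

variable [Finite G]

theorem relIndex_le_eight {U N : Subgroup G} {p q r : G} (hgen : U = closure ({p, q, r} : Set G))
    (hn : ∀ g ∈ U, ∀ k ∈ N, g * k * g⁻¹ ∈ N) (hsq : ∀ g ∈ U, g * g ∈ N) : N.relIndex U ≤ 8 := by
  have hp : p ∈ U := hgen ▸ subset_closure (by simp)
  have hq : q ∈ U := hgen ▸ subset_closure (by simp)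
  have hr : r ∈ U := hgen ▸ subset_closure (by simp)
  rw [relIndex, index_eq_card]
  let f : Fin 2 × Fin 2 × Fin 2 → U ⧸ N.subgroupOf U := fun t =>
    QuotientGroup.mk (⟨p, hp⟩ ^ (t.1 : ℕ) * ⟨q, hq⟩ ^ (t.2.1 : ℕ) * ⟨r, hr⟩ ^ (t.2.2 : ℕ))
  have hf : Function.Surjective f := fun w => by
    obtain ⟨⟨g, hg⟩, rfl⟩ := QuotientGroup.mk_surjective w
    obtain ⟨i, j, k, hi, hj, hk, hm⟩ := classes hgen hn hsq hg
    exact ⟨(⟨i, hi⟩, ⟨j, hj⟩, ⟨k, hk⟩), QuotientGroup.eq.mpr (by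
      rw [mem_subgroupOf]; simpa using hm)⟩
  exact (Nat.card_le_card_of_surjective f hf).trans (by simp)

theorem three_le_relIndex {T N : Subgroup G} {v w : G} (hv : v ∈ T) (hw : w ∈ T) (v1 : v ∉ N)
    (w1 : w ∉ N) (vw : v⁻¹ * w ∉ N) : 3 ≤ N.relIndex T := by
  rw [relIndex, index_eq_card]
  let f : Fin 3 → T ⧸ N.subgroupOf T := ![QuotientGroup.mk 1, QuotientGroup.mk ⟨v, hv⟩, QuotientGroup.mk ⟨w, hw⟩]
  have h1 : ∀ p q : T, (p : G)⁻¹ * q ∉ N → (QuotientGroup.mk p : T ⧸ N.subgroupOf T) ≠ QuotientGroup.mk q :=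
    fun p q h e => h (by simpa [mem_subgroupOf] using QuotientGroup.eq.mp e)
  have a := h1 1 ⟨v, hv⟩ (by simpa using v1)
  have b := h1 1 ⟨w, hw⟩ (by simpa using w1)
  have c := h1 ⟨v, hv⟩ ⟨w, hw⟩ vw
  have hf : Function.Injective f := by
    intro i j e
    fin_cases i <;> fin_cases j <;>
      simp [f, a, a.symm, b, b.symm, c, c.symm, -QuotientGroup.mk_one] at e ⊢
  exact (Nat.card_fin 3).symm.trans_le (Nat.card_le_card_of_injective f hf)

variable (h2 : IsPGroup 2 G)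
include h2

theorem sqSub_le_frattini (U : Subgroup G) : sqSub U ≤ frattini G := (closure_le _).mpr (by
  haveI : Fact (Nat.Prime 2) := ⟨Nat.prime_two⟩
  rintro w ⟨v, -, rfl⟩
  rw [SetLike.mem_coe, ← pow_two]
  exact Cfsg.Lib.PGroup.pow_mem_frattini h2 v)

/-- A normalized subgroup generated by its squares and its commutators with `U` is trivial. -/
theorem eq_bot_of_le_sqc {X U : Subgroup G} (hXU : X ≤ U) (hn : ∀ g ∈ U, ∀ k ∈ X, g * k * g⁻¹ ∈ X)
    (h : X ≤ sqc X U) : X = ⊥ := by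
  haveI : Fact (Nat.Prime 2) := ⟨Nat.prime_two⟩
  by_contra hne
  set M := ⁅X, U⁆ with hMdef
  have hlt : M < X := by
    refine Cfsg.Lib.PGroup.commutator_lt_of_isPGroup (h2.to_subgroup X) (h2.to_subgroup U) ?_ hne
    intro g hg
    rw [mem_normalizer_iff]
    refine fun k => ⟨hn g hg k, fun hk => ?_⟩
    simpa [mul_assoc] using hn g⁻¹ (inv_mem hg) _ hk
  haveI : (M.subgroupOf X).Normal := ⟨fun m hm k => by
    rw [mem_subgroupOf] at hm ⊢
    have : ⁅(k : G), (m : G)⁆ ∈ M := commutator_mem_commutator k.2 (hXU m.2)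
    have := mul_mem this hm
    simpa [commutatorElement_def, mul_assoc] using this⟩
  set π := QuotientGroup.mk' (M.subgroupOf X) with hπ
  have hc : ∀ p q : X ⧸ M.subgroupOf X, p * q = q * p := fun p q => by
    induction p using QuotientGroup.induction_on with | H p =>
    induction q using QuotientGroup.induction_on with | H q =>
    rw [← commutatorElement_eq_one_iff_mul_comm, ← QuotientGroup.mk'_apply, ← QuotientGroup.mk'_apply,
      ← map_commutatorElement]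
    exact (QuotientGroup.eq_one_iff _).mpr
      (mem_subgroupOf.mpr (commutator_mem_commutator p.2 (hXU q.2)))
  let s : X ⧸ M.subgroupOf X →* X ⧸ M.subgroupOf X := MonoidHom.mk' (fun q => q * q) fun p q => by
    rw [mul_assoc, ← mul_assoc q, hc q p]; group
  have hsurj : Function.Surjective s := fun q => by
    induction q using QuotientGroup.induction_on with | H q =>
    have : sqc X U ≤ (s.range.comap π).map X.subtype := (closure_le _).mpr (by
      rintro w (⟨k, hk, rfl⟩ | ⟨k, hk, m, hm, rfl⟩)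
      · exact ⟨⟨k, hk⟩ * ⟨k, hk⟩, ⟨π ⟨k, hk⟩, by rw [map_mul]; rfl⟩, rfl⟩
      · have hX' : ⁅k, m⁆ ∈ X := hlt.le (commutator_mem_commutator hk hm)
        exact ⟨⟨⁅k, m⁆, hX'⟩, ⟨1, ((map_one s).trans
          ((QuotientGroup.eq_one_iff _).mpr (mem_subgroupOf.mpr
            (commutator_mem_commutator hk hm))).symm)⟩, rfl⟩)
    obtain ⟨w, hw, e⟩ := this (h q.2)
    rw [Subtype.ext e] at hw
    exact hw
  have hinj : Function.Injective s := Finite.injective_iff_surjective.mpr hsurj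
  have hone : ∀ (k : ℕ) (q : X ⧸ M.subgroupOf X), q ^ 2 ^ k = 1 → q = 1 := by
    intro k
    induction k with
    | zero => intro q hq; rwa [pow_zero, pow_one] at hq
    | succ k ih =>
      intro q hq
      have : q * q = 1 := ih _ (by rw [← pow_two, ← pow_mul, ← pow_succ']; exact hq)
      exact hinj (this.trans (map_one s).symm)
  obtain ⟨g, hgX, hgM⟩ := SetLike.exists_of_lt hlt
  obtain ⟨k, hk⟩ := (h2.to_subgroup X).to_quotient (M.subgroupOf X) (π ⟨g, hgX⟩)
  exact hgM (mem_subgroupOf.mp ((QuotientGroup.eq_one_iff _).mp (hone k _ hk)))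

theorem sqSub_ne {U : Subgroup G} (hU : U ≠ ⊥) : sqSub U ≠ U := fun h => hU (eq_bot_of_le_sqc h2 le_rfl
  (fun g hg k hk => mul_mem (mul_mem hg hk) (inv_mem hg)) (by
    conv_lhs => rw [← h]
    exact closure_mono (by rintro w ⟨v, hv, rfl⟩; exact Or.inl ⟨v, hv, rfl⟩)))

/-- The squares do not help to generate. -/
theorem eq_of_sup_sqSub {U T : Subgroup G} (hTU : T ≤ U) (h : U ≤ T ⊔ sqSub U) : T = U := by
  haveI : Fact (Nat.Prime 2) := ⟨Nat.prime_two⟩
  have hle : sqSub U ≤ (frattini U).map U.subtype := (closure_le _).mpr (by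
    rintro w ⟨v, hv, rfl⟩
    refine ⟨⟨v, hv⟩ * ⟨v, hv⟩, ?_, rfl⟩
    rw [SetLike.mem_coe, ← pow_two]
    exact Cfsg.Lib.PGroup.pow_mem_frattini (h2.to_subgroup U) _)
  have htop : T.subgroupOf U ⊔ frattini U = ⊤ := by
    refine eq_top_iff.mpr fun g _ => ?_
    have : (g : G) ∈ (T.subgroupOf U ⊔ frattini U).map U.subtype := by
      rw [Subgroup.map_sup, map_subgroupOf_eq_of_le hTU]
      exact (sup_le_sup_left hle T) (h g.2)
    obtain ⟨g', hg', e⟩ := this
    rwa [Subtype.ext e] at hg'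
  refine le_antisymm hTU fun g hg => ?_
  have := frattini_nongenerating htop
  exact mem_subgroupOf.mp (this.symm ▸ mem_top (⟨g, hg⟩ : U))

end Cfsg.Lib.Bicyclic
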