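import Cfsg.Agent.Lib.FusionSys.Bicyclic.Frame
import Cfsg.Agent.Lib.FusionSys.SecThree.Auto
import Cfsg.Agent.Lib.FusionSys.Basic
import Mathlib.GroupTheory.SpecificGroups.Quaternion

/-!
# The automorphisms of the subgroup used for the noninner system

They fix the cyclic part and permute three classes modulo the square of `b`; those induced by the ambient 2-group are
the ones fixing the class of `v`.
-/

set_option autoImplicit false
set_option linter.style.haveILetI false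

namespace Cfsg.Lib.Bicyclic

open Subgroup Cfsg.Lib.FusionSys Cfsg.Lib.FusionSys.SecThree

/-- The automorphism of order three of the quaternion group of order eight, as a function. -/
def quatTurn : QuaternionGroup 2 → QuaternionGroup 2
  | .a i => if i = 1 then .xa 3 else if i = 3 then .xa 1 else .a i
  | .xa i => if i = 0 then .a 1 else if i = 1 then .xa 2 else if i = 2 then .a 3 else .xa 0

theorem quatTurn_mul : ∀ p q : QuaternionGroup 2, quatTurn (p * q) = quatTurn p * quatTurn q := by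
  decide

variable {Ω : Type*} [Group Ω] {S : Subgroup Ω}

/-- The subgroup generated by the three elements. -/
def eGrp (b v c : Ω) : Subgroup Ω := closure {b, v, c}

/-- The subgroup generated by the first two elements. -/
def uGrp (b v : Ω) : Subgroup Ω := closure {b, v}

/-- The configuration inside a subgroup of the ambient group. -/
structure Seed (S : Subgroup Ω) (b v c : Ω) : Prop where
  bS : b ∈ S
  vS : v ∈ S
  cS : c ∈ S
  vv : v * v = b * b
  z2 : b * b * (b * b) = 1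
  zc : ∀ g ∈ S, g * (b * b) = b * b * g
  bvb : b * v * b⁻¹ = v⁻¹
  cb : c * b = b * c
  cv : c * v = v * c
  v1 : v ≠ 1
  bout : b ∉ zpowers v
  inter : ∀ q : ℤ, c ^ q ∈ uGrp b v → c ^ q ∈ zpowers (b * b)
  norm : ∀ g ∈ S, g ∈ normalizer (eGrp b v c : Set Ω) →
    g * c * g⁻¹ = c ∧ g * v * g⁻¹ ∈ zpowers v ∧ g * b * g⁻¹ ∈ uGrp b v
  cent : ∀ g ∈ S, g * b = b * g → g ∈ eGrp b v c
  outer : ∃ g ∈ S, g ∈ normalizer (eGrp b v c : Set Ω) ∧
    (g * b * g⁻¹ = v * b ∨ g * b * g⁻¹ = v⁻¹ * b)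

/-- The configuration of a group, read in an ambient group. -/
theorem Seed.of_core {b v c : S} (h : Core b v c) : Seed S (b : Ω) (v : Ω) (c : Ω) := by
  have hE : (closure ({b, v, c} : Set S)).map S.subtype = eGrp (b : Ω) v c := by
    rw [MonoidHom.map_closure, eGrp, Set.image_insert_eq, Set.image_pair]
    rfl
  have hU : (closure ({b, v} : Set S)).map S.subtype = uGrp (b : Ω) v := by
    rw [MonoidHom.map_closure, uGrp, Set.image_pair]
    rfl
  have hN : ∀ g : S, g ∈ normalizer (closure ({b, v, c} : Set S) : Set S) ↔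
      (g : Ω) ∈ normalizer (eGrp (b : Ω) v c : Set Ω) := by
    intro g
    rw [mem_normalizer_iff, mem_normalizer_iff]
    constructor
    · intro hg w
      constructor
      · rw [← hE]
        rintro ⟨k, hk, rfl⟩
        exact ⟨g * k * g⁻¹, (hg k).mp hk, rfl⟩
      · rw [← hE]
        rintro ⟨k, hk, hkw⟩
        refine ⟨g⁻¹ * k * g, (hg _).mpr (by
          rw [show g * (g⁻¹ * k * g) * g⁻¹ = k by group]; exact hk), ?_⟩
        show (g : Ω)⁻¹ * (k : Ω) * g = w
        rw [show (k : Ω) = g * w * (g : Ω)⁻¹ from hkw]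
        group
    · intro hg k
      have e : ∀ m : S, m ∈ closure ({b, v, c} : Set S) ↔ (m : Ω) ∈ eGrp (b : Ω) v c := fun m => by
        rw [← hE]
        exact (mem_map_iff_mem S.subtype_injective).symm
      rw [e, e]
      exact hg k
  refine ⟨b.2, v.2, c.2, congrArg Subtype.val h.vv, congrArg Subtype.val h.z2,
    fun g hg => congrArg Subtype.val (h.zc ⟨g, hg⟩), congrArg Subtype.val h.bvb, congrArg Subtype.val h.cb,
    congrArg Subtype.val h.cv, fun e => h.v1 (Subtype.ext e), ?_, ?_, ?_, ?_, ?_⟩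
  · intro hm
    obtain ⟨i, hi⟩ := mem_zpowers_iff.mp hm
    exact h.bout ⟨i, Subtype.ext (by simpa using hi)⟩
  · intro q hq
    rw [← hU, ← Subgroup.coe_zpow] at hq
    obtain ⟨i, hi⟩ := mem_zpowers_iff.mp (h.inter q ((mem_map_iff_mem S.subtype_injective).mp hq))
    exact ⟨i, by simpa using congrArg Subtype.val hi⟩
  · intro g hg hgN
    obtain ⟨h1, h2, h3⟩ := h.norm ⟨g, hg⟩ ((hN ⟨g, hg⟩).mpr hgN)
    refine ⟨congrArg Subtype.val h1, ?_, ?_⟩
    · obtain ⟨i, hi⟩ := mem_zpowers_iff.mp h2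
      exact ⟨i, by simpa using congrArg Subtype.val hi⟩
    · rw [← hU]
      exact ⟨_, h3, rfl⟩
  · intro g hg hgb
    rw [← hE]
    exact ⟨⟨g, hg⟩, h.cent ⟨g, hg⟩ (Subtype.ext hgb), rfl⟩
  · obtain ⟨g, hg, e⟩ := h.outer
    exact ⟨g, g.2, (hN g).mp hg, e.imp (fun e => congrArg Subtype.val e) fun e => congrArg Subtype.val e⟩

namespace Seed

variable {b v c : Ω} (H : Seed S b v c)

theorem b_mem : b ∈ eGrp b v c := subset_closure (by simp)

theorem v_mem : v ∈ eGrp b v c := subset_closure (by simp)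

theorem c_mem : c ∈ eGrp b v c := subset_closure (by simp)

theorem b_memU : b ∈ uGrp b v := subset_closure (by simp)

theorem v_memU : v ∈ uGrp b v := subset_closure (by simp)

theorem uGrp_le : uGrp b v ≤ eGrp b v c := closure_mono (by intro w; simp +contextual [or_imp])

theorem z_memU : b * b ∈ uGrp b v := mul_mem b_memU b_memU

theorem z_mem : b * b ∈ eGrp b v c := uGrp_le z_memU

theorem zpowers_le_u : zpowers (b * b) ≤ uGrp b v := zpowers_le.mpr z_memU

include H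

theorem le : eGrp b v c ≤ S := (closure_le _).mpr (by
  rintro w (rfl | rfl | rfl)
  exacts [H.bS, H.vS, H.cS])

theorem memZ {g : Ω} : g ∈ zpowers (b * b) ↔ g = 1 ∨ g = b * b := by
  refine ⟨fun hg => ?_, fun hg => hg.elim (fun e => e ▸ one_mem _) fun e => e ▸ mem_zpowers _⟩
  obtain ⟨i, rfl⟩ := mem_zpowers_iff.mp hg
  rcases Int.even_or_odd i with ⟨r, rfl⟩ | ⟨r, rfl⟩
  · exact Or.inl (by rw [← two_mul, zpow_mul, zpow_two, H.z2, one_zpow])
  · exact Or.inr (by rw [zpow_add, zpow_mul, zpow_two, H.z2, one_zpow, one_mul, zpow_one])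

theorem z_comm {g k : Ω} (hg : g ∈ S) (hk : k ∈ zpowers (b * b)) : g * k = k * g := by
  rcases H.memZ.mp hk with rfl | rfl
  · rw [mul_one, one_mul]
  · exact H.zc g hg

theorem v_notZ : v ∉ zpowers (b * b) := fun hm => by
  rcases H.memZ.mp hm with e | e
  · exact H.v1 e
  · exact H.v1 (mul_eq_right.mp (H.vv.trans e.symm))

theorem b_notZ : b ∉ zpowers (b * b) := fun hm =>
  H.bout ((zpowers_le.mpr (H.vv ▸ mul_mem (mem_zpowers v) (mem_zpowers v))) hm)

theorem vb_notZ : v * b ∉ zpowers (b * b) := fun hm => H.bout (by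
  have := mul_mem (inv_mem (mem_zpowers v))
    ((zpowers_le.mpr (H.vv ▸ mul_mem (mem_zpowers v) (mem_zpowers v))) hm)
  rwa [inv_mul_cancel_left] at this)

theorem b_ne_v : v⁻¹ * b ∉ zpowers (b * b) := fun hm => H.bout (by
  have := mul_mem (mem_zpowers v)
    ((zpowers_le.mpr (H.vv ▸ mul_mem (mem_zpowers v) (mem_zpowers v))) hm)
  rwa [mul_inv_cancel_left] at this)

theorem vbv : v * b * v = b := by
  calc v * b * v = v * (b * v * b⁻¹) * b := by group
    _ = b := by rw [H.bvb]; group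

theorem v_inv : v⁻¹ = v * (b * b) := inv_eq_of_mul_eq_one_right (by
  rw [← mul_assoc, H.vv, H.z2])

theorem conj_vb : v * b * v⁻¹ = b * (b * b) := by
  rw [H.v_inv, ← mul_assoc, H.vbv]

theorem classes {u : Ω} (hu : u ∈ uGrp b v) :
    ∃ k ∈ zpowers (b * b), u = k ∨ u = v * k ∨ u = b * k ∨ u = v * b * k := by
  obtain ⟨p, e, rfl⟩ := forms_two H.bvb u hu
  have hz : ∀ r : ℤ, (b * b) ^ r ∈ zpowers (b * b) := fun r => zpow_mem (mem_zpowers _) r
  have hv2 : ∀ r : ℤ, v ^ (r + r) = (b * b) ^ r := fun r => by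
    rw [zpow_add, ← (Commute.refl v).mul_zpow, H.vv]
  have hb2 : ∀ r : ℤ, b ^ (r + r) = (b * b) ^ r := fun r => by
    rw [zpow_add, ← (Commute.refl b).mul_zpow]
  have hbc := fun r => H.z_comm H.bS (hz r)
  rcases Int.even_or_odd p with ⟨r, rfl⟩ | ⟨r, rfl⟩ <;> rcases Int.even_or_odd e with ⟨r', rfl⟩ | ⟨r', rfl⟩
  · exact ⟨_, mul_mem (hz r) (hz r'), Or.inl (by rw [hv2, hb2])⟩
  · refine ⟨_, mul_mem (hz r) (hz r'), Or.inr (Or.inr (Or.inl ?_))⟩
    rw [hv2, zpow_add_one, two_mul, hb2, ← mul_assoc, ← H.z_comm H.bS (mul_mem (hz r) (hz r'))]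
  · refine ⟨_, mul_mem (hz r) (hz r'), Or.inr (Or.inl ?_)⟩
    rw [hb2, zpow_add_one, two_mul, hv2, ← H.z_comm H.vS (hz r), mul_assoc]
  · refine ⟨_, mul_mem (hz r) (hz r'), Or.inr (Or.inr (Or.inr ?_))⟩
    rw [zpow_add_one, zpow_add_one, two_mul, two_mul, hv2, hb2, ← H.z_comm H.vS (hz r)]
    calc v * (b * b) ^ r * ((b * b) ^ r' * b) = v * ((b * b) ^ r * (b * b) ^ r' * b) := by group
      _ = _ := by rw [← H.z_comm H.bS (mul_mem (hz r) (hz r')), mul_assoc v b]

theorem sq_mem {u : Ω} (hu : u ∈ uGrp b v) : u * u ∈ zpowers (b * b) := by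
  obtain ⟨k, hk, he⟩ := H.classes hu
  have hkS : k ∈ S := (zpowers_le.mpr (S.mul_mem H.bS H.bS)) hk
  have key : ∀ w : Ω, w * w ∈ zpowers (b * b) → w ∈ S → w * k * (w * k) ∈ zpowers (b * b) := by
    intro w hw hwS
    rw [show w * k * (w * k) = w * (k * w) * k by group, ← H.z_comm hwS hk,
      show w * (w * k) * k = w * w * (k * k) by group]
    exact mul_mem hw (mul_mem hk hk)
  rcases he with rfl | rfl | rfl | rfl
  · exact mul_mem hk hk
  · exact key v (H.vv ▸ mem_zpowers _) H.vS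
  · exact key b (mem_zpowers _) H.bS
  · refine key (v * b) ?_ (S.mul_mem H.vS H.bS)
    rw [← mul_assoc, H.vbv]
    exact mem_zpowers _

theorem forms' {x : Ω} (hx : x ∈ eGrp b v c) : ∃ w ∈ uGrp b v, ∃ q : ℤ, x = w * c ^ q := by
  obtain ⟨p, e, q, rfl⟩ := forms H.bvb H.cb H.cv x hx
  exact ⟨_, mul_mem (zpow_mem v_memU p) (zpow_mem b_memU e), q, rfl⟩

theorem c_comm {x : Ω} (hx : x ∈ eGrp b v c) : c * x = x * c := by
  have h : eGrp b v c ≤ centralizer ({c} : Set Ω) := (closure_le _).mpr (by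
    rintro w (rfl | rfl | rfl) <;> rw [SetLike.mem_coe, mem_centralizer_singleton_iff]
    exacts [H.cb.symm, H.cv.symm])
  exact (mem_centralizer_singleton_iff.mp (h hx)).symm

/-- The automorphisms fixing `c` and preserving the subgroup generated by `b` and `v`. -/
def auto [Finite S] : Subgroup (MulAut (eGrp b v c)) where
  carrier := {β | ap β c = c ∧ ∀ u ∈ uGrp b v, ap β u ∈ uGrp b v}
  one_mem' := ⟨ap_one_apply c, fun u hu => by rwa [ap_one_apply]⟩
  mul_mem' := by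
    rintro p q ⟨h1, h2⟩ ⟨k1, k2⟩
    exact ⟨by rw [ap_mul_apply _ _ c_mem, k1, h1],
      fun u hu => by rw [ap_mul_apply _ _ (uGrp_le hu)]; exact h2 _ (k2 u hu)⟩
  inv_mem' := by
    rintro β ⟨h1, h2⟩
    haveI : Finite (uGrp b v) := finite_of_le (uGrp_le.trans H.le)
    refine ⟨ap_inv_fix β c_mem h1, fun u hu => ?_⟩
    let f : uGrp b v → uGrp b v := fun w => ⟨ap β w, h2 w w.2⟩
    have hf : Function.Surjective f := Finite.injective_iff_surjective.mp fun p q e =>
      Subtype.ext (ap_inj β (uGrp_le p.2) (uGrp_le q.2) (congrArg Subtype.val e))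
    obtain ⟨w, hw⟩ := hf ⟨u, hu⟩
    rw [show u = ap β w from (congrArg Subtype.val hw).symm, ap_inv_ap β (uGrp_le w.2)]
    exact w.2

variable [Finite S]

theorem mem_auto {β : MulAut (eGrp b v c)} :
    β ∈ H.auto ↔ ap β c = c ∧ ∀ u ∈ uGrp b v, ap β u ∈ uGrp b v := Iff.rfl

omit H [Finite S] in
theorem ap_eq_of {β γ : MulAut (eGrp b v c)} (hb : ap β b = ap γ b) (hv : ap β v = ap γ v)
    (hc : ap β c = ap γ c) : β = γ := by
  refine ap_ext _ _ fun x hx => ?_
  induction hx using closure_induction with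
  | mem u hu =>
    rcases hu with rfl | rfl | rfl
    exacts [hb, hv, hc]
  | one => rw [ap_map_one, ap_map_one]
  | mul p q hp hq i1 i2 =>
    rw [ap_map_mul β (show p ∈ eGrp b v c from hp) (show q ∈ eGrp b v c from hq),
      ap_map_mul γ (show p ∈ eGrp b v c from hp) (show q ∈ eGrp b v c from hq), i1, i2]
  | inv p hp i1 =>
    rw [ap_map_inv β (show p ∈ eGrp b v c from hp), ap_map_inv γ (show p ∈ eGrp b v c from hp), i1]

theorem fix_z {β : MulAut (eGrp b v c)} (hβ : β ∈ H.auto) {k : Ω} (hk : k ∈ zpowers (b * b)) :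
    ap β k = k := by
  rcases H.memZ.mp hk with rfl | rfl
  · exact ap_map_one β
  · rw [ap_map_mul β b_mem b_mem]
    rcases H.memZ.mp (H.sq_mem (hβ.2 b b_memU)) with e | e
    · have h1 : b * b = 1 := ap_inj β z_mem (one_mem _) (by rw [ap_map_mul β b_mem b_mem, e, ap_map_one])
      rw [e, h1]
    · exact e

theorem notZ {β : MulAut (eGrp b v c)} (hβ : β ∈ H.auto) {u : Ω} (hu : u ∈ uGrp b v)
    (huZ : u ∉ zpowers (b * b)) : ap β u ∉ zpowers (b * b) := fun hm => huZ (by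
  have h1 : u = ap β u := ap_inj β (uGrp_le hu) (uGrp_le (hβ.2 u hu)) (H.fix_z hβ hm).symm
  rw [h1]; exact hm)

theorem map_classes {β : MulAut (eGrp b v c)} (hβ : β ∈ H.auto) {u k : Ω} (hu : u ∈ eGrp b v c)
    (hk : k ∈ zpowers (b * b)) : ap β (u * k) = ap β u * k := by
  rw [ap_map_mul β hu (uGrp_le (zpowers_le_u hk)), H.fix_z hβ hk]

/-- Conjugations by the normalizer belong to the group. -/
theorem conjAut_mem {g : Ω} (hg : g ∈ S) (hgN : g ∈ normalizer (eGrp b v c : Set Ω)) :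
    conjAut (eGrp b v c) hgN ∈ H.auto := by
  obtain ⟨h1, h2, h3⟩ := H.norm g hg hgN
  have hap : ∀ x ∈ eGrp b v c, ap (conjAut (eGrp b v c) hgN) x = g * x * g⁻¹ := fun x hx => by
    rw [ap_of_mem _ hx, coe_conjAut]
  refine ⟨by rw [hap c c_mem, h1], fun u hu => ?_⟩
  rw [hap u (uGrp_le hu)]
  have hle : uGrp b v ≤ (uGrp b v).comap (MulAut.conj g).toMonoidHom := (closure_le _).mpr (by
    rintro w (rfl | rfl)
    · exact h3
    · exact (zpowers_le.mpr v_memU) h2)
  exact hle hu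

omit H [Finite S] in
theorem ap_conjAut {g : Ω} (hgN : g ∈ normalizer (eGrp b v c : Set Ω)) {x : Ω} (hx : x ∈ eGrp b v c) :
    ap (conjAut (eGrp b v c) hgN) x = g * x * g⁻¹ := by
  rw [ap_of_mem _ hx, coe_conjAut]

omit [Finite S] in
theorem conj_v {g : Ω} (hg : g ∈ S) (hgN : g ∈ normalizer (eGrp b v c : Set Ω)) :
    ∃ k ∈ zpowers (b * b), g * v * g⁻¹ = v * k := by
  obtain ⟨p, hp⟩ := mem_zpowers_iff.mp (H.norm g hg hgN).2.1
  rcases Int.even_or_odd p with ⟨r, rfl⟩ | ⟨r, rfl⟩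
  · exfalso
    rw [zpow_add, ← (Commute.refl v).mul_zpow, H.vv] at hp
    refine H.v_notZ ?_
    have hm : g * v * g⁻¹ ∈ zpowers (b * b) := ⟨r, hp⟩
    have hc := H.z_comm (S.inv_mem hg) hm
    rw [show g⁻¹ * (g * v * g⁻¹) = v * g⁻¹ by group] at hc
    rwa [mul_right_cancel hc]
  · exact ⟨(b * b) ^ r, zpow_mem (mem_zpowers _) r, by
      rw [← hp, zpow_add_one, two_mul, zpow_add, ← (Commute.refl v).mul_zpow, H.vv,
        H.z_comm H.vS (zpow_mem (mem_zpowers _) r)]⟩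

omit [Finite S] in
/-- Elements moving `b` and `v` within their classes. -/
theorem exists_adjust {k k' : Ω} (hk : k ∈ zpowers (b * b)) (hk' : k' ∈ zpowers (b * b)) :
    ∃ e ∈ eGrp b v c, e * b * e⁻¹ = b * k ∧ e * v * e⁻¹ = v * k' := by
  have hbv : b * v * b⁻¹ = v * (b * b) := H.bvb.trans H.v_inv
  have e1 : ∀ {k : Ω}, k ∈ zpowers (b * b) → ∃ e ∈ eGrp b v c, e * b * e⁻¹ = b * k ∧ e * v * e⁻¹ = v := by
    intro k hk
    rcases H.memZ.mp hk with rfl | rfl
    · exact ⟨1, one_mem _, by group, by group⟩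
    · exact ⟨v, v_mem, H.conj_vb, by group⟩
  have e2 : ∀ {k : Ω}, k ∈ zpowers (b * b) → ∃ e ∈ eGrp b v c, e * b * e⁻¹ = b ∧ e * v * e⁻¹ = v * k := by
    intro k hk
    rcases H.memZ.mp hk with rfl | rfl
    · exact ⟨1, one_mem _, by group, by group⟩
    · exact ⟨b, b_mem, by group, hbv⟩
  obtain ⟨e, he, h1, h2⟩ := e1 hk
  obtain ⟨f, hf, h3, h4⟩ := e2 hk'
  refine ⟨e * f, mul_mem he hf, ?_, ?_⟩
  · rw [show e * f * b * (e * f)⁻¹ = e * (f * b * f⁻¹) * e⁻¹ by group, h3, h1]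
  · rw [show e * f * v * (e * f)⁻¹ = e * (f * v * f⁻¹) * e⁻¹ by group, h4,
      show e * (v * k') * e⁻¹ = e * v * e⁻¹ * (e * k' * e⁻¹) by group, h2,
      H.z_comm (H.le he) hk', mul_inv_cancel_right]

/-- Fixing the class of `v` means being induced by conjugation. -/
theorem exists_conj_of_fix {β : MulAut (eGrp b v c)} (hβ : β ∈ H.auto)
    (hv : v⁻¹ * ap β v ∈ zpowers (b * b)) :
    β ∈ Cfsg.autInducedBy S (eGrp b v c) := by
  obtain ⟨k', hk', hβv⟩ : ∃ k' ∈ zpowers (b * b), ap β v = v * k' :=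
    ⟨_, hv, (mul_inv_cancel_left v _).symm⟩
  obtain ⟨g, hg, hgN, hgb⟩ : ∃ g ∈ S, g ∈ normalizer (eGrp b v c : Set Ω) ∧
      (g * b * g⁻¹)⁻¹ * ap β b ∈ zpowers (b * b) := by
    obtain ⟨k, hk, e⟩ := H.classes (hβ.2 b b_memU)
    rcases e with e | e | e | e
    · exact absurd (e ▸ hk) (H.notZ hβ b_memU H.b_notZ)
    · exfalso
      -- `b` and `v` would have images in one class
      have hkk : k'⁻¹ * k ∈ zpowers (b * b) := mul_mem (inv_mem hk') hk
      have h1 : ap β b = ap β (v * (k'⁻¹ * k)) := by rw [H.map_classes hβ v_mem hkk, e, hβv]; group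
      have h2 := ap_inj β b_mem (mul_mem v_mem (uGrp_le (zpowers_le_u hkk))) h1
      exact H.b_ne_v ((inv_mul_eq_iff_eq_mul.mpr h2).symm ▸ hkk)
    · refine ⟨1, S.one_mem, one_mem _, ?_⟩
      rw [e, show (1 * b * 1⁻¹)⁻¹ * (b * k) = k by group]
      exact hk
    · obtain ⟨g, hg, hgN, hgb⟩ := H.outer
      refine ⟨g, hg, hgN, ?_⟩
      rcases hgb with hgb | hgb <;> rw [hgb, e]
      · rw [inv_mul_cancel_left]; exact hk
      · rw [show (v⁻¹ * b)⁻¹ * (v * b * k) = b⁻¹ * (v * v) * b * k by group, H.vv,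
          show b⁻¹ * (b * b) * b * k = b * b * k by group]
        exact mul_mem (mem_zpowers _) hk
  obtain ⟨k₁, hk₁, hgv⟩ := H.conj_v hg hgN
  obtain ⟨e, he, heb, hev⟩ := H.exists_adjust hgb (mul_mem (inv_mem hk₁) hk' : k₁⁻¹ * k' ∈ _)
  have heS := H.le he
  have hge : g * e ∈ normalizer (eGrp b v c : Set Ω) := mul_mem hgN (le_normalizer he)
  have hconjk : ∀ {k : Ω}, k ∈ zpowers (b * b) → g * k * g⁻¹ = k := fun hk => by
    rw [H.z_comm hg hk, mul_inv_cancel_right]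
  have : β = conjAut (eGrp b v c) hge := by
    refine ap_eq_of ?_ ?_ ?_
    · rw [ap_conjAut hge b_mem, show g * e * b * (g * e)⁻¹ = g * (e * b * e⁻¹) * g⁻¹ by group, heb,
        show g * (b * ((g * b * g⁻¹)⁻¹ * ap β b)) * g⁻¹ =
          g * b * g⁻¹ * (g * ((g * b * g⁻¹)⁻¹ * ap β b) * g⁻¹) by group, hconjk hgb]
      group
    · rw [ap_conjAut hge v_mem, show g * e * v * (g * e)⁻¹ = g * (e * v * e⁻¹) * g⁻¹ by group, hev,
        show g * (v * (k₁⁻¹ * k')) * g⁻¹ = g * v * g⁻¹ * (g * (k₁⁻¹ * k') * g⁻¹) by group,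
        hconjk (mul_mem (inv_mem hk₁) hk'), hgv, hβv]
      group
    · rw [hβ.1, ap_conjAut hge c_mem]
      exact ((H.norm _ (S.mul_mem hg heS) hge).1).symm
  rw [this]
  exact conjAut_mem_autInducedBy hge (S.mul_mem hg heS)

/-- Conjugations fix the class of `v`. -/
theorem fix_of_mem {β : MulAut (eGrp b v c)} (hβ : β ∈ Cfsg.autInducedBy S (eGrp b v c)) :
    β ∈ H.auto ∧ v⁻¹ * ap β v ∈ zpowers (b * b) := by
  obtain ⟨g, hg, hga⟩ := mem_autInducedBy.1 hβ
  have hgN := mem_normalizer_of_aut hga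
  have hβe : β = conjAut (eGrp b v c) hgN := MulEquiv.ext fun x => Subtype.ext (hga x)
  rw [hβe]
  refine ⟨H.conjAut_mem hg hgN, ?_⟩
  obtain ⟨k, hk, e⟩ := H.conj_v hg hgN
  rw [ap_conjAut hgN v_mem, e, inv_mul_cancel_left]
  exact hk

/-- An outer element moves the class of `b`. -/
theorem moves_b {g : Ω} (hg : g ∈ S) (hgN : g ∈ normalizer (eGrp b v c : Set Ω)) (hgE : g ∉ eGrp b v c) :
    ∃ k ∈ zpowers (b * b), g * b * g⁻¹ = v * b * k := by
  have hm := (H.norm g hg hgN).2.2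
  obtain ⟨k, hk, e⟩ := H.classes hm
  have hne : g * b * g⁻¹ ∉ zpowers (b * b) := by
    have := H.notZ (H.conjAut_mem hg hgN) b_memU H.b_notZ
    rwa [ap_conjAut hgN b_mem] at this
  rcases e with e | e | e | e
  · exact absurd (e ▸ hk) hne
  · exfalso
    obtain ⟨k', hk', e'⟩ := H.conj_v hg hgN
    have hkk : k'⁻¹ * k ∈ zpowers (b * b) := mul_mem (inv_mem hk') hk
    have h1 : g * b * g⁻¹ = g * (v * (k'⁻¹ * k)) * g⁻¹ := by
      rw [show g * (v * (k'⁻¹ * k)) * g⁻¹ = g * v * g⁻¹ * (g * (k'⁻¹ * k) * g⁻¹) by group, e',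
        H.z_comm hg hkk, mul_inv_cancel_right, e]
      group
    exact H.b_ne_v ((inv_mul_eq_iff_eq_mul.mpr (mul_left_cancel (mul_right_cancel h1))).symm ▸ hkk)
  · exfalso
    obtain ⟨e₁, he₁, heb, -⟩ := H.exists_adjust hk (one_mem _)
    have hec := H.cent (e₁⁻¹ * g) (S.mul_mem (S.inv_mem (H.le he₁)) hg) (by
      rw [mul_assoc, mul_inv_eq_iff_eq_mul.mp e, ← heb]
      group)
    have := mul_mem he₁ hec
    rw [mul_inv_cancel_left] at this
    exact hgE this
  · exact ⟨k, hk, e⟩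

/-- An automorphism carrying one outer conjugation to a conjugation is itself induced by conjugation. -/
theorem mem_of_normalize {β : MulAut (eGrp b v c)} (hβ : β ∈ H.auto) {t h : Ω} (ht : t ∈ S)
    (htN : t ∈ normalizer (eGrp b v c : Set Ω)) (htE : t ∉ eGrp b v c) (hh : h ∈ S)
    (he : ∀ x ∈ eGrp b v c, ap β (t * x * t⁻¹) = h * ap β x * h⁻¹) :
    β ∈ Cfsg.autInducedBy S (eGrp b v c) := by
  have hEE : ∀ x ∈ eGrp b v c, h * x * h⁻¹ ∈ eGrp b v c := by
    intro x hx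
    have := he _ (ap_mem β⁻¹ hx)
    rw [ap_ap_inv β hx] at this
    rw [← this]
    exact ap_mem β ((mem_normalizer_iff.mp htN _).mp (ap_mem β⁻¹ hx))
  haveI := finite_of_le H.le
  have hhN : h ∈ normalizer (eGrp b v c : Set Ω) := Subgroup.mem_normalizer_fintype fun x hx => hEE x hx
  obtain ⟨k, hk, ehv⟩ := H.conj_v hh hhN
  set w := ap β⁻¹ v with hw
  have hwU : w ∈ uGrp b v := (H.auto.inv_mem hβ).2 v v_memU
  have hwE := uGrp_le (c := c) hwU
  -- the class of `w` is fixed by `t`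
  have hfix : w⁻¹ * (t * w * t⁻¹) ∈ zpowers (b * b) := by
    have h1 : ap β (t * w * t⁻¹) = ap β (w * k) := by
      rw [he w hwE, H.map_classes hβ hwE hk, hw, ap_ap_inv β v_mem, ehv]
    rw [ap_inj β ((mem_normalizer_iff.mp htN _).mp hwE) (mul_mem hwE (uGrp_le (zpowers_le_u hk))) h1,
      inv_mul_cancel_left]
    exact hk
  obtain ⟨m, hm, etb⟩ := H.moves_b ht htN htE
  obtain ⟨k₁, hk₁, etv⟩ := H.conj_v ht htN
  have hconj : ∀ {p q r : Ω}, r ∈ zpowers (b * b) → t * p * t⁻¹ = q → t * (p * r) * t⁻¹ = q * r :=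
    fun {p q r} hr hp => by
      rw [show t * (p * r) * t⁻¹ = t * p * t⁻¹ * (t * r * t⁻¹) by group, hp, H.z_comm ht hr,
        mul_inv_cancel_right]
  obtain ⟨r, hr, e⟩ := H.classes hwU
  rcases e with e | e | e | e
  · exact absurd (show w ∈ zpowers (b * b) by rw [e]; exact hr) (H.notZ (H.auto.inv_mem hβ) v_memU H.v_notZ)
  · have hv : v⁻¹ * ap β v ∈ zpowers (b * b) := by
      have h1 : ap β w = ap β v * r := by rw [e, H.map_classes hβ v_mem hr]
      rw [hw, ap_ap_inv β v_mem] at h1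
      rw [show ap β v = v * r⁻¹ from eq_mul_inv_of_mul_eq h1.symm, inv_mul_cancel_left]
      exact inv_mem hr
    exact H.exists_conj_of_fix hβ hv
  · exfalso
    rw [e, hconj hr etb] at hfix
    have h3 := mul_mem (mul_mem (mul_mem hr hfix) (inv_mem hr)) (inv_mem hm)
    rw [show r * ((b * r)⁻¹ * (v * b * m * r)) * r⁻¹ * m⁻¹ = b⁻¹ * v * b by group] at h3
    refine H.v_notZ ?_
    have h4 : v = b * (b⁻¹ * v * b) * b⁻¹ := by group
    rw [h4, H.z_comm H.bS h3, mul_inv_cancel_right]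
    exact h3
  · exfalso
    have h2 : t * (v * b) * t⁻¹ = v * k₁ * (v * b * m) := by
      rw [show t * (v * b) * t⁻¹ = t * v * t⁻¹ * (t * b * t⁻¹) by group, etv, etb]
    rw [e, hconj hr h2, show v * k₁ * (v * b * m) * r = v * (k₁ * v) * b * m * r by group,
      ← H.z_comm H.vS hk₁, show v * (v * k₁) * b * m * r = v * v * (k₁ * b) * m * r by group, H.vv,
      ← H.z_comm H.bS hk₁, show b * b * (b * k₁) * m * r = b * b * b * (k₁ * m * r) by group,
      ← H.z_comm H.bS (mem_zpowers (b * b))] at hfix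
    have h3 := mul_mem (mul_mem hr hfix) (inv_mem (mul_mem (mul_mem hk₁ hm) hr))
    rw [show r * ((v * b * r)⁻¹ * (b * (b * b) * (k₁ * m * r))) * (k₁ * m * r)⁻¹ =
      b⁻¹ * v⁻¹ * b * (b * b) by group] at h3
    have h5 := mul_mem h3 (inv_mem (mem_zpowers (b * b)))
    rw [mul_inv_cancel_right] at h5
    refine H.v_notZ ?_
    have h6 := inv_mem h5
    rw [show (b⁻¹ * v⁻¹ * b)⁻¹ = b⁻¹ * v * b by group] at h6
    rw [show v = b * (b⁻¹ * v * b) * b⁻¹ by group, H.z_comm H.bS h6, mul_inv_cancel_right]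
    exact h6

/-- The automorphism of order three. -/
theorem exists_rot : ∃ α ∈ H.auto, ap α b = v ∧ ap α v = v * b := by
  classical
  set z := b * b
  have hv4 : v ^ 4 = 1 := by rw [pow_succ, pow_succ, pow_two, H.vv, mul_assoc, H.vv, H.z2]
  let pw : ZMod (2 * 2) → Ω := fun i => v ^ i.val
  have hpw : ∀ i j, pw (i + j) = pw i * pw j := by
    intro i j
    show v ^ (i + j).val = _
    rw [ZMod.val_add, ← pow_eq_pow_mod _ hv4, pow_add]
  have hbpw : ∀ i, pw i * b = b * pw (-i) := by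
    intro i
    have h0 : pw i * pw (-i) = 1 := by rw [← hpw, add_neg_cancel]; exact pow_zero v
    have h1 : b * pw (-i) * b⁻¹ = (pw (-i))⁻¹ := by
      show b * v ^ (-i).val * b⁻¹ = (v ^ (-i).val)⁻¹
      rw [← conj_pow, H.bvb, inv_pow]
    rw [inv_eq_of_mul_eq_one_left h0] at h1
    exact (mul_inv_eq_iff_eq_mul.mp h1).symm
  let f₀ : QuaternionGroup 2 → Ω := fun q =>
    match q with
    | .a i => pw i
    | .xa i => b * pw i
  let f : QuaternionGroup 2 →* Ω := MonoidHom.mk' f₀ (by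
    rintro (i | i) (j | j)
    · exact hpw i j
    · show b * pw (j - i) = pw i * (b * pw j)
      rw [← mul_assoc, hbpw, mul_assoc, ← hpw, neg_add_eq_sub]
    · show b * pw (i + j) = b * pw i * pw j
      rw [hpw, mul_assoc]
    · show pw (2 + j - i) = b * pw i * (b * pw j)
      rw [← mul_assoc, mul_assoc b (pw i) b, hbpw, ← mul_assoc b b, mul_assoc (b * b), ← hpw,
        show (2 : ZMod (2 * 2)) + j - i = 2 + (-i + j) by ring, hpw]
      show v ^ 2 * _ = _
      rw [pow_two, H.vv])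
  have hfa : ∀ i, f (.a i) = pw i := fun i => rfl
  have hfx : ∀ i, f (.xa i) = b * pw i := fun i => rfl
  have hpw1 : pw 1 = v := pow_one v
  have hpw0 : pw 0 = 1 := pow_zero v
  have hpwv : ∀ i, pw i ∈ zpowers v := fun i => pow_mem (mem_zpowers v) _
  have hrange : f.range = uGrp b v := by
    refine le_antisymm ?_ ((closure_le _).mpr ?_)
    · rintro _ ⟨q | q, rfl⟩
      · exact (zpowers_le.mpr v_memU) (hpwv q)
      · exact mul_mem b_memU ((zpowers_le.mpr v_memU) (hpwv q))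
    · rintro w (rfl | rfl)
      · exact ⟨.xa 0, by rw [hfx, hpw0, mul_one]⟩
      · exact ⟨.a 1, by rw [hfa, hpw1]⟩
  have hker : ∀ q, f q = 1 → quatTurn q = q := by
    rintro (i | i) hq
    · rw [hfa] at hq
      have hi : i = 0 ∨ i = 2 := by
        have : ∀ j : ZMod (2 * 2), j = 0 ∨ j = 1 ∨ j = 2 ∨ j = 3 := by decide
        rcases this i with rfl | rfl | rfl | rfl
        · exact Or.inl rfl
        · exact absurd (hpw1 ▸ hq) H.v1
        · exact Or.inr rfl
        · exfalso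
          have h3 : pw 3 * pw 1 = 1 := by
            rw [← hpw, show (3 : ZMod (2 * 2)) + 1 = 0 by decide, hpw0]
          rw [hq, one_mul, hpw1] at h3
          exact H.v1 h3
      rcases hi with rfl | rfl <;> decide
    · rw [hfx] at hq
      refine absurd ?_ H.bout
      rw [eq_inv_of_mul_eq_one_left hq]
      exact inv_mem (hpwv i)
  have hwell : ∀ p q, f p = f q → f (quatTurn p) = f (quatTurn q) := by
    intro p q e
    have h1 : f (q⁻¹ * p) = 1 := by rw [map_mul, map_inv, e, inv_mul_cancel]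
    calc f (quatTurn p) = f (quatTurn (q * (q⁻¹ * p))) := by rw [mul_inv_cancel_left]
      _ = f (quatTurn q) * f (q⁻¹ * p) := by rw [quatTurn_mul, map_mul, hker _ h1]
      _ = _ := by rw [h1, mul_one]
  have hsurj : ∀ w ∈ uGrp b v, ∃ q, f q = w := fun w hw => hrange.ge hw
  -- the action on the quaternion part
  obtain ⟨βU, hβU⟩ : ∃ βU : Ω → Ω, ∀ q, βU (f q) = f (quatTurn q) :=
    ⟨fun w => if hw : ∃ q, f q = w then f (quatTurn hw.choose) else w, fun q => by
      have hw : ∃ q', f q' = f q := ⟨q, rfl⟩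
      simp only [dif_pos hw]
      exact hwell _ _ hw.choose_spec⟩
  have hUmul : ∀ p ∈ uGrp b v, ∀ q ∈ uGrp b v, βU (p * q) = βU p * βU q := by
    intro p hp q hq
    obtain ⟨p', rfl⟩ := hsurj p hp
    obtain ⟨q', rfl⟩ := hsurj q hq
    rw [← map_mul, hβU, hβU, hβU, quatTurn_mul, map_mul]
  have hUmem : ∀ p ∈ uGrp b v, βU p ∈ uGrp b v := by
    intro p hp
    obtain ⟨p', rfl⟩ := hsurj p hp
    rw [hβU]
    exact hrange.le ⟨_, rfl⟩
  have hUz : ∀ k ∈ zpowers (b * b), βU k = k := by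
    intro k hk
    rcases H.memZ.mp hk with rfl | rfl
    · rw [← map_one f, hβU]; rfl
    · have e : b * b = f (.a 2) := by rw [hfa]; show b * b = v ^ 2; rw [pow_two, H.vv]
      rw [e, hβU]
      rfl
  have hUb : βU b = v := by
    have e : b = f (.xa 0) := by rw [hfx, hpw0, mul_one]
    rw [e, hβU]
    exact hpw1
  have hUv : βU v = v * b := by
    have e : v = f (.a 1) := by rw [hfa, hpw1]
    rw [e, hβU]
    show f (.xa 3) = f (.a 1) * b
    rw [hfa, hbpw, hfx]
    rfl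
  -- on the whole subgroup
  choose w hw q hwq using fun x : eGrp b v c => H.forms' x.2
  haveI := finite_of_le H.le
  have hindep : ∀ (x : eGrp b v c) (w' : Ω) (q' : ℤ), w' ∈ uGrp b v → (x : Ω) = w' * c ^ q' →
      βU (w x) * c ^ q x = βU w' * c ^ q' := by
    intro x w' q' hw' e
    have h1 : w'⁻¹ * w x = c ^ (q' - q x) := by
      rw [zpow_sub, eq_mul_inv_iff_mul_eq, mul_assoc, ← hwq x, e, inv_mul_cancel_left]
    have hk : w'⁻¹ * w x ∈ zpowers (b * b) :=
      h1 ▸ H.inter _ (h1 ▸ mul_mem (inv_mem hw') (hw x))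
    have h3 : βU (w x) = βU w' * (w'⁻¹ * w x) := by
      conv_lhs => rw [show w x = w' * (w'⁻¹ * w x) by group, hUmul _ hw' _ (zpowers_le_u hk), hUz _ hk]
    rw [h3, h1, zpow_sub]
    group
  let F₀ : eGrp b v c → eGrp b v c := fun x =>
    ⟨βU (w x) * c ^ q x, mul_mem (uGrp_le (hUmem _ (hw x))) (zpow_mem c_mem _)⟩
  let F : eGrp b v c →* eGrp b v c := MonoidHom.mk' F₀ fun x y => Subtype.ext (by
    show βU (w (x * y)) * c ^ q (x * y) = βU (w x) * c ^ q x * (βU (w y) * c ^ q y)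
    have hc1 : ∀ g ∈ uGrp b v, c ^ q x * g = g * c ^ q x := fun g hg =>
      ((show Commute c g from H.c_comm (uGrp_le hg)).zpow_left (q x)).eq
    rw [hindep (x * y) (w x * w y) (q x + q y) (mul_mem (hw x) (hw y)) (by
      rw [Subgroup.coe_mul, hwq x, hwq y, mul_assoc, ← mul_assoc (c ^ q x), hc1 _ (hw y), zpow_add]
      group), hUmul _ (hw x) _ (hw y), mul_assoc (βU (w x)) (c ^ q x), ← mul_assoc (c ^ q x),
      hc1 _ (hUmem _ (hw y)), zpow_add]
    group)
  have hFb : (F ⟨b, b_mem⟩ : Ω) = v := by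
    show βU (w ⟨b, b_mem⟩) * c ^ q ⟨b, b_mem⟩ = v
    rw [hindep ⟨b, b_mem⟩ b 0 b_memU (by rw [zpow_zero, mul_one]), hUb, zpow_zero, mul_one]
  have hFv : (F ⟨v, v_mem⟩ : Ω) = v * b := by
    show βU (w ⟨v, v_mem⟩) * c ^ q ⟨v, v_mem⟩ = v * b
    rw [hindep ⟨v, v_mem⟩ v 0 v_memU (by rw [zpow_zero, mul_one]), hUv, zpow_zero, mul_one]
  have hFc : (F ⟨c, c_mem⟩ : Ω) = c := by
    show βU (w ⟨c, c_mem⟩) * c ^ q ⟨c, c_mem⟩ = c
    rw [hindep ⟨c, c_mem⟩ 1 1 (one_mem _) (by rw [zpow_one, one_mul]), hUz 1 (one_mem _), zpow_one,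
      one_mul]
  have hFsurj : Function.Surjective F := by
    intro y
    have hsub : eGrp b v c ≤ F.range.map (eGrp b v c).subtype := (closure_le _).mpr (by
      have hb' : b ∈ F.range.map (eGrp b v c).subtype := by
        have h1 : v ∈ F.range.map (eGrp b v c).subtype := ⟨_, ⟨_, rfl⟩, hFb⟩
        have h3 : v * b ∈ F.range.map (eGrp b v c).subtype := ⟨_, ⟨_, rfl⟩, hFv⟩
        have := mul_mem (inv_mem h1) h3
        rwa [inv_mul_cancel_left] at this
      rintro g (rfl | rfl | rfl)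
      exacts [hb', ⟨_, ⟨_, rfl⟩, hFb⟩, ⟨_, ⟨_, rfl⟩, hFc⟩])
    obtain ⟨y', ⟨x, rfl⟩, hy⟩ := hsub y.2
    exact ⟨x, Subtype.ext hy⟩
  let α : MulAut (eGrp b v c) :=
    MulEquiv.ofBijective F ⟨Finite.injective_iff_surjective.mpr hFsurj, hFsurj⟩
  have hαap : ∀ (x : Ω) (hx : x ∈ eGrp b v c), ap α x = (F ⟨x, hx⟩ : Ω) := fun x hx => ap_of_mem α hx
  refine ⟨α, ⟨by rw [hαap c c_mem, hFc], fun u hu => ?_⟩, by rw [hαap b b_mem, hFb],
    by rw [hαap v v_mem, hFv]⟩
  rw [hαap u (uGrp_le hu)]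
  show βU (w ⟨u, uGrp_le hu⟩) * c ^ q ⟨u, uGrp_le hu⟩ ∈ uGrp b v
  rw [hindep ⟨u, uGrp_le hu⟩ u 0 hu (by rw [zpow_zero, mul_one]), zpow_zero, mul_one]
  exact hUmem u hu

end Seed

end Cfsg.Lib.Bicyclic
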