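import Cfsg.Agent.Lib.FusionSys.StronglyEmb
import Cfsg.Agent.Lib.FusionSys.Bicyclic.Lin3

/-!
# A group with a strongly 2-embedded subgroup acting faithfully on eight elements

Its Sylow 2-subgroups have order two, and an involution inverts an element of order three.
-/

set_option autoImplicit false
set_option linter.style.haveILetI false

namespace Cfsg.Lib.Bicyclic

open Cfsg Cfsg.Lib.FusionSys
open scoped Pointwise

variable {L : Type*} [Group L] [Finite L] {Y : Subgroup L}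

/-- An element moving a nontrivial 2-element of `Y` into `Y` lies in `Y`. -/
theorem mem_of_move (P : Sylow 2 L)
    (hY : ∀ Q : Subgroup L, Q ≤ (P : Subgroup L) → Q ≠ ⊥ → Subgroup.normalizer (Q : Set L) ≤ Y)
    {u g : L} {k : ℕ} (hk : u ^ 2 ^ k = 1) (hu1 : u ≠ 1) (hu : u ∈ Y) (hg : g * u * g⁻¹ ∈ Y) :
    g ∈ Y := by
  haveI : Fact (Nat.Prime 2) := ⟨Nat.prime_two⟩
  have hPY : (P : Subgroup L) ≤ Y := by
    by_cases hP : (P : Subgroup L) = ⊥
    · rw [hP]; exact bot_le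
    · exact Subgroup.le_normalizer.trans (hY _ le_rfl hP)
  set P₀ : Sylow 2 Y := P.subtype hPY with hP₀
  have key : ∀ w : L, w ∈ Y → w ^ 2 ^ k = 1 → ∃ y ∈ Y, y * w * y⁻¹ ∈ (P : Subgroup L) := by
    intro w hw hwk
    have hZ : IsPGroup 2 (Subgroup.zpowers (⟨w, hw⟩ : Y)) := by
      intro z
      obtain ⟨i, hi⟩ := Subgroup.mem_zpowers_iff.mp z.2
      refine ⟨k, Subtype.ext ?_⟩
      have h1 : (⟨w, hw⟩ : Y) ^ 2 ^ k = 1 := Subtype.ext hwk
      rw [Subgroup.coe_pow, ← hi, ← zpow_natCast, ← zpow_mul, mul_comm, zpow_mul, zpow_natCast, h1,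
        one_zpow]
      rfl
    obtain ⟨R, hR⟩ := hZ.exists_le_sylow
    obtain ⟨y, rfl⟩ := MulAction.exists_smul_eq Y P₀ R
    have hm := hR (Subgroup.mem_zpowers _)
    rw [Sylow.coe_subgroup_smul, Subgroup.mem_pointwise_smul_iff_inv_smul_mem] at hm
    refine ⟨(y : L)⁻¹, Y.inv_mem y.2, ?_⟩
    have h2 : ((MulAut.conj y)⁻¹ • (⟨w, hw⟩ : Y) : Y) ∈ (P : Subgroup L).subgroupOf Y := hm
    simpa [Subgroup.mem_subgroupOf] using h2
  obtain ⟨y₁, hy₁, h1⟩ := key u hu hk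
  obtain ⟨y₂, hy₂, h2⟩ := key _ hg (by rw [conj_pow, hk, mul_one, mul_inv_cancel])
  have hne : y₁ * u * y₁⁻¹ ≠ 1 := fun h => hu1 (conj_eq_one_iff.mp h)
  have h3 : y₂ * g * y₁⁻¹ ∈ Y := mem_of_conj_mem P hY h1 hne (by
    rw [show y₂ * g * y₁⁻¹ * (y₁ * u * y₁⁻¹) * (y₂ * g * y₁⁻¹)⁻¹ = y₂ * (g * u * g⁻¹) * y₂⁻¹ by
      group]
    exact h2)
  have h4 := Y.mul_mem (Y.mul_mem (Y.inv_mem hy₂) h3) hy₁
  rwa [show y₂⁻¹ * (y₂ * g * y₁⁻¹) * y₁ = g by group] at h4

omit [Finite L] in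
/-- A product of two involutions of order dividing four is centralized by an involution commuting
with both, unless it is trivial. -/
theorem exists_commuting {a j : L} (ha : a * a = 1) (ha1 : a ≠ 1) (hj : j * j = 1)
    (h4 : (a * j) ^ 4 = 1) :
    ∃ m, m ≠ 1 ∧ m * m = 1 ∧ m * a = a * m ∧ m * j = j * m := by
  have hai : a⁻¹ = a := inv_eq_of_mul_eq_one_left ha
  have hji : j⁻¹ = j := inv_eq_of_mul_eq_one_left hj
  by_cases h1 : a * j = 1
  · have hja : j = a := (eq_inv_of_mul_eq_one_right h1).trans hai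
    exact ⟨a, ha1, ha, rfl, by rw [hja]⟩
  set x := a * j with hx
  have hxi : x⁻¹ = j * a := by rw [hx, mul_inv_rev, hai, hji]
  by_cases h2 : x * x = 1
  · have hxx : x⁻¹ = x := inv_eq_of_mul_eq_one_left h2
    refine ⟨x, h1, h2, ?_, ?_⟩
    · calc x * a = a * x⁻¹ := by rw [hxi, hx, mul_assoc]
        _ = a * x := by rw [hxx]
    · calc x * j = a := by rw [hx, mul_assoc, hj, mul_one]
        _ = j * (j * a) := by rw [← mul_assoc, hj, one_mul]
        _ = j * x := by rw [← hxi, hxx]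
  · have h4' : (x * x) * (x * x) = 1 := by rw [← pow_two, ← pow_two, ← pow_mul]; exact h4
    have hxx : (x * x)⁻¹ = x * x := inv_eq_of_mul_eq_one_left h4'
    have hxx' : (j * a) * (j * a) = x * x := by rw [← hxx, mul_inv_rev, hxi]
    refine ⟨x * x, h2, h4', ?_, ?_⟩
    · calc x * x * a = a * ((j * a) * (j * a)) := by simp only [hx, mul_assoc]
        _ = a * (x * x) := by rw [hxx']
    · calc x * x * j = a * j * a := by simp only [hx, mul_assoc, hj, mul_one]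
        _ = j * ((j * a) * (j * a)) := by simp only [← mul_assoc, hj, one_mul]
        _ = j * (x * x) := by rw [hxx']

/-- The Sylow 2-subgroups of a group with a strongly 2-embedded subgroup that acts faithfully on an
elementary abelian group of order eight have order two, and some involution in each inverts an element
of order three. -/
theorem sylow_two_and_three {W : Type*} [Group W] [Finite W] (hexp : ∀ w : W, w * w = 1)
    (hcard : Nat.card W = 8) (ρ : L →* MulAut W) (hρ : Function.Injective ρ)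
    (hE : IsStronglyPEmbedded 2 Y) (T : Subgroup L) (hT : IsPGroup 2 T)
    (hTmax : ∃ R : Sylow 2 L, (R : Subgroup L) = T) :
    Nat.card T = 2 ∧ ∃ a ∈ T, ∃ β : L, β ^ 3 = 1 ∧ β ≠ 1 ∧ a * β * a⁻¹ = β⁻¹ := by
  haveI : Fact (Nat.Prime 2) := ⟨Nat.prime_two⟩
  obtain ⟨hdvd, hne, P, hP⟩ := hE
  obtain ⟨R, rfl⟩ := hTmax
  obtain ⟨g₀, rfl⟩ := MulAction.exists_smul_eq L P R
  set Z := MulAut.conj g₀ • Y with hZdef
  have hY : ∀ Q : Subgroup L, Q ≤ ((g₀ • P : Sylow 2 L) : Subgroup L) → Q ≠ ⊥ →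
      Subgroup.normalizer (Q : Set L) ≤ Z := kGeneratedCore_conj_le hP g₀
  obtain ⟨g, hg⟩ : ∃ g, g ∉ Z := by
    by_contra h
    push Not at h
    refine hne (eq_top_iff.mpr fun x _ => ?_)
    have h1 := h (g₀ * x * g₀⁻¹)
    rw [hZdef, Subgroup.mem_pointwise_smul_iff_inv_smul_mem] at h1
    simpa [mul_assoc] using h1
  set P' := (g₀ • P : Sylow 2 L) with hP'
  have hcard2 : 2 ∣ Nat.card (P' : Subgroup L) := P'.dvd_card_of_dvd_card hdvd
  have hPZ : (P' : Subgroup L) ≤ Z := Subgroup.le_normalizer.trans (hY _ le_rfl fun h => by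
    rw [h, Subgroup.card_bot] at hcard2
    omega)
  have hmov := fun {u g : L} {k : ℕ} (hk : u ^ 2 ^ k = 1) => mem_of_move P' hY (g := g) hk
  obtain ⟨hdih, hfour, hcyc⟩ := Lin3.facts hexp hcard
  obtain ⟨⟨a₀, ha₀P⟩, ha₀⟩ := exists_prime_orderOf_dvd_card' 2 hcard2
  rw [Subgroup.orderOf_mk] at ha₀
  have ha₀sq : a₀ * a₀ = 1 := by rw [← pow_two, ← ha₀, pow_orderOf_eq_one]
  have ha₀1 : a₀ ≠ 1 := fun h => by rw [h, orderOf_one] at ha₀; omega
  have hp2 : ∀ {m : L}, m * m = 1 → m ^ 2 ^ 1 = 1 := fun hm => by rw [pow_one, pow_two, hm]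
  set j := g * a₀ * g⁻¹ with hjdef
  have hj : j * j = 1 := by
    rw [hjdef, show g * a₀ * g⁻¹ * (g * a₀ * g⁻¹) = g * (a₀ * a₀) * g⁻¹ by group, ha₀sq, mul_one,
      mul_inv_cancel]
  have hj1 : j ≠ 1 := fun h => ha₀1 (conj_eq_one_iff.mp h)
  have hjZ : j ∉ Z := fun h => hg (hmov (hp2 ha₀sq) ha₀1 (hPZ ha₀P) h)
  have hr : ∀ x : L, ∀ n : ℕ, x ^ n = 1 ↔ ρ x ^ n = 1 := fun x n => by
    rw [← map_pow, map_eq_one_iff ρ hρ]
  have hr1 : ∀ x : L, x ≠ 1 → ρ x ≠ 1 := fun x hx h => hx ((map_eq_one_iff ρ hρ).mp h)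
  have hr2 : ∀ x : L, x * x = 1 → ρ x * ρ x = 1 := fun x hx => by rw [← map_mul, hx, map_one]
  -- involutions of the Sylow subgroup times `j` have order three
  have hodd : ∀ a ∈ (P' : Subgroup L), a * a = 1 → a ≠ 1 → (a * j) ^ 3 = 1 := by
    intro a haP ha ha1
    rcases hdih _ _ (hr2 a ha) (hr1 a ha1) (hr2 j hj) (hr1 j hj1) with h | h
    · rw [hr, map_mul]; exact h
    exfalso
    obtain ⟨m, hm1, hm, hma, hmj⟩ := exists_commuting ha ha1 hj (by rw [hr, map_mul]; exact h)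
    have hmZ : m ∈ Z := hmov (hp2 ha) ha1 (hPZ haP)
      (by rw [hma, mul_inv_cancel_right]; exact hPZ haP)
    exact hjZ (hmov (hp2 hm) hm1 hmZ (by rw [← hmj, mul_inv_cancel_right]; exact hmZ))
  -- no element of order four
  have hno4 : ∀ t ∈ (P' : Subgroup L), t ^ 4 = 1 → t * t = 1 := by
    intro t htP ht4
    by_contra ht2
    have haa : t * t * (t * t) = 1 := by rw [← pow_two, ← pow_two, ← pow_mul]; exact ht4
    have hodd' := hodd (t * t) (mul_mem htP htP) haa ht2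
    rw [hr, map_mul, map_mul] at hodd'
    obtain ⟨s', hs', h4⟩ := hcyc (ρ t) (ρ j) ((hr t 4).mp ht4) (by
      rw [← map_mul]; exact hr1 _ ht2) (hr2 j hj) (hr1 j hj1) hodd'
    obtain ⟨s, hsP, hs1, hsρ⟩ : ∃ s, s ∈ (P' : Subgroup L) ∧ s ≠ 1 ∧ ρ s = s' := by
      have ht1 : t ≠ 1 := fun h => ht2 (by rw [h, mul_one])
      rcases hs' with rfl | rfl | rfl
      · exact ⟨t, htP, ht1, rfl⟩
      · exact ⟨t * t, mul_mem htP htP, ht2, map_mul ρ t t⟩
      · refine ⟨t * (t * t), mul_mem htP (mul_mem htP htP), fun h => ht1 ?_,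
          by rw [map_mul, map_mul]⟩
        calc t = t ^ 4 * (t * (t * t))⁻¹ := by
              rw [pow_succ', pow_succ', pow_two, mul_inv_cancel_right]
          _ = 1 := by rw [ht4, h, inv_one, one_mul]
    have hk : (s * j * s⁻¹) * (s * j * s⁻¹) = 1 := by
      rw [show s * j * s⁻¹ * (s * j * s⁻¹) = s * (j * j) * s⁻¹ by group, hj, mul_one, mul_inv_cancel]
    obtain ⟨m, hm1, hm, hmj, hmk⟩ := exists_commuting hj hj1 hk (by
      rw [hr, map_mul ρ j, map_mul ρ (s * j), map_mul ρ s, map_inv, hsρ]; exact h4)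
    have hk1 : g⁻¹ * m * g ∈ Z := hmov (hp2 ha₀sq) ha₀1 (hPZ ha₀P) (by
      have e : g⁻¹ * m * g * a₀ * (g⁻¹ * m * g)⁻¹ = g⁻¹ * (m * j * m⁻¹) * g := by rw [hjdef]; group
      rw [e, hmj, mul_inv_cancel_right, hjdef,
        show g⁻¹ * (g * a₀ * g⁻¹) * g = a₀ by group]
      exact hPZ ha₀P)
    have hm' : g⁻¹ * m * g * (g⁻¹ * m * g) = 1 := by
      rw [show g⁻¹ * m * g * (g⁻¹ * m * g) = g⁻¹ * (m * m) * g by group, hm, mul_one, inv_mul_cancel]
    have hm'1 : g⁻¹ * m * g ≠ 1 := fun h => hm1 (by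
      rw [show m = g * (g⁻¹ * m * g) * g⁻¹ by group, h, mul_one, mul_inv_cancel])
    have hk2 : g⁻¹ * (s * j * s⁻¹) * g ∈ Z := hmov (hp2 hm') hm'1 hk1 (by
      rw [show g⁻¹ * (s * j * s⁻¹) * g * (g⁻¹ * m * g) * (g⁻¹ * (s * j * s⁻¹) * g)⁻¹ =
          g⁻¹ * ((s * j * s⁻¹) * m * (s * j * s⁻¹)⁻¹) * g by group, ← hmk, mul_inv_cancel_right]
      exact hk1)
    have hk3 : g⁻¹ * s * g ∈ Z := hmov (hp2 ha₀sq) ha₀1 (hPZ ha₀P) (by
      rw [show g⁻¹ * s * g * a₀ * (g⁻¹ * s * g)⁻¹ = g⁻¹ * (s * (g * a₀ * g⁻¹) * s⁻¹) * g by group,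
        ← hjdef]
      exact hk2)
    obtain ⟨k, hk'⟩ := P'.isPGroup' ⟨s, hsP⟩
    have hsk : s ^ 2 ^ k = 1 := congrArg Subtype.val hk'
    refine hg (hmov (u := g⁻¹ * s * g) (k := k) ?_ ?_ hk3 ?_)
    · rw [show g⁻¹ * s * g = g⁻¹ * s * (g⁻¹)⁻¹ by rw [inv_inv], conj_pow, hsk, mul_one, inv_inv,
        inv_mul_cancel]
    · exact fun h => hs1 (by rw [show s = g * (g⁻¹ * s * g) * g⁻¹ by group, h, mul_one, mul_inv_cancel])
    · rw [show g * (g⁻¹ * s * g) * g⁻¹ = s by group]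
      exact hPZ hsP
  have hsq : ∀ t ∈ (P' : Subgroup L), t * t = 1 := by
    intro t htP
    obtain ⟨k, hk⟩ := P'.isPGroup' ⟨t, htP⟩
    have hk' : t ^ 2 ^ k = 1 := congrArg Subtype.val hk
    clear hk
    induction k generalizing t with
    | zero => rw [pow_zero, pow_one] at hk'; rw [hk', mul_one]
    | succ k ih =>
      have h1 := ih (t * t) (mul_mem htP htP) (by rw [← pow_two, ← pow_mul, ← pow_succ']; exact hk')
      exact hno4 t htP (by rw [show 4 = 2 * 2 by norm_num, pow_mul, pow_two, pow_two]; exact h1)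
  refine ⟨?_, a₀, ha₀P, a₀ * j, hodd a₀ ha₀P ha₀sq ha₀1, fun h => hjZ ?_, ?_⟩
  · refine le_antisymm ?_ (Nat.le_of_dvd Nat.card_pos hcard2)
    have hall : ∀ b ∈ (P' : Subgroup L), b = 1 ∨ b = a₀ := by
      intro b hbP
      by_contra hb
      push Not at hb
      have hcomm : a₀ * b = b * a₀ := by
        have e := hsq _ (mul_mem ha₀P hbP)
        calc a₀ * b = (a₀ * b)⁻¹ := (inv_eq_of_mul_eq_one_left e).symm
          _ = b * a₀ := by
            rw [mul_inv_rev, inv_eq_of_mul_eq_one_left (hsq b hbP), inv_eq_of_mul_eq_one_left ha₀sq]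
      have hab : a₀ * b ≠ 1 := fun h => hb.2
        ((eq_inv_of_mul_eq_one_right h).trans (inv_eq_of_mul_eq_one_left ha₀sq))
      refine hfour (ρ a₀) (ρ b) (ρ j) (hr2 _ ha₀sq) (hr1 _ ha₀1) (hr2 _ (hsq b hbP))
        (hr1 _ hb.1) (by rw [← map_mul, ← map_mul, hcomm]) (fun e => hb.2 (hρ e).symm) (hr2 _ hj)
        (hr1 _ hj1) ⟨?_, ?_, ?_⟩
      · rw [← map_mul, ← hr]; exact hodd _ ha₀P ha₀sq ha₀1
      · rw [← map_mul, ← hr]; exact hodd _ hbP (hsq b hbP) hb.1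
      · rw [← map_mul, ← map_mul, ← hr]
        exact hodd _ (mul_mem ha₀P hbP) (hsq _ (mul_mem ha₀P hbP)) hab
    classical
    calc Nat.card (P' : Subgroup L) ≤ Nat.card Bool :=
          Nat.card_le_card_of_injective (fun b => decide ((b : L) = 1)) fun b c h => by
            simp only [decide_eq_decide] at h
            rcases hall b b.2 with hb | hb <;> rcases hall c c.2 with hc | hc
            · exact Subtype.ext (hb.trans hc.symm)
            · exact absurd ((hc ▸ h.mp hb)) ha₀1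
            · exact absurd ((hb ▸ h.mpr hc)) ha₀1
            · exact Subtype.ext (hb.trans hc.symm)
      _ = 2 := by simp
  · rw [(eq_inv_of_mul_eq_one_right h : j = a₀⁻¹)]
    exact Z.inv_mem (hPZ ha₀P)
  · rw [mul_inv_rev, inv_eq_of_mul_eq_one_left hj, inv_eq_of_mul_eq_one_left ha₀sq, ← mul_assoc,
      ha₀sq, one_mul]

end Cfsg.Lib.Bicyclic
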