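import Cfsg.Agent.Lib.FusionSys.Bicyclic.Kernel
import Cfsg.Agent.Lib.FusionSys.Bicyclic.Quot

/-!
# The commutator subgroup of an automorphism of order three inside a bicyclic 2-group

It is a four group, a quaternion group of order eight, or abelian with no involution outside its Frattini subgroup.
-/

set_option autoImplicit false
set_option linter.style.haveILetI false

namespace Cfsg.Lib.Bicyclic

open Subgroup
open scoped commutatorElement

universe u

variable {G : Type u} [Group G]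

theorem mem_zpowers_invol {z g : G} (hz : z * z = 1) : g ∈ zpowers z ↔ g = 1 ∨ g = z := by
  constructor
  · intro hg
    obtain ⟨i, rfl⟩ := mem_zpowers_iff.mp hg
    rcases Int.even_or_odd i with ⟨k, rfl⟩ | ⟨k, rfl⟩
    · exact Or.inl (by rw [← two_mul, zpow_mul, zpow_two, hz, one_zpow])
    · exact Or.inr (by rw [zpow_add, zpow_mul, zpow_two, hz, one_zpow, one_mul, zpow_one])
  · rintro (rfl | rfl)
    exacts [one_mem _, mem_zpowers _]

theorem comm_mul_left' (p q g : G) : ⁅p * q, g⁆ = p * ⁅q, g⁆ * p⁻¹ * ⁅p, g⁆ := by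
  simp only [commutatorElement_def]; group

theorem comm_mul_right' (g p q : G) : ⁅g, p * q⁆ = ⁅g, p⁆ * (p * ⁅g, q⁆ * p⁻¹) := by
  simp only [commutatorElement_def]; group

namespace Fr

variable {E : Subgroup G} {a : G → G} {σ : G} (F : Fr E a σ)
include F

theorem map_comm {g k : G} (hg : g ∈ E) (hk : k ∈ E) : a ⁅g, k⁆ = ⁅a g, a k⁆ := by
  rw [commutatorElement_def, commutatorElement_def,
    F.mul _ (E.mul_mem (E.mul_mem hg hk) (E.inv_mem hg)) _ (E.inv_mem hk),
    F.mul _ (E.mul_mem hg hk) _ (E.inv_mem hg), F.mul _ hg _ hk, F.map_inv hg, F.map_inv hk]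

theorem sqSub_map {v : G} (hv : v ∈ sqSub (comU E a)) : a v ∈ sqSub (comU E a) := by
  refine (map_mem_closure F.one F.mul ?_ (sqSub (comU E a)) ?_ hv).2
  · rintro w ⟨g, hg, rfl⟩
    exact E.mul_mem (F.comU_le hg) (F.comU_le hg)
  · rintro w ⟨g, hg, rfl⟩
    rw [F.mul _ (F.comU_le hg) _ (F.comU_le hg)]
    exact sq_mem_sqSub (F.comU_map hg)

variable [Finite G] {x y : G} (h : BC G x y)
include h

/-- Any element outside the squares generates together with its image. -/
theorem gen_U {v : G} (hv : v ∈ comU E a) (hvP : v ∉ sqSub (comU E a)) :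
    comU E a = closure ({v, a v} : Set G) := by
  set U := comU E a with hU
  set P := sqSub U with hP
  have hPU : P ≤ U := sqSub_le U
  have hcomm : ∀ p ∈ U, ∀ q ∈ U, ⁅p, q⁆ ∈ P := fun p hp q hq => comm_mem_sqSub hp hq
  set T := closure (({v, a v} : Set G) ∪ (P : Set G)) with hT
  have hgensU : ({v, a v} : Set G) ⊆ U := by
    rintro w (rfl | rfl)
    exacts [hv, F.comU_map hv]
  have hTU : T ≤ U := (closure_le _).mpr (Set.union_subset hgensU hPU)
  have hPT : P ≤ T := fun w hw => subset_closure (Or.inr hw)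
  have hvT : v ∈ T := subset_closure (Or.inl (by simp))
  have havT : a v ∈ T := subset_closure (Or.inl (by simp))
  have haavT : a (a v) ∈ T := by
    have := mul_mem (inv_mem (mul_mem hvT havT))
      (hPT (F.norm_mem h.two hPU hcomm (fun _ => F.sqSub_map) hv))
    rwa [inv_mul_cancel_left] at this
  have hTa : ∀ w ∈ T, a w ∈ T := fun w hw => by
    refine (map_mem_closure F.one F.mul (Set.union_subset (hgensU.trans F.comU_le)
      (fun p hp => F.comU_le (hPU hp))) T ?_ hw).2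
    rintro p ((rfl | rfl) | hp)
    · exact havT
    · exact haavT
    · exact hPT (F.sqSub_map hp)
  by_cases hTeq : U ≤ T
  · refine (eq_of_sup_sqSub h.two ((closure_le _).mpr hgensU) ?_).symm
    refine hTeq.trans ?_
    rw [hT, Subgroup.closure_union, closure_eq]
  exfalso
  obtain ⟨w, hwU, hwT⟩ := SetLike.not_le_iff_exists.mp hTeq
  have hTc : ∀ g ∈ U, ∀ k ∈ T, g * k * g⁻¹ ∈ T := fun g hg k hk => by
    rw [show g * k * g⁻¹ = ⁅g, k⁆ * k by rw [commutatorElement_def]; group]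
    exact mul_mem (hPT (hcomm g hg k (hTU hk))) hk
  have h1 : 3 ≤ P.relIndex T := three_le_relIndex hvT havT hvP
    (fun hm => hvP (by rw [← F.cube v (F.comU_le hv)]; exact F.sqSub_map (F.sqSub_map hm)))
    (fun hm => hvP (F.fixed_mem h.two hPU hcomm (fun _ => F.sqSub_map) hv hm))
  have h3 : 3 ≤ T.relIndex U := three_le_relIndex hwU (F.comU_map hwU) hwT
    (fun hm => hwT (by rw [← F.cube w (F.comU_le hwU)]; exact hTa _ (hTa _ hm)))
    (fun hm => hwT (F.fixed_mem h.two hTU (fun p hp q hq => hPT (hcomm p hp q hq)) hTa hwU hm))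
  obtain ⟨p, q, r, hpqr⟩ := h.three_gen U
  have h8 : P.relIndex U ≤ 8 := relIndex_le_eight hpqr.symm
    (fun g hg k hk => sqSub_conj (fun u hu => mul_mem (mul_mem hg hu) (inv_mem hg)) hk)
    (fun g hg => sq_mem_sqSub hg)
  rw [← relIndex_mul_relIndex P T U hPT hTU] at h8
  have := Nat.mul_le_mul h1 h3
  omega

theorem exists_out : ∃ v ∈ comU E a, v ∉ sqSub (comU E a) :=
  SetLike.exists_of_lt (lt_of_le_of_ne (sqSub_le _) (sqSub_ne h.two (F.comU_ne_bot h.two)))

omit F h [Finite G] in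
/-- The four group and the quaternion group of order eight, uniformly. -/
structure Small (E : Subgroup G) (a : G → G) (z : G) : Prop where
  mem : z ∈ comU E a
  two : z * z = 1
  fix : a z = z
  comm : ∀ g ∈ comU E a, g * z = z * g
  sq : ∀ g ∈ comU E a, g * g ∈ zpowers z
  der : ∀ p ∈ comU E a, ∀ q ∈ comU E a, ⁅p, q⁆ ∈ zpowers z
  nc : z ≠ 1 → ∀ g ∈ comU E a, g ∉ zpowers z → g * g = z ∧ g * a g ≠ a g * g

/-- The trichotomy. -/
theorem shape : (∃ z, Small E a z) ∨
    ((∀ p ∈ comU E a, ∀ q ∈ comU E a, p * q = q * p) ∧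
      ∀ v ∈ comU E a, v ∉ sqSub (comU E a) → v * v ≠ 1) := by
  set U := comU E a with hUdef
  obtain ⟨v, hvU, hvP⟩ := F.exists_out h
  set w := a v with hw
  have hwU : w ∈ U := F.comU_map hvU
  have hgen := F.gen_U h hvU hvP
  have hUconj : ∀ g ∈ U, ∀ k ∈ U, g * k * g⁻¹ ∈ U := fun g hg k hk => mul_mem (mul_mem hg hk) (inv_mem hg)
  by_cases hvw : v * w = w * v
  · have hab : ∀ p ∈ U, ∀ q ∈ U, p * q = q * p := fun p hp q hq => by
      refine commutatorElement_eq_one_iff_mul_comm.mp (mem_bot.mp (comm_mem_of_gen hgen bot_le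
        (fun g _ k hk => by simp [mem_bot.mp hk]) ?_ hp hq))
      rintro p (rfl | rfl) q (rfl | rfl) <;> rw [mem_bot, commutatorElement_eq_one_iff_mul_comm]
      exacts [hvw, hvw.symm]
    by_cases hinv : ∃ q ∈ U, q ∉ sqSub U ∧ q * q = 1
    · left
      obtain ⟨q, hqU, hqP, hq⟩ := hinv
      have haq : a q * a q = 1 := by rw [← F.mul _ (F.comU_le hqU) _ (F.comU_le hqU), hq, F.one]
      have hexp : ∀ g ∈ U, g * g = 1 := by
        intro g hg
        have hgen' := F.gen_U h hqU hqP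
        have : g ∈ closure ({q, a q} : Set G) := hgen' ▸ hg
        induction this using closure_induction with
        | mem p hp => rcases hp with rfl | rfl <;> assumption
        | one => rw [mul_one]
        | mul p r hp hr i1 i2 =>
          have hp' : p ∈ U := hUdef ▸ (F.gen_U h hqU hqP).symm ▸ hp
          have hr' : r ∈ U := hUdef ▸ (F.gen_U h hqU hqP).symm ▸ hr
          rw [← pow_two, (show Commute p r from hab p hp' r hr').mul_pow, pow_two, pow_two,
            i1 hp', i2 hr', one_mul]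
        | inv p hp i => rw [← mul_inv_rev, i (by simpa using inv_mem hg), inv_one]
      exact ⟨1, U.one_mem, mul_one 1, F.one, fun g _ => by rw [mul_one, one_mul],
        fun g hg => by rw [hexp g hg]; exact one_mem _,
        fun p hp r hr => by
          rw [commutatorElement_eq_one_iff_mul_comm.mpr (hab p hp r hr)]; exact one_mem _,
        fun hne => absurd rfl hne⟩
    · exact Or.inr ⟨hab, fun q hq hqP e => hinv ⟨q, hq, hqP, e⟩⟩
  left
  -- the nonabelian case
  set D := ⁅U, U⁆ with hDdef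
  have hDU : D ≤ U := Subgroup.commutator_le.mpr fun p hp q hq => by
    rw [commutatorElement_def]; exact mul_mem (mul_mem (mul_mem hp hq) (inv_mem hp)) (inv_mem hq)
  have hDP : D ≤ sqSub U := Subgroup.commutator_le.mpr fun p hp q hq => comm_mem_sqSub hp hq
  have hDconj : ∀ g ∈ U, ∀ k ∈ D, g * k * g⁻¹ ∈ D := fun g hg k hk => by
    rw [hDdef, Subgroup.commutator_def] at hk ⊢
    refine conj_closure ?_ hk
    rintro m ⟨p, hp, q, hq, rfl⟩
    exact subset_closure ⟨_, hUconj g hg p hp, _, hUconj g hg q hq, by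
      simp only [commutatorElement_def]; group⟩
  have hDa : ∀ k ∈ D, a k ∈ D := fun k hk => by
    rw [hDdef, Subgroup.commutator_def] at hk
    refine (map_mem_closure F.one F.mul ?_ D ?_ hk).2
    · rintro m ⟨p, hp, q, hq, rfl⟩
      exact F.comU_le (hDU (commutator_mem_commutator hp hq))
    · rintro m ⟨p, hp, q, hq, rfl⟩
      rw [F.map_comm (F.comU_le hp) (F.comU_le hq)]
      exact commutator_mem_commutator (F.comU_map hp) (F.comU_map hq)
  have hcD : ∀ p ∈ U, ∀ q ∈ U, ⁅p, q⁆ ∈ D := fun p hp q hq => commutator_mem_commutator hp hq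
  set K := sqc D U with hKdef
  have hKD : K ≤ D := sqc_le hDconj
  have hKsq : ∀ k ∈ D, k * k ∈ K := fun k hk => subset_closure (Or.inl ⟨k, hk, rfl⟩)
  have hKc : ∀ k ∈ D, ∀ g ∈ U, ⁅k, g⁆ ∈ K := fun k hk g hg =>
    subset_closure (Or.inr ⟨k, hk, g, hg, rfl⟩)
  have hKconj : ∀ g ∈ U, ∀ k ∈ K, g * k * g⁻¹ ∈ K := fun g hg k hk => sqc_conj (hDconj g hg) hg hk
  have hKconj' : ∀ g ∈ U, ∀ k ∈ K, g⁻¹ * k * g ∈ K := fun g hg k hk => by
    simpa using hKconj g⁻¹ (inv_mem hg) k hk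
  have hKa : ∀ k ∈ K, a k ∈ K := fun k hk => by
    refine (map_mem_closure F.one F.mul ?_ K ?_ hk).2
    · rintro m (⟨p, hp, rfl⟩ | ⟨p, hp, g, hg, rfl⟩)
      · exact F.comU_le (hDU (mul_mem hp hp))
      · exact F.comU_le (hDU (hcD p (hDU hp) g hg))
    · rintro m (⟨p, hp, rfl⟩ | ⟨p, hp, g, hg, rfl⟩)
      · rw [F.mul _ (F.comU_le (hDU hp)) _ (F.comU_le (hDU hp))]; exact hKsq _ (hDa p hp)
      · rw [F.map_comm (F.comU_le (hDU hp)) (F.comU_le hg)]
        exact hKc _ (hDa p hp) _ (F.comU_map hg)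
  set c₀ := ⁅v, w⁆ with hc₀
  have hc₀D : c₀ ∈ D := hcD v hvU w hwU
  have hc₀U : c₀ ∈ U := hDU hc₀D
  let T₁ : Subgroup G :=
    { carrier := {g | g ∈ K ∨ g * c₀ ∈ K}
      one_mem' := Or.inl (one_mem K)
      mul_mem' := fun {g k} hg hk => by
        rcases hg with hg | hg <;> rcases hk with hk | hk
        · exact Or.inl (mul_mem hg hk)
        · exact Or.inr (by rw [mul_assoc]; exact mul_mem hg hk)
        · refine Or.inr ?_
          rw [show g * k * c₀ = g * c₀ * (c₀⁻¹ * k * c₀) by group]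
          exact mul_mem hg (hKconj' c₀ hc₀U k hk)
        · refine Or.inl ?_
          rw [show g * k = g * c₀ * (c₀⁻¹ * (k * c₀) * c₀) * (c₀ * c₀)⁻¹ by group]
          exact mul_mem (mul_mem hg (hKconj' c₀ hc₀U _ hk)) (inv_mem (hKsq c₀ hc₀D))
      inv_mem' := fun {g} hg => by
        rcases hg with hg | hg
        · exact Or.inl (inv_mem hg)
        · refine Or.inr ?_
          rw [show g⁻¹ * c₀ = c₀ * (g * c₀)⁻¹ * c₀⁻¹ * (c₀ * c₀) by group]
          exact mul_mem (hKconj c₀ hc₀U _ (inv_mem hg)) (hKsq c₀ hc₀D) }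
  have hT₁D : T₁ ≤ D := by
    rintro g (hg | hg)
    · exact hKD hg
    · have := mul_mem (hKD hg) (inv_mem hc₀D)
      rwa [mul_inv_cancel_right] at this
  have hDT : D ≤ T₁ := by
    refine Subgroup.commutator_le.mpr fun p hp q hq =>
      comm_mem_of_gen hgen (hT₁D.trans hDU) (fun g hg k hk => ?_) ?_ hp hq
    · rw [show g * k * g⁻¹ = ⁅g, k⁆ * k by rw [commutatorElement_def]; group, ← commutatorElement_inv]
      exact mul_mem (Or.inl (inv_mem (hKc k (hT₁D hk) g hg))) hk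
    · rintro p (rfl | rfl) q (rfl | rfl)
      · rw [commutatorElement_self]; exact one_mem _
      · exact Or.inr (hKsq c₀ hc₀D)
      · rw [← commutatorElement_inv]; exact inv_mem (Or.inr (hKsq c₀ hc₀D) : c₀ ∈ T₁)
      · rw [commutatorElement_self]; exact one_mem _
  have hDne : D ≠ ⊥ := fun e => hvw (commutatorElement_eq_one_iff_mul_comm.mp (mem_bot.mp (e ▸ hc₀D)))
  have hc₀K : c₀ ∉ K := by
    intro hc
    refine hDne (eq_bot_of_le_sqc h.two hDU hDconj ?_)
    intro g hg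
    rcases hDT hg with hg | hg
    · exact hg
    · simpa using mul_mem hg (inv_mem hc)
  have hKne : ∀ q ∈ U, ⁅q, a q⁆ ∈ K → q ∈ sqSub U := by
    intro q hq hqK
    by_contra hqP
    refine hc₀K (comm_mem_of_gen (F.gen_U h hq hqP) (hKD.trans hDU) hKconj ?_ hvU hwU)
    rintro p (rfl | rfl) r (rfl | rfl)
    · rw [commutatorElement_self]; exact one_mem _
    · exact hqK
    · rw [← commutatorElement_inv]; exact inv_mem hqK
    · rw [commutatorElement_self]; exact one_mem _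
  have hac : a c₀ * c₀ ∈ K := by
    rcases hDT (hDa c₀ hc₀D) with hm | hm
    · exact absurd (by rw [← F.cube c₀ (F.comU_le hc₀U)]; exact hKa _ (hKa _ hm)) hc₀K
    · exact hm
  have hDfix : ∀ g ∈ D, g⁻¹ * a g ∈ K := by
    intro g hg
    rcases hDT hg with hm | hm
    · exact mul_mem (inv_mem hm) (hKa g hm)
    · have hgE := F.comU_le (hDU hg)
      have hcE := F.comU_le hc₀U
      rw [show g⁻¹ * a g = c₀ * ((g * c₀)⁻¹ * a (g * c₀)) * c₀⁻¹ * (c₀ * c₀ * (a c₀ * c₀)⁻¹) by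
        rw [F.mul _ hgE _ hcE]; group]
      exact mul_mem (hKconj c₀ hc₀U _ (mul_mem (inv_mem hm) (hKa _ hm)))
        (mul_mem (hKsq c₀ hc₀D) (inv_mem hac))
  have hPc : ∀ r ∈ U, ∀ g ∈ U, ⁅r * r, g⁆ ∈ K := fun r hr g hg => by
    rw [comm_mul_left', show r * ⁅r, g⁆ * r⁻¹ * ⁅r, g⁆ = ⁅⁅r, g⁆, r⁆⁻¹ * (⁅r, g⁆ * ⁅r, g⁆) by
      generalize ⁅r, g⁆ = c
      rw [commutatorElement_def]; group]
    exact mul_mem (inv_mem (hKc _ (hcD r hr g hg) r hr)) (hKsq _ (hcD r hr g hg))
  have hsqD : ∀ q ∈ U, q * q ∈ D := by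
    by_contra hcon
    push Not at hcon
    obtain ⟨q₀, hq₀, hq₀D⟩ := hcon
    obtain ⟨r, hrU, hrD, hrD2⟩ : ∃ r ∈ U, r * r ∉ D ∧ r * r * (r * r) ∈ D := by
      obtain ⟨k, hk⟩ := h.two q₀
      have : ∀ (k : ℕ) (q : G), q ∈ U → q * q ∉ D → q ^ 2 ^ k = 1 →
          ∃ r ∈ U, r * r ∉ D ∧ r * r * (r * r) ∈ D := by
        intro k
        induction k with
        | zero =>
          intro q _ hqD hq
          rw [pow_zero, pow_one] at hq
          exact absurd (by rw [hq, mul_one]; exact one_mem D) hqD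
        | succ k ih =>
          intro q hq hqD hqk
          by_cases hm : q * q * (q * q) ∈ D
          · exact ⟨q, hq, hqD, hm⟩
          · exact ih (q * q) (mul_mem hq hq) hm (by rw [← pow_two, ← pow_mul, ← pow_succ']; exact hqk)
      exact this k q₀ hq₀ hq₀D hk
    have hrE := F.comU_le hrU
    set p := r * r with hp
    have hpU : p ∈ U := mul_mem hrU hrU
    have hap : a p = a r * a r := F.mul _ hrE _ hrE
    set δ := p⁻¹ * a p with hδ
    have hδU : δ ∈ U := mul_mem (inv_mem hpU) (F.comU_map hpU)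
    have hδP : δ ∈ sqSub U := mul_mem (inv_mem (sq_mem_sqSub hrU)) (hap ▸ sq_mem_sqSub (F.comU_map hrU))
    have hδD : δ ∉ D := fun hm => hrD (F.fixed_mem h.two hDU hcD hDa hpU hm)
    have hpc : ∀ g ∈ U, ⁅p⁻¹, g⁆ ∈ K ∧ ⁅a p, g⁆ ∈ K := fun g hg => by
      refine ⟨?_, hap ▸ hPc _ (F.comU_map hrU) g hg⟩
      rw [hp, mul_inv_rev]; exact hPc _ (inv_mem hrU) g hg
    have hδc : ∀ g ∈ U, ⁅δ, g⁆ ∈ K := fun g hg => by
      rw [hδ, comm_mul_left']
      exact mul_mem (hKconj _ (inv_mem hpU) _ (hpc g hg).2) (hpc g hg).1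
    have hpE := F.comU_le hpU
    have hδ2 : δ * δ ∈ K := by
      have e : δ * δ = p⁻¹ * ⁅a p, p⁻¹⁆ * p * ((p * p)⁻¹ * a (p * p)) := by
        rw [F.mul _ hpE _ hpE, hδ, commutatorElement_def]; group
      rw [e]
      exact mul_mem (hKconj' p hpU _ (hpc p⁻¹ (inv_mem hpU)).2) (hDfix _ hrD2)
    set P := sqSub U with hP
    haveI : (K.subgroupOf P).Normal := ⟨fun m hm g => by
      rw [mem_subgroupOf] at hm ⊢
      exact hKconj g (sqSub_le U g.2) m hm⟩
    have hm := Cfsg.Lib.PGroup.Huppert.isMetacyclic_map (QuotientGroup.mk' (K.subgroupOf P))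
      (QuotientGroup.mk'_surjective _)
      (isMetacyclic_le h.frattini_metacyclic (sqSub_le_frattini h.two U))
    have e1 : ∀ s : P, (QuotientGroup.mk s : P ⧸ K.subgroupOf P) = 1 ↔ (s : G) ∈ K := fun s => by
      rw [QuotientGroup.eq_one_iff, mem_subgroupOf]
    have e2 : ∀ s t : P, (QuotientGroup.mk t : P ⧸ K.subgroupOf P) = QuotientGroup.mk s ↔
        (s : G)⁻¹ * t ∈ K := fun s t => by
      rw [eq_comm, QuotientGroup.eq, mem_subgroupOf]; rfl
    have e3 : ∀ s t : P, ⁅(s : G), (t : G)⁆ ∈ K →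
        (QuotientGroup.mk s : P ⧸ K.subgroupOf P) * QuotientGroup.mk t =
          QuotientGroup.mk t * QuotientGroup.mk s := fun s t hst => by
      rw [← commutatorElement_eq_one_iff_mul_comm, ← QuotientGroup.mk'_apply, ← QuotientGroup.mk'_apply,
        ← map_commutatorElement, QuotientGroup.mk'_apply, e1]
      exact hst
    let A : P := ⟨δ, hδP⟩
    let B : P := ⟨a δ, F.sqSub_map hδP⟩
    let C : P := ⟨c₀, hDP hc₀D⟩
    have hδE := F.comU_le hδU
    refine no_three hm (a := QuotientGroup.mk A) (b := QuotientGroup.mk B) (c := QuotientGroup.mk C)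
      ((e1 (A * A)).2 hδ2) ((e1 (B * B)).2 ?_) ((e1 (C * C)).2 (hKsq c₀ hc₀D))
      (e3 A B (hδc _ (F.comU_map hδU))) (e3 A C (hδc _ hc₀U))
      (e3 B C ?_) (fun he => hδD (hKD ((e1 A).1 he))) ?_ ?_ (fun he => hc₀K ((e1 C).1 he)) ?_ ?_ ?_
    · show a δ * a δ ∈ K
      rw [← F.mul _ hδE _ hδE]; exact hKa _ hδ2
    · show ⁅a δ, c₀⁆ ∈ K
      rw [← commutatorElement_inv]; exact inv_mem (hKc c₀ hc₀D _ (F.comU_map hδU))
    · intro he
      exact hδD (by rw [← F.cube δ hδE]; exact hKD (hKa _ (hKa _ ((e1 B).1 he))))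
    · exact fun he => hδD (F.fixed_mem h.two hDU hcD hDa hδU (hKD ((e2 A B).1 he)))
    · intro he
      have := mul_mem hc₀D (inv_mem (hKD ((e2 A C).1 he)))
      simp only [A, C, mul_inv_rev, inv_inv, mul_inv_cancel_left] at this
      exact hδD this
    · intro he
      have := mul_mem hc₀D (inv_mem (hKD ((e2 B C).1 he)))
      simp only [B, C, mul_inv_rev, inv_inv, mul_inv_cancel_left] at this
      exact hδD (by rw [← F.cube δ hδE]; exact hDa _ (hDa _ this))
    · intro he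
      have := mul_mem hc₀D (inv_mem (hKD ((e2 (A * B) C).1 he)))
      simp only [A, B, C, Subgroup.coe_mul] at this
      rw [mul_inv_rev, inv_inv, mul_inv_cancel_left] at this
      have h3 := mul_mem (inv_mem this) (F.norm_mem h.two hDU hcD hDa hδU)
      rw [inv_mul_cancel_left] at h3
      exact hδD (by rw [← F.cube δ hδE]; exact hDa _ h3)
  have hPD : sqSub U ≤ D := (closure_le _).mpr (by rintro m ⟨q, hq, rfl⟩; exact hsqD q hq)
  have hcls : ∀ q ∈ U, q ∉ D → q * q * c₀ ∈ K := by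
    intro q hq hqD
    rcases hDT (hsqD q hq) with hm | hm
    swap; · exact hm
    exfalso
    refine hqD (hPD (hKne q hq ?_))
    have hqE := F.comU_le hq
    have hn := F.norm_mem h.two hDU hcD hDa hq
    set n := q * a q * a (a q) with hn'
    have hmU := F.comU_map (F.comU_map hq)
    have hm2 : a (a q) * a (a q) ∈ K := by
      rw [← F.mul _ (F.mem _ hqE) _ (F.mem _ hqE), ← F.mul _ hqE _ hqE]
      exact hKa _ (hKa _ hm)
    have h4 : (q * a q) * (q * a q) ∈ K := by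
      rw [show q * a q * (q * a q) =
        n * n * ⁅n⁻¹, (a (a q))⁻¹⁆ * (a (a q) * a (a q))⁻¹ by
          rw [hn', commutatorElement_def]; group]
      exact mul_mem (mul_mem (hKsq n hn) (hKc _ (inv_mem hn) _ (inv_mem hmU))) (inv_mem hm2)
    rw [show ⁅q, a q⁆ = q * a q * (q * a q) * ((a q)⁻¹ * (q * q)⁻¹ * a q) * (a q * a q)⁻¹ by
      rw [commutatorElement_def]; group]
    refine mul_mem (mul_mem h4 (hKconj' _ (F.comU_map hq) _ (inv_mem hm))) (inv_mem ?_)
    rw [← F.mul _ hqE _ hqE]; exact hKa _ hm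
  have hvD : v ∉ D := fun hm => hvP (hDP hm)
  have hwD : w ∉ D := fun hm => hvD (by rw [← F.cube v (F.comU_le hvU)]; exact hDa _ (hDa _ hm))
  -- `K` is trivial
  have hKbot : K = ⊥ := by
    refine eq_bot_of_le_sqc h.two (hKD.trans hDU) hKconj ?_
    set L := sqc K U with hL
    have hLsq : ∀ k ∈ K, k * k ∈ L := fun k hk => subset_closure (Or.inl ⟨k, hk, rfl⟩)
    have hLc : ∀ k ∈ K, ∀ g ∈ U, ⁅k, g⁆ ∈ L := fun k hk g hg =>
      subset_closure (Or.inr ⟨k, hk, g, hg, rfl⟩)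
    have hLconj : ∀ g ∈ U, ∀ k ∈ L, g * k * g⁻¹ ∈ L := fun g hg k hk => sqc_conj (hKconj g hg) hg hk
    have hgens : ∀ q ∈ U, q ∉ D → ⁅c₀, q⁆ ∈ L := fun q hq hqD => by
      have e : c₀ = (q * q)⁻¹ * (q * q * c₀) := by group
      rw [e, comm_mul_left',
        show ⁅(q * q)⁻¹, q⁆ = 1 by rw [commutatorElement_def]; group, mul_one]
      exact hLconj _ (inv_mem (mul_mem hq hq)) _ (hLc _ (hcls q hq hqD) q hq)
    have hcent : ∀ g ∈ U, ⁅c₀, g⁆ ∈ L := fun g hg => by
      have hg' : g ∈ closure ({v, w} : Set G) := hgen ▸ hg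
      clear hg
      have : ⁅c₀, g⁆ ∈ L ∧ g ∈ U := by
        induction hg' using closure_induction with
        | mem p hp =>
          rcases hp with rfl | rfl
          exacts [⟨hgens _ hvU hvD, hvU⟩, ⟨hgens _ hwU hwD, hwU⟩]
        | one => exact ⟨by rw [commutatorElement_one_right]; exact one_mem _, one_mem _⟩
        | mul p q _ _ i1 i2 =>
          exact ⟨by rw [comm_mul_right']; exact mul_mem i1.1 (hLconj p i1.2 _ i2.1), mul_mem i1.2 i2.2⟩
        | inv p _ i =>
          refine ⟨?_, inv_mem i.2⟩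
          rw [show ⁅c₀, p⁻¹⁆ = p⁻¹ * ⁅c₀, p⁆⁻¹ * (p⁻¹)⁻¹ by simp only [commutatorElement_def]; group]
          exact hLconj _ (inv_mem i.2) _ (inv_mem i.1)
      exact this.1
    have hcinv : ∀ g ∈ U, ⁅c₀⁻¹, g⁆ ∈ L := fun g hg => by
      rw [show ⁅c₀⁻¹, g⁆ = c₀⁻¹ * ⁅c₀, g⁆⁻¹ * (c₀⁻¹)⁻¹ by simp only [commutatorElement_def]; group]
      exact hLconj _ (inv_mem hc₀U) _ (inv_mem (hcent g hg))
    have hc2 : c₀ * c₀ ∈ L := by
      have h5 : ⁅v * v, w⁆ ∈ L := by
        rw [show v * v = v * v * c₀ * c₀⁻¹ by group, comm_mul_left']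
        exact mul_mem (hLconj _ (mul_mem (mul_mem hvU hvU) hc₀U) _ (hcinv w hwU))
          (hLc _ (hcls v hvU hvD) w hwU)
      rw [show c₀ * c₀ = ⁅c₀, v⁆ * ⁅v * v, w⁆ by simp only [hc₀, commutatorElement_def]; group]
      exact mul_mem (hcent v hvU) h5
    refine (closure_le _).mpr ?_
    rintro m (⟨g, hg, rfl⟩ | ⟨g, hg, q, hq, rfl⟩) <;> rcases hDT hg with hm | hm
    · exact hLsq g hm
    · rw [SetLike.mem_coe, show g * g = g * c₀ * (g * c₀) * ⁅(g * c₀)⁻¹, c₀⁻¹⁆ * (c₀ * c₀)⁻¹ by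
        simp only [commutatorElement_def]; group]
      exact mul_mem (mul_mem (hLsq _ hm) (hLc _ (inv_mem hm) _ (inv_mem hc₀U))) (inv_mem hc2)
    · exact hLc g hm q hq
    · rw [SetLike.mem_coe, show g = g * c₀ * c₀⁻¹ by group, comm_mul_left']
      exact mul_mem (hLconj _ (hDU (mul_mem hg hc₀D)) _ (hcinv q hq)) (hLc _ hm q hq)
  have hK1 : ∀ {g : G}, g ∈ K → g = 1 := fun hg => mem_bot.mp (hKbot ▸ hg)
  have hc2 : c₀ * c₀ = 1 := hK1 (hKsq c₀ hc₀D)
  have hDz : ∀ g ∈ D, g ∈ zpowers c₀ := fun g hg => by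
    rcases hDT hg with hm | hm
    · rw [hK1 hm]; exact one_mem _
    · rw [eq_inv_of_mul_eq_one_left (hK1 hm)]; exact inv_mem (mem_zpowers _)
  refine ⟨c₀, hc₀U, hc2, ?_, fun g hg => ?_, fun g hg => hDz _ (hsqD g hg),
    fun p hp q hq => hDz _ (hcD p hp q hq), fun _ g hg hgz => ⟨?_, ?_⟩⟩
  · exact (eq_inv_of_mul_eq_one_left (hK1 hac)).trans (inv_eq_of_mul_eq_one_left hc2)
  · exact (commutatorElement_eq_one_iff_mul_comm.mp (hK1 (hKc c₀ hc₀D g hg))).symm
  · exact (eq_inv_of_mul_eq_one_left (hK1 (hcls g hg fun hm => hgz (hDz g hm)))).trans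
      (inv_eq_of_mul_eq_one_left hc2)
  · intro e
    refine hgz (hDz g (hPD (hKne g hg ?_)))
    rw [commutatorElement_eq_one_iff_mul_comm.mpr e]; exact one_mem _

end Fr

end Cfsg.Lib.Bicyclic
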