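import Cfsg.Agent.Lib.FusionSys.Bicyclic.Basic
import Mathlib.Algebra.Group.TypeTags.Hom
import Mathlib.Data.ZMod.Basic

/-!
# Nonmetacyclic 2-groups that are products of two cyclic groups

The derived subgroup is abelian; modulo its squares and its commutators with the group there is an involution outside
the Frattini subgroup; the Frattini subgroup and two of the maximal subgroups are metacyclic, the third is not; the
automorphism group is a 2-group.
-/

set_option autoImplicit false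
set_option linter.style.haveILetI false

namespace Cfsg.Lib.Bicyclic

open Subgroup
open scoped commutatorElement

universe u

variable {G : Type u} [Group G]

/-- Derived subgroups of products of two abelian groups are abelian: the cyclic case. -/
theorem ito {x y : G} (hrep : ∀ g : G, ∃ i j : ℤ, g = x ^ i * y ^ j) :
    ∀ a ∈ commutator G, ∀ b ∈ commutator G, a * b = b * a := by
  have hrev : ∀ g : G, ∃ i j : ℤ, g = y ^ j * x ^ i := fun g => by
    obtain ⟨i, j, h⟩ := hrep g⁻¹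
    exact ⟨-i, -j, by rw [zpow_neg, zpow_neg, ← mul_inv_rev, ← h, inv_inv]⟩
  set T : Set G := {u | ∃ i j : ℤ, u = ⁅x ^ i, y ^ j⁆} with hT
  have hx : ∀ i j k : ℤ, x ^ k * ⁅x ^ i, y ^ j⁆ * (x ^ k)⁻¹ = ⁅x ^ (k + i), y ^ j⁆ * ⁅x ^ k, y ^ j⁆⁻¹ :=
    fun i j k => by rw [zpow_add]; simp only [commutatorElement_def]; group
  have hy : ∀ i j k : ℤ, y ^ k * ⁅x ^ i, y ^ j⁆ * (y ^ k)⁻¹ = ⁅x ^ i, y ^ k⁆⁻¹ * ⁅x ^ i, y ^ (k + j)⁆ :=
    fun i j k => by rw [zpow_add]; simp only [commutatorElement_def]; group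
  have hcomm : ∀ u ∈ T, ∀ v ∈ T, u * v = v * u := by
    rintro u ⟨p, q, rfl⟩ v ⟨r, s, rfl⟩
    obtain ⟨p₁, q₁, h1⟩ := hrev (x ^ (-r) * y ^ q * (x ^ (-r))⁻¹)
    obtain ⟨p₂, q₂, h2⟩ := hrep (y ^ (-s) * x ^ p * (y ^ (-s))⁻¹)
    have k1 : ∀ k : ℤ, x ^ (-r) * ⁅x ^ k, y ^ q⁆ * (x ^ (-r))⁻¹ = ⁅x ^ k, y ^ q₁⁆ := fun k => by
      rw [← MulAut.conj_apply, map_commutatorElement, MulAut.conj_apply, MulAut.conj_apply, h1,
        (Commute.zpow_zpow (Commute.refl x) (-r) k).eq, mul_inv_cancel_right, commutatorElement_def,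
        commutatorElement_def, mul_inv_rev]
      rw [show x ^ k * (y ^ q₁ * x ^ p₁) * (x ^ k)⁻¹ * ((x ^ p₁)⁻¹ * (y ^ q₁)⁻¹) =
        x ^ k * y ^ q₁ * (x ^ p₁ * (x ^ k)⁻¹ * (x ^ p₁)⁻¹) * (y ^ q₁)⁻¹ by group,
        ((Commute.zpow_zpow (Commute.refl x) p₁ k).inv_right).eq, mul_inv_cancel_right]
    have k2 : ∀ k : ℤ, y ^ (-s) * ⁅x ^ p, y ^ k⁆ * (y ^ (-s))⁻¹ = ⁅x ^ p₂, y ^ k⁆ := fun k => by
      rw [← MulAut.conj_apply, map_commutatorElement, MulAut.conj_apply, MulAut.conj_apply, h2,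
        (Commute.zpow_zpow (Commute.refl y) (-s) k).eq, mul_inv_cancel_right, commutatorElement_def,
        commutatorElement_def, mul_inv_rev]
      rw [show x ^ p₂ * y ^ q₂ * y ^ k * ((y ^ q₂)⁻¹ * (x ^ p₂)⁻¹) * (y ^ k)⁻¹ =
        x ^ p₂ * (y ^ q₂ * y ^ k * (y ^ q₂)⁻¹) * (x ^ p₂)⁻¹ * (y ^ k)⁻¹ by group,
        (Commute.zpow_zpow (Commute.refl y) q₂ k).eq, mul_inv_cancel_right]
    have k3 : x ^ (-r) * y ^ (-s) * ⁅x ^ p, y ^ q⁆ * (x ^ (-r) * y ^ (-s))⁻¹ =
        y ^ (-s) * x ^ (-r) * ⁅x ^ p, y ^ q⁆ * (y ^ (-s) * x ^ (-r))⁻¹ := by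
      calc _ = x ^ (-r) * (y ^ (-s) * ⁅x ^ p, y ^ q⁆ * (y ^ (-s))⁻¹) * (x ^ (-r))⁻¹ := by group
        _ = ⁅x ^ p₂, y ^ q₁⁆ := by rw [k2, k1]
        _ = y ^ (-s) * (x ^ (-r) * ⁅x ^ p, y ^ q⁆ * (x ^ (-r))⁻¹) * (y ^ (-s))⁻¹ := by rw [k1, k2]
        _ = _ := by group
    have k4 : ⁅x ^ r, y ^ s⁆ = (y ^ (-s) * x ^ (-r))⁻¹ * (x ^ (-r) * y ^ (-s)) := by
      rw [commutatorElement_def]; group
    rw [k4]
    calc _ = (y ^ (-s) * x ^ (-r))⁻¹ * (y ^ (-s) * x ^ (-r) * ⁅x ^ p, y ^ q⁆ *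
          (y ^ (-s) * x ^ (-r))⁻¹) * (x ^ (-r) * y ^ (-s)) := by group
      _ = (y ^ (-s) * x ^ (-r))⁻¹ * (x ^ (-r) * y ^ (-s) * ⁅x ^ p, y ^ q⁆ *
          (x ^ (-r) * y ^ (-s))⁻¹) * (x ^ (-r) * y ^ (-s)) := by rw [k3]
      _ = _ := by group
  haveI : IsMulCommutative (closure T) := isMulCommutative_closure hcomm
  have hn : (closure T).Normal := by
    rw [← normalizer_eq_top_iff, eq_top_iff]
    intro g _
    have key : ∀ (w : G), (∀ u ∈ T, w * u * w⁻¹ ∈ closure T) → (∀ u ∈ T, w⁻¹ * u * w ∈ closure T) →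
        w ∈ normalizer ((closure T : Subgroup G) : Set G) := fun w h1 h2 => by
      rw [mem_normalizer_iff]
      refine fun v => ⟨fun hv => ?_, fun hv => ?_⟩
      · exact (closure_le ((closure T).comap (MulAut.conj w).toMonoidHom)).mpr h1 hv
      · have := (closure_le ((closure T).comap (MulAut.conj w⁻¹).toMonoidHom)).mpr
          (fun u hu => by simpa using h2 u hu) hv
        simpa [mul_assoc] using this
    obtain ⟨i, j, rfl⟩ := hrep g
    refine mul_mem (key _ ?_ ?_) (key _ ?_ ?_) <;> rintro u ⟨p, q, rfl⟩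
    · rw [hx]
      exact mul_mem (subset_closure ⟨_, _, rfl⟩) (inv_mem (subset_closure ⟨_, _, rfl⟩))
    · rw [show (x ^ i)⁻¹ * ⁅x ^ p, y ^ q⁆ * x ^ i = x ^ (-i) * ⁅x ^ p, y ^ q⁆ * (x ^ (-i))⁻¹ by
        rw [zpow_neg, inv_inv], hx]
      exact mul_mem (subset_closure ⟨_, _, rfl⟩) (inv_mem (subset_closure ⟨_, _, rfl⟩))
    · rw [hy]
      exact mul_mem (inv_mem (subset_closure ⟨_, _, rfl⟩)) (subset_closure ⟨_, _, rfl⟩)
    · rw [show (y ^ j)⁻¹ * ⁅x ^ p, y ^ q⁆ * y ^ j = y ^ (-j) * ⁅x ^ p, y ^ q⁆ * (y ^ (-j))⁻¹ by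
        rw [zpow_neg, inv_inv], hy]
      exact mul_mem (inv_mem (subset_closure ⟨_, _, rfl⟩)) (subset_closure ⟨_, _, rfl⟩)
  haveI := hn
  have hle : commutator G ≤ closure T := by
    set π := QuotientGroup.mk' (closure T)
    have hxy : Commute (π x) (π y) := by
      rw [commute_iff_eq, ← commutatorElement_eq_one_iff_mul_comm, ← map_commutatorElement]
      exact (QuotientGroup.eq_one_iff _).mpr (subset_closure ⟨1, 1, by simp⟩)
    rw [_root_.commutator_def, commutator_le]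
    intro g _ w _
    obtain ⟨i, j, rfl⟩ := hrep g
    obtain ⟨k, l, rfl⟩ := hrep w
    rw [← QuotientGroup.eq_one_iff, ← QuotientGroup.mk'_apply, map_commutatorElement,
      commutatorElement_eq_one_iff_mul_comm, map_mul, map_mul, map_zpow, map_zpow, map_zpow, map_zpow]
    exact (((Commute.refl (π x)).zpow_zpow i k).mul_right (hxy.zpow_zpow i l)).mul_left
      ((hxy.symm.zpow_zpow j k).mul_right ((Commute.refl (π y)).zpow_zpow j l))
  exact fun a ha b hb => congrArg Subtype.val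
    ((IsMulCommutative.is_comm (M := closure T)).comm ⟨a, hle ha⟩ ⟨b, hle hb⟩)

/-- A product of two cyclic groups that is a nonmetacyclic 2-group. -/
structure BC (G : Type u) [Group G] (x y : G) : Prop where
  two : IsPGroup 2 G
  rep : ∀ g : G, ∃ i j : ℤ, g = x ^ i * y ^ j
  nm : ¬ Cfsg.IsMetacyclic G

/-- An element with an odd power in a subgroup lies in it. -/
theorem mem_of_odd_zpow (h2 : IsPGroup 2 G) {g : G} {K : Subgroup G} {i : ℤ} (hi : Odd i)
    (h : g ^ i ∈ K) : g ∈ K := by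
  obtain ⟨e, he⟩ := h2 g
  obtain ⟨m, hm⟩ := hi
  have hco : IsCoprime i ((2 : ℤ) ^ e) := IsCoprime.pow_right ⟨1, -m, by rw [hm]; ring⟩
  obtain ⟨u, v, huv⟩ := hco
  have : g = (g ^ i) ^ u := by
    rw [← zpow_mul]
    conv_lhs => rw [← zpow_one g, ← huv]
    rw [zpow_add, show ((2 : ℤ) ^ e) = ((2 ^ e : ℕ) : ℤ) by push_cast; ring, mul_comm v,
      zpow_mul _ _ v, zpow_natCast, he, one_zpow, mul_one, mul_comm]
  rw [this]
  exact zpow_mem h u

theorem quot_two : ∀ u v : Multiplicative (ZMod 2 × ZMod 2), u ≠ 1 → u ≠ Multiplicative.ofAdd (1, 0) →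
    v ≠ 1 → v ≠ Multiplicative.ofAdd (1, 0) → u * v⁻¹ = 1 ∨ u * v⁻¹ = Multiplicative.ofAdd (1, 0) := by
  decide

theorem one_ne_xy : ¬ ((1 : Multiplicative (ZMod 2 × ZMod 2)) = Multiplicative.ofAdd (1, 0) ∨
    (1 : Multiplicative (ZMod 2 × ZMod 2)) = Multiplicative.ofAdd (0, 1)) := by
  decide

theorem three_ne_xy : ¬ (Multiplicative.ofAdd ((1, 1) : ZMod 2 × ZMod 2) = Multiplicative.ofAdd (1, 0) ∨
    Multiplicative.ofAdd ((1, 1) : ZMod 2 × ZMod 2) = Multiplicative.ofAdd (0, 1)) := by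
  decide

theorem x_ne_y : Multiplicative.ofAdd ((1, 0) : ZMod 2 × ZMod 2) ≠ Multiplicative.ofAdd (0, 1) := by
  decide

namespace BC

variable [Finite G] {x y : G} (h : BC G x y)
include h

omit [Finite G] in
theorem gen : closure ({x, y} : Set G) = ⊤ := by
  refine eq_top_iff.mpr fun g _ => ?_
  obtain ⟨i, j, rfl⟩ := h.rep g
  exact mul_mem (zpow_mem (subset_closure (by simp)) _) (zpow_mem (subset_closure (by simp)) _)

theorem not_finish {u w : G} (hgen : closure ({u, w} : Set G) = ⊤) (hw : w * u * w⁻¹ ∈ zpowers u) :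
    False := by
  exact h.nm (Cfsg.Lib.Fusion.RankTwo.finish hgen hw)

theorem not_gen_one (g : G) : zpowers g ≠ ⊤ := fun e => h.nm
  (Cfsg.Lib.Fusion.RankTwo.finish (y := g) (w := g)
    (eq_top_iff.mpr (e ▸ zpowers_le.mpr (subset_closure (by simp)))) (e ▸ mem_top _))

theorem x_not_mem : x ∉ zpowers y := fun hx => h.not_gen_one y (eq_top_iff.mpr (h.gen ▸
  (closure_le _).mpr (by rintro v (rfl | rfl); exacts [hx, mem_zpowers _])))

theorem y_not_mem : y ∉ zpowers x := fun hy => h.not_gen_one x (eq_top_iff.mpr (h.gen ▸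
  (closure_le _).mpr (by rintro v (rfl | rfl); exacts [mem_zpowers _, hy])))

theorem even_of_eq {i j k l : ℤ} (e : x ^ i * y ^ j = x ^ k * y ^ l) : Even (i - k) ∧ Even (j - l) := by
  have e' : x ^ (i - k) = y ^ (l - j) := by
    rw [zpow_sub, zpow_sub, ((Commute.refl x).zpow_zpow i k).inv_right.eq, eq_mul_inv_iff_mul_eq,
      mul_assoc, e, inv_mul_cancel_left]
  constructor <;> by_contra hodd <;> rw [Int.not_even_iff_odd] at hodd
  · exact h.x_not_mem (mem_of_odd_zpow h.two hodd (by rw [e']; exact zpow_mem (mem_zpowers y) _))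
  · refine h.y_not_mem (mem_of_odd_zpow h.two (i := l - j) ?_
      (by rw [← e']; exact zpow_mem (mem_zpowers x) _))
    rw [← neg_sub]; exact hodd.neg

omit h in
theorem sq_mem_frattini (h2 : IsPGroup 2 G) (g : G) : g * g ∈ frattini G := by
  haveI : Fact (Nat.Prime 2) := ⟨Nat.prime_two⟩
  rw [← pow_two]; exact Cfsg.Lib.PGroup.pow_mem_frattini h2 g

omit h in
theorem comm_mem_frattini (h2 : IsPGroup 2 G) (g w : G) : ⁅g, w⁆ ∈ frattini G := by
  haveI : Fact (Nat.Prime 2) := ⟨Nat.prime_two⟩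
  exact Cfsg.Lib.PGroup.commutator_le_frattini h2 (comm_mem_commutator g w)

theorem zpow_even_mem_frattini (g : G) {i : ℤ} (hi : Even i) : g ^ i ∈ frattini G := by
  obtain ⟨k, rfl⟩ := hi
  rw [zpow_add]; exact sq_mem_frattini h.two _

theorem even_of_mem_frattini {i j : ℤ} (hm : x ^ i * y ^ j ∈ frattini G) : Even i ∧ Even j := by
  have key : ∀ u v : G, closure ({u, v} : Set G) = ⊤ → u ∈ zpowers v ⊔ frattini G → False := by
    intro u v huv hu
    refine h.not_gen_one v (frattini_nongenerating (eq_top_iff.mpr (huv ▸ (closure_le _).mpr ?_)))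
    rintro w (rfl | rfl)
    exacts [hu, mem_sup_left (mem_zpowers _)]
  constructor <;> by_contra hodd <;> rw [Int.not_even_iff_odd] at hodd
  · refine key x y h.gen (mem_of_odd_zpow h.two hodd ?_)
    have := mul_mem (mem_sup_right hm : x ^ i * y ^ j ∈ zpowers y ⊔ frattini G)
      (mem_sup_left (inv_mem (zpow_mem (mem_zpowers y) j)))
    rwa [mul_inv_cancel_right] at this
  · refine key y x (by rw [Set.pair_comm]; exact h.gen) (mem_of_odd_zpow h.two hodd ?_)
    have := mul_mem (mem_sup_left (inv_mem (zpow_mem (mem_zpowers x) i)))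
      (mem_sup_right hm : x ^ i * y ^ j ∈ zpowers x ⊔ frattini G)
    rwa [inv_mul_cancel_left] at this

theorem cast_eq_of_even {i j : ℤ} (hd : Even (i - j)) : (i : ZMod 2) = (j : ZMod 2) := by
  obtain ⟨k, hk⟩ := hd
  rw [show i = j + 2 * k by omega]
  push_cast
  rw [show (2 : ZMod 2) = 0 from by decide, zero_mul, add_zero]

theorem parity_mul {p q r s m n : ℤ} (e : x ^ p * y ^ q * (x ^ r * y ^ s) = x ^ m * y ^ n) :
    (m : ZMod 2) = (p : ZMod 2) + r ∧ (n : ZMod 2) = (q : ZMod 2) + s := by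
  set π := QuotientGroup.mk' (frattini G) with hπ
  have hc : ∀ u v : G, Commute (π u) (π v) := fun u v => by
    rw [commute_iff_eq, ← commutatorElement_eq_one_iff_mul_comm, ← map_commutatorElement]
    exact (QuotientGroup.eq_one_iff _).mpr (comm_mem_frattini h.two u v)
  have e' : π (x ^ (p + r) * y ^ (q + s)) = π (x ^ m * y ^ n) := by
    rw [← e, zpow_add, zpow_add]
    simp only [map_mul, mul_assoc]
    rw [← mul_assoc (π (x ^ r)), (hc (x ^ r) (y ^ q)).eq, mul_assoc]
  have hm : x ^ (p + r - m) * y ^ (q + s - n) ∈ frattini G := by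
    rw [← QuotientGroup.eq_one_iff, ← QuotientGroup.mk'_apply, ← hπ,
      show x ^ (p + r - m) * y ^ (q + s - n) =
        (x ^ m)⁻¹ * (x ^ (p + r) * y ^ (q + s)) * (y ^ n)⁻¹ by group,
      map_mul, map_mul, e', map_mul, map_inv, map_inv, inv_mul_cancel_left, mul_inv_cancel]
  obtain ⟨e1, e2⟩ := h.even_of_mem_frattini hm
  constructor
  · rw [← h.cast_eq_of_even e1]; push_cast; rfl
  · rw [← h.cast_eq_of_even e2]; push_cast; rfl

/-- The parities of the two exponents of an element. -/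
noncomputable def par : G →* Multiplicative (ZMod 2 × ZMod 2) :=
  MonoidHom.mk'
    (fun g => Multiplicative.ofAdd
      (((h.rep g).choose : ℤ), ((h.rep g).choose_spec.choose : ℤ)))
    fun a b => by
      have ha := (h.rep a).choose_spec.choose_spec
      have hb := (h.rep b).choose_spec.choose_spec
      have hab := (h.rep (a * b)).choose_spec.choose_spec
      obtain ⟨e1, e2⟩ := h.parity_mul (e := (congrArg₂ (· * ·) ha hb).symm.trans hab)
      show Multiplicative.ofAdd _ = Multiplicative.ofAdd _ * Multiplicative.ofAdd _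
      rw [← ofAdd_add, Prod.mk_add_mk, e1, e2]

theorem par_rep (i j : ℤ) : h.par (x ^ i * y ^ j) = Multiplicative.ofAdd ((i : ZMod 2), (j : ZMod 2)) := by
  obtain ⟨e1, e2⟩ := h.even_of_eq (h.rep (x ^ i * y ^ j)).choose_spec.choose_spec
  show Multiplicative.ofAdd _ = _
  rw [h.cast_eq_of_even e1, h.cast_eq_of_even e2]

theorem par_x : h.par x = Multiplicative.ofAdd (1, 0) := by
  have := h.par_rep 1 0
  rwa [zpow_one, zpow_zero, mul_one, Int.cast_one, Int.cast_zero] at this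

theorem par_y : h.par y = Multiplicative.ofAdd (0, 1) := by
  have := h.par_rep 0 1
  rwa [zpow_one, zpow_zero, one_mul, Int.cast_one, Int.cast_zero] at this

theorem par_eq_one_iff {g : G} : h.par g = 1 ↔ g ∈ frattini G := by
  obtain ⟨i, j, rfl⟩ := h.rep g
  rw [h.par_rep, ← ofAdd_zero, Multiplicative.ofAdd.injective.eq_iff, Prod.mk_eq_zero]
  constructor
  · rintro ⟨hi, hj⟩
    exact mul_mem (h.zpow_even_mem_frattini x (ZMod.intCast_eq_zero_iff_even.mp hi))
      (h.zpow_even_mem_frattini y (ZMod.intCast_eq_zero_iff_even.mp hj))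
  · intro hm
    obtain ⟨hi, hj⟩ := h.even_of_mem_frattini hm
    exact ⟨ZMod.intCast_eq_zero_iff_even.mpr hi, ZMod.intCast_eq_zero_iff_even.mpr hj⟩

theorem par_sq (g : G) : h.par (g * g) = 1 := h.par_eq_one_iff.mpr (sq_mem_frattini h.two g)

theorem par_cases (g : G) : h.par g = 1 ∨ h.par g = Multiplicative.ofAdd (1, 0) ∨
    h.par g = Multiplicative.ofAdd (0, 1) ∨ h.par g = Multiplicative.ofAdd (1, 1) :=
  (by decide : ∀ v : Multiplicative (ZMod 2 × ZMod 2), v = 1 ∨ v = Multiplicative.ofAdd (1, 0) ∨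
    v = Multiplicative.ofAdd (0, 1) ∨ v = Multiplicative.ofAdd (1, 1)) _

/-- The maximal subgroup with a given parity. -/
noncomputable def maxSub (v : Multiplicative (ZMod 2 × ZMod 2)) : Subgroup G := (zpowers v).comap h.par

theorem mem_maxSub {v : Multiplicative (ZMod 2 × ZMod 2)} {g : G} :
    g ∈ h.maxSub v ↔ h.par g = 1 ∨ h.par g = v := by
  rw [maxSub, mem_comap, mem_zpowers_iff]
  have hv : v * v = 1 := (by decide : ∀ w : Multiplicative (ZMod 2 × ZMod 2), w * w = 1) v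
  constructor
  · rintro ⟨k, hk⟩
    rcases Int.even_or_odd k with ⟨l, rfl⟩ | ⟨l, rfl⟩
    · exact Or.inl (by rw [← hk, ← two_mul, zpow_mul, zpow_two, hv, one_zpow])
    · exact Or.inr (by rw [← hk, zpow_add, zpow_mul, zpow_two, hv, one_zpow, one_mul, zpow_one])
  · rintro (e | e)
    · exact ⟨0, by rw [zpow_zero, e]⟩
    · exact ⟨1, by rw [zpow_one, e]⟩

theorem frattini_le_maxSub (v : Multiplicative (ZMod 2 × ZMod 2)) : frattini G ≤ h.maxSub v :=
  fun _ hg => h.mem_maxSub.mpr (Or.inl (h.par_eq_one_iff.mpr hg))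

theorem quotient : BC (G ⧸ derSq G) (QuotientGroup.mk' (derSq G) x) (QuotientGroup.mk' (derSq G) y) where
  two := h.two.to_quotient _
  rep q := by
    obtain ⟨g, rfl⟩ := QuotientGroup.mk'_surjective _ q
    obtain ⟨i, j, rfl⟩ := h.rep g
    exact ⟨i, j, by rw [map_mul, map_zpow, map_zpow]⟩
  nm hm := h.nm (isMetacyclic_of_le_derSq _ G rfl h.two (derSq G) le_rfl hm)

omit [Finite G] h in
theorem quotient_derived : ∀ q ∈ commutator (G ⧸ derSq G), q ∈ center (G ⧸ derSq G) ∧ q * q = 1 := by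
  set π := QuotientGroup.mk' (derSq G) with hπ
  intro q hq
  have hmap : (commutator G).map π = commutator (G ⧸ derSq G) := by
    rw [_root_.commutator_def, _root_.commutator_def, map_commutator, map_top_of_surjective π
      (QuotientGroup.mk'_surjective _)]
  rw [← hmap] at hq
  obtain ⟨g, hg, rfl⟩ := hq
  refine ⟨mem_center_iff.mpr fun w => ?_, ?_⟩
  · obtain ⟨w, rfl⟩ := QuotientGroup.mk'_surjective _ w
    refine (commutatorElement_eq_one_iff_mul_comm.mp ?_).symm
    rw [← map_commutatorElement]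
    exact (QuotientGroup.eq_one_iff _).mpr (comm_mem_derSq hg w)
  · rw [← map_mul]
    exact (QuotientGroup.eq_one_iff _).mpr (mul_self_mem_derSq hg)

section Bar

variable (hd : ∀ g ∈ commutator G, g ∈ center G ∧ g * g = 1)
include hd

omit [Finite G] h in
theorem comm_mul_left (a b w : G) : ⁅a * b, w⁆ = ⁅a, w⁆ * ⁅b, w⁆ := by
  have hz := mem_center_iff.mp (hd _ (comm_mem_commutator b w)).1
  calc ⁅a * b, w⁆ = a * ⁅b, w⁆ * (w * a⁻¹ * w⁻¹) := by simp only [commutatorElement_def]; group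
    _ = ⁅b, w⁆ * ⁅a, w⁆ := by rw [hz a]; simp only [commutatorElement_def]; group
    _ = _ := (hz _).symm

omit [Finite G] h in
theorem comm_zpow_left (a w : G) (i : ℤ) : ⁅a ^ i, w⁆ = ⁅a, w⁆ ^ i :=
  map_zpow (MonoidHom.mk' (fun g => ⁅g, w⁆) fun u v => comm_mul_left hd u v w) a i

omit [Finite G] h in
theorem comm_zpow_right (a w : G) (j : ℤ) : ⁅a, w ^ j⁆ = ⁅a, w⁆ ^ j := by
  rw [← commutatorElement_inv, comm_zpow_left hd, ← commutatorElement_inv a w, inv_zpow, inv_inv]

theorem comm_ne_one : ⁅x, y⁆ ≠ 1 := fun e => h.not_finish (u := x) (w := y) h.gen (by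
  rw [(commutatorElement_eq_one_iff_mul_comm.mp e).symm, mul_inv_cancel_right]
  exact mem_zpowers x)

omit [Finite G] in
theorem comm_mem (g w : G) : ⁅g, w⁆ ∈ zpowers ⁅x, y⁆ := by
  obtain ⟨i, j, rfl⟩ := h.rep g
  obtain ⟨k, l, rfl⟩ := h.rep w
  have key : ∀ (u : G) (k l : ℤ), ⁅u, x ^ k * y ^ l⁆ = (⁅x, u⁆⁻¹) ^ k * (⁅y, u⁆⁻¹) ^ l := fun u k l => by
    have hz := mem_center_iff.mp (hd _ (comm_mem_commutator (x ^ k) u)).1
    rw [← commutatorElement_inv, comm_mul_left hd, mul_inv_rev, comm_zpow_left hd, comm_zpow_left hd,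
      inv_zpow, inv_zpow]
    rw [comm_zpow_left hd] at hz
    exact ((show Commute ((⁅y, u⁆ ^ l)⁻¹) (⁅x, u⁆ ^ k)⁻¹ from
      ((show Commute (⁅y, u⁆ ^ l) (⁅x, u⁆ ^ k) from hz _).inv_left).inv_right)).eq
  rw [comm_mul_left hd, comm_zpow_left hd, comm_zpow_left hd, key, key, commutatorElement_self,
    commutatorElement_self, inv_one, one_zpow, one_zpow, one_mul, mul_one, commutatorElement_inv,
    commutatorElement_inv]
  refine mul_mem (zpow_mem (zpow_mem (mem_zpowers _) _) _) (zpow_mem (zpow_mem ?_ _) _)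
  rw [← commutatorElement_inv x y]
  exact inv_mem (mem_zpowers _)

theorem c_not_mem_zpowers {u w : G} (hgen : closure ({u, w} : Set G) = ⊤) : ⁅x, y⁆ ∉ zpowers u :=
  fun hc => h.not_finish hgen (by
    rw [show w * u * w⁻¹ = ⁅w, u⁆ * u by rw [commutatorElement_def]; group]
    exact mul_mem (zpowers_le.mpr hc (h.comm_mem hd w u)) (mem_zpowers u))

omit [Finite G] h in
theorem c_sq : ⁅x, y⁆ * ⁅x, y⁆ = 1 := (hd _ (comm_mem_commutator x y)).2

omit [Finite G] h in
theorem c_zpow (i : ℤ) :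
    (Even i → ⁅x, y⁆ ^ i = 1) ∧ (Odd i → ⁅x, y⁆ ^ i = ⁅x, y⁆) := by
  constructor
  · rintro ⟨k, rfl⟩
    rw [← two_mul, zpow_mul, zpow_two, c_sq hd, one_zpow]
  · rintro ⟨k, rfl⟩
    rw [zpow_add, zpow_mul, zpow_two, c_sq hd, one_zpow, one_mul, zpow_one]

omit [Finite G] h in
theorem sq_central (g : G) : g * g ∈ center G := mem_center_iff.mpr fun w => by
  refine (commutatorElement_eq_one_iff_mul_comm.mp ?_).symm
  rw [comm_mul_left hd]
  exact (hd _ (comm_mem_commutator g w)).2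

omit [Finite G] h in
theorem rep_sq (i j : ℤ) :
    (x ^ i * y ^ j) * (x ^ i * y ^ j) = x ^ (2 * i) * y ^ (2 * j) * ⁅x, y⁆ ^ (i * j) := by
  have hz : ⁅y ^ j, x ^ i⁆ = ⁅x, y⁆ ^ (i * j) := by
    rw [comm_zpow_left hd, comm_zpow_right hd, ← commutatorElement_inv,
      inv_eq_of_mul_eq_one_left (c_sq hd), ← zpow_mul]
  rw [← hz, two_mul, two_mul, zpow_add, zpow_add]
  have hc := mem_center_iff.mp (hd _ (comm_mem_commutator (y ^ j) (x ^ i))).1
  calc x ^ i * y ^ j * (x ^ i * y ^ j) = x ^ i * (⁅y ^ j, x ^ i⁆ * (x ^ i * y ^ j)) * y ^ j := by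
        simp only [commutatorElement_def]; group
    _ = x ^ i * ((x ^ i * y ^ j) * ⁅y ^ j, x ^ i⁆) * y ^ j := by rw [hc]
    _ = x ^ i * x ^ i * y ^ j * (⁅y ^ j, x ^ i⁆ * y ^ j) := by group
    _ = _ := by rw [← hc]; group

theorem exists_c_rep : ∃ i j : ℤ, ⁅x, y⁆ = x ^ (2 * i) * y ^ (2 * j) := by
  obtain ⟨i, j, hij⟩ := h.rep ⁅x, y⁆
  obtain ⟨⟨a, ha⟩, ⟨b, hb⟩⟩ := h.even_of_mem_frattini (hij ▸ comm_mem_frattini h.two x y)
  exact ⟨a, b, by rw [hij, ha, hb, two_mul, two_mul]⟩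

theorem c_rep_odd {i j : ℤ} (hc : ⁅x, y⁆ = x ^ (2 * i) * y ^ (2 * j)) : Odd i ∧ Odd j := by
  obtain ⟨e, he⟩ := IsPGroup.iff_card.mp h.two
  have hexp : ∀ g : G, g ^ 2 ^ e = 1 := fun g => by rw [← he]; exact pow_card_eq_one'
  -- the power of a smaller element can only have exponent zero
  have key : ∀ (d t : ℕ) (i j : ℤ), e ≤ t + d → 1 ≤ t →
      ⁅x, y⁆ = (x ^ (2 * i) * y ^ (2 * j)) ^ 2 ^ t → False := by
    intro d
    induction d with
    | zero =>
      intro t i j hle _ hc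
      obtain ⟨s, rfl⟩ : ∃ s, t = e + s := ⟨t - e, by omega⟩
      exact h.comm_ne_one hd (by rw [hc, pow_add, pow_mul, hexp, one_pow])
    | succ d ih =>
      intro t i j hle ht hc
      by_cases hev : Even i ∧ Even j
      · obtain ⟨⟨a, rfl⟩, ⟨b, rfl⟩⟩ := hev
        refine ih (t + 1) a b (by omega) (by omega) (hc.trans ?_)
        have e1 : x ^ (2 * (a + a)) * y ^ (2 * (b + b)) =
            (x ^ (2 * a) * y ^ (2 * b)) ^ 2 := by
          rw [pow_two, rep_sq hd, show a + a = 2 * a by ring, show b + b = 2 * b by ring,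
            (c_zpow hd _).1 ⟨2 * a * b, by ring⟩, mul_one]
        rw [e1, ← pow_mul, ← pow_succ']
      · have hpow : ⁅x, y⁆ ∈ zpowers (x ^ i * y ^ j) := by
          refine ⟨((2 * 2 ^ t : ℕ) : ℤ), ?_⟩
          show (x ^ i * y ^ j) ^ ((2 * 2 ^ t : ℕ) : ℤ) = _
          rw [zpow_natCast, pow_mul, pow_two, rep_sq hd,
            ((show Commute (x ^ (2 * i) * y ^ (2 * j)) (⁅x, y⁆ ^ (i * j)) from
              (show Commute (x ^ (2 * i) * y ^ (2 * j)) ⁅x, y⁆ from
                mem_center_iff.mp (hd _ (comm_mem_commutator x y)).1 _).zpow_right _)).mul_pow,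
            ← hc, ← zpow_natCast (⁅x, y⁆ ^ (i * j)), ← zpow_mul,
            (c_zpow hd _).1 ((Int.even_coe_nat _).mpr (Nat.even_pow.mpr ⟨even_two, by omega⟩)
              |>.mul_left _), mul_one]
        rw [not_and_or, Int.not_even_iff_odd, Int.not_even_iff_odd] at hev
        rcases hev with hi | hj
        · refine h.c_not_mem_zpowers hd (w := y) ?_ hpow
          refine eq_top_iff.mpr (h.gen ▸ (closure_le _).mpr ?_)
          rintro v (rfl | rfl)
          · refine mem_of_odd_zpow h.two hi ?_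
            have := mul_mem (subset_closure (by simp : v ^ i * y ^ j ∈ ({v ^ i * y ^ j, y} : Set G)))
              (inv_mem (zpow_mem (subset_closure (by simp : y ∈ ({v ^ i * y ^ j, y} : Set G))) j))
            rwa [mul_inv_cancel_right] at this
          · exact subset_closure (by simp)
        · refine h.c_not_mem_zpowers hd (w := x) ?_ hpow
          refine eq_top_iff.mpr (h.gen ▸ (closure_le _).mpr ?_)
          rintro v (rfl | rfl)
          · exact subset_closure (by simp)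
          · refine mem_of_odd_zpow h.two hj ?_
            have := mul_mem
              (inv_mem (zpow_mem (subset_closure (by simp : x ∈ ({x ^ i * v ^ j, x} : Set G))) i))
              (subset_closure (by simp : x ^ i * v ^ j ∈ ({x ^ i * v ^ j, x} : Set G)))
            rwa [inv_mul_cancel_left] at this
  rcases Int.even_or_odd i with ⟨a, rfl⟩ | hi <;> rcases Int.even_or_odd j with ⟨b, rfl⟩ | hj
  · exfalso
    refine key e 1 a b (by omega) le_rfl ?_
    rw [hc, pow_one, pow_two, rep_sq hd, (c_zpow hd _).1 ⟨2 * a * b, by ring⟩, mul_one]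
    ring_nf
  · exfalso
    refine h.c_not_mem_zpowers hd (u := x ^ (a + a) * y ^ j) (w := x) ?_
      ⟨2, ?_⟩
    · refine eq_top_iff.mpr (h.gen ▸ (closure_le _).mpr ?_)
      rintro v (rfl | rfl)
      · exact subset_closure (by simp)
      · refine mem_of_odd_zpow h.two hj ?_
        have := mul_mem
          (inv_mem (zpow_mem (subset_closure (by simp : x ∈ ({x ^ (a + a) * v ^ j, x} : Set G))) (a + a)))
          (subset_closure (by simp : x ^ (a + a) * v ^ j ∈ ({x ^ (a + a) * v ^ j, x} : Set G)))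
        rwa [inv_mul_cancel_left] at this
    · show (x ^ (a + a) * y ^ j) ^ (2 : ℤ) = _
      rw [zpow_two, rep_sq hd, (c_zpow hd _).1 ⟨a * j, by ring⟩, mul_one, ← hc]
  · exfalso
    refine h.c_not_mem_zpowers hd (u := x ^ i * y ^ (b + b)) (w := y) ?_ ⟨2, ?_⟩
    · refine eq_top_iff.mpr (h.gen ▸ (closure_le _).mpr ?_)
      rintro v (rfl | rfl)
      · refine mem_of_odd_zpow h.two hi ?_
        have := mul_mem (subset_closure (by simp : v ^ i * y ^ (b + b) ∈ ({v ^ i * y ^ (b + b), y} : Set G)))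
          (inv_mem (zpow_mem (subset_closure (by simp : y ∈ ({v ^ i * y ^ (b + b), y} : Set G))) (b + b)))
        rwa [mul_inv_cancel_right] at this
      · exact subset_closure (by simp)
    · show (x ^ i * y ^ (b + b)) ^ (2 : ℤ) = _
      rw [zpow_two, rep_sq hd, (c_zpow hd _).1 ⟨i * b, by ring⟩, mul_one, ← hc]
  · exact ⟨hi, hj⟩

/-- An involution outside the Frattini subgroup not commuting with the second generator. -/
theorem exists_invol : ∃ i j : ℤ, Odd i ∧ Odd j ∧ (x ^ i * y ^ j) * (x ^ i * y ^ j) = 1 := by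
  obtain ⟨i, j, hc⟩ := h.exists_c_rep hd
  obtain ⟨hi, hj⟩ := h.c_rep_odd hd hc
  exact ⟨i, j, hi, hj, by rw [rep_sq hd, (c_zpow hd _).2 (hi.mul hj), ← hc, c_sq hd]⟩

theorem y_sq_ne : y * y ≠ 1 := fun e => by
  obtain ⟨i, j, hc⟩ := h.exists_c_rep hd
  refine h.c_not_mem_zpowers hd (u := x) (w := y) h.gen ?_
  rw [hc, zpow_mul y, zpow_two, e, one_zpow, mul_one]
  exact zpow_mem (mem_zpowers x) _

theorem x_invol_false {i j : ℤ} (hi : Odd i) (hj : Even j)
    (e : (x ^ i * y ^ j) * (x ^ i * y ^ j) = 1) : False := by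
  obtain ⟨a, b, hc⟩ := h.exists_c_rep hd
  rw [rep_sq hd, (c_zpow hd _).1 (hj.mul_left i), mul_one] at e
  refine h.c_not_mem_zpowers hd (u := y) (w := x) (by rw [Set.pair_comm]; exact h.gen) ?_
  rw [hc, zpow_mul, zpow_two]
  refine mul_mem (zpow_mem (mem_of_odd_zpow h.two hi ?_) a) (zpow_mem (mem_zpowers y) _)
  rw [← zpow_two, ← zpow_mul, eq_inv_of_mul_eq_one_left e]
  exact inv_mem (zpow_mem (mem_zpowers y) _)

theorem y_invol_false {i j : ℤ} (hi : Even i) (hj : Odd j)
    (e : (x ^ i * y ^ j) * (x ^ i * y ^ j) = 1) : False := by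
  obtain ⟨a, b, hc⟩ := h.exists_c_rep hd
  rw [rep_sq hd, (c_zpow hd _).1 (hi.mul_right j), mul_one] at e
  refine h.c_not_mem_zpowers hd (u := x) (w := y) h.gen ?_
  rw [hc, zpow_mul y, zpow_two]
  refine mul_mem (zpow_mem (mem_zpowers x) _) (zpow_mem (mem_of_odd_zpow h.two hj ?_) b)
  rw [← zpow_two, ← zpow_mul, eq_inv_of_mul_eq_one_right e]
  exact inv_mem (zpow_mem (mem_zpowers x) _)

omit [Finite G] in
theorem comm_h {i j : ℤ} (hi : Odd i) : ⁅x ^ i * y ^ j, y⁆ = ⁅x, y⁆ := by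
  rw [comm_mul_left hd, comm_zpow_left hd, comm_zpow_left hd, commutatorElement_self, one_zpow,
    mul_one, (c_zpow hd _).2 hi]

/-- Independence in the normal form `h^e c^f y^k`. -/
theorem indep {i j : ℤ} (hi : Odd i) (hj : Odd j) (hh : (x ^ i * y ^ j) * (x ^ i * y ^ j) = 1)
    {e f k : ℤ} (he : (x ^ i * y ^ j) ^ e * ⁅x, y⁆ ^ f * y ^ k = 1) :
    Even e ∧ Even f ∧ y ^ k = 1 := by
  have hp := congrArg h.par he
  rw [map_mul, map_mul, map_zpow, map_zpow, map_zpow, h.par_rep,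
    h.par_eq_one_iff.mpr (comm_mem_frattini h.two x y), one_zpow, mul_one, map_one, h.par_y] at hp
  have h1 := congrArg (fun v => (Multiplicative.toAdd v).1) hp
  simp only [toAdd_mul, toAdd_zpow, toAdd_ofAdd, Prod.fst_add, Prod.smul_fst, smul_zero, add_zero,
    toAdd_one, Prod.fst_zero, zsmul_eq_mul, Prod.fst_mul, Prod.fst_intCast, mul_zero] at h1
  rw [← Int.cast_mul, ZMod.intCast_eq_zero_iff_even, Int.even_mul] at h1
  have hev : Even e := h1.resolve_right (Int.not_even_iff_odd.mpr hi)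
  have he' : (x ^ i * y ^ j) ^ e = 1 := by
    obtain ⟨l, rfl⟩ := hev
    rw [← two_mul, zpow_mul, zpow_two, hh, one_zpow]
  rw [he', one_mul] at he
  rcases Int.even_or_odd f with hf | hf
  · rw [(c_zpow hd _).1 hf, one_mul] at he
    exact ⟨hev, hf, he⟩
  · exfalso
    rw [(c_zpow hd _).2 hf] at he
    refine h.c_not_mem_zpowers hd (u := y) (w := x) (by rw [Set.pair_comm]; exact h.gen) ?_
    rw [eq_inv_of_mul_eq_one_left he]
    exact inv_mem (zpow_mem (mem_zpowers y) k)

end Bar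

/-- An element of odd parities squaring into the squares and commutators of the derived subgroup. -/
theorem exists_odd_invol : ∃ i j : ℤ, Odd i ∧ Odd j ∧ (x ^ i * y ^ j) * (x ^ i * y ^ j) ∈ derSq G := by
  obtain ⟨i, j, hi, hj, e⟩ := h.quotient.exists_invol quotient_derived
  exact ⟨i, j, hi, hj, (QuotientGroup.eq_one_iff _).mp (by
    rw [← QuotientGroup.mk'_apply, map_mul, map_mul, map_zpow, map_zpow]; exact e)⟩

theorem y_sq_not_mem : y * y ∉ derSq G := fun e => h.quotient.y_sq_ne quotient_derived (by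
  rw [← map_mul, QuotientGroup.mk'_apply, (QuotientGroup.eq_one_iff _).mpr e])

/-- The maximal subgroup containing `x` is metacyclic. -/
theorem maxSub_x : Cfsg.IsMetacyclic (h.maxSub (Multiplicative.ofAdd (1, 0))) := by
  set K := h.maxSub (Multiplicative.ofAdd (1, 0))
  by_contra hK
  have hxK : x ∈ K := h.mem_maxSub.mpr (Or.inr h.par_x)
  have hyK : y * y ∈ K := h.mem_maxSub.mpr (Or.inl (h.par_sq y))
  have hBC : BC K ⟨x, hxK⟩ ⟨y * y, hyK⟩ := by
    refine ⟨h.two.to_subgroup K, fun g => ?_, hK⟩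
    obtain ⟨i, j, hg⟩ := h.rep g
    have hp := h.mem_maxSub.mp g.2
    rw [hg, h.par_rep, ← ofAdd_zero, Multiplicative.ofAdd.injective.eq_iff,
      Multiplicative.ofAdd.injective.eq_iff] at hp
    obtain ⟨l, rfl⟩ := ZMod.intCast_eq_zero_iff_even.mp
      (hp.elim (fun e => congrArg Prod.snd e) (fun e => congrArg Prod.snd e))
    exact ⟨i, l, Subtype.ext (by
      rw [hg, Subgroup.coe_mul, Subgroup.coe_zpow, Subgroup.coe_zpow, zpow_add]
      exact congrArg (_ * ·) ((Commute.refl y).mul_zpow l).symm)⟩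
  obtain ⟨i, j, hi, -, e⟩ := hBC.exists_odd_invol
  have e' := map_derSq_le K.subtype (mem_map_of_mem K.subtype e)
  refine h.quotient.x_invol_false quotient_derived hi (j := j + j) (Even.add_self j) ?_
  rw [← map_zpow, ← map_zpow, ← map_mul, ← map_mul, QuotientGroup.mk'_apply, QuotientGroup.eq_one_iff]
  simpa [zpow_add, (Commute.refl y).mul_zpow] using e'

/-- The maximal subgroup containing `y` is metacyclic. -/
theorem maxSub_y : Cfsg.IsMetacyclic (h.maxSub (Multiplicative.ofAdd (0, 1))) := by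
  set K := h.maxSub (Multiplicative.ofAdd (0, 1))
  by_contra hK
  have hyK : y ∈ K := h.mem_maxSub.mpr (Or.inr h.par_y)
  have hxK : x * x ∈ K := h.mem_maxSub.mpr (Or.inl (h.par_sq x))
  have hBC : BC K ⟨x * x, hxK⟩ ⟨y, hyK⟩ := by
    refine ⟨h.two.to_subgroup K, fun g => ?_, hK⟩
    obtain ⟨i, j, hg⟩ := h.rep g
    have hp := h.mem_maxSub.mp g.2
    rw [hg, h.par_rep, ← ofAdd_zero, Multiplicative.ofAdd.injective.eq_iff,
      Multiplicative.ofAdd.injective.eq_iff] at hp
    obtain ⟨l, rfl⟩ := ZMod.intCast_eq_zero_iff_even.mp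
      (hp.elim (fun e => congrArg Prod.fst e) (fun e => congrArg Prod.fst e))
    exact ⟨l, j, Subtype.ext (by
      rw [hg, Subgroup.coe_mul, Subgroup.coe_zpow, Subgroup.coe_zpow, zpow_add]
      exact congrArg (· * _) ((Commute.refl x).mul_zpow l).symm)⟩
  obtain ⟨i, j, -, hj, e⟩ := hBC.exists_odd_invol
  have e' := map_derSq_le K.subtype (mem_map_of_mem K.subtype e)
  refine h.quotient.y_invol_false quotient_derived (i := i + i) (Even.add_self i) hj ?_
  rw [← map_zpow, ← map_zpow, ← map_mul, ← map_mul, QuotientGroup.mk'_apply, QuotientGroup.eq_one_iff]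
  simpa [zpow_add, (Commute.refl x).mul_zpow] using e'

/-- The third maximal subgroup is not metacyclic. -/
theorem maxSub_xy : ¬ Cfsg.IsMetacyclic (h.maxSub (Multiplicative.ofAdd (1, 1))) := by
  intro hm
  set π := QuotientGroup.mk' (derSq G) with hπ
  have hQ := h.quotient
  have hd := quotient_derived (G := G)
  obtain ⟨i, j, hi, hj, e⟩ := hQ.exists_invol hd
  set b := π x ^ i * π y ^ j with hb
  set c := ⁅π x, π y⁆ with hc
  set p := π y * π y with hp
  set K := h.maxSub (Multiplicative.ofAdd (1, 1)) with hK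
  have hmK : Cfsg.IsMetacyclic (K.map π) :=
    Cfsg.Lib.PGroup.Huppert.isMetacyclic_map (π.subgroupMap K) (π.subgroupMap_surjective K) hm
  have hone : ∀ v : ℤ, Odd v → (v : ZMod 2) = 1 := fun v ⟨l, hl⟩ => by
    rw [hl]; push_cast; rw [show (2 : ZMod 2) = 0 from by decide, zero_mul, zero_add]
  have hbK : b ∈ K.map π := ⟨x ^ i * y ^ j, h.mem_maxSub.mpr (Or.inr (by
    rw [h.par_rep, hone i hi, hone j hj])), by rw [map_mul, map_zpow, map_zpow]⟩
  have hcK : c ∈ K.map π :=
    ⟨⁅x, y⁆, h.frattini_le_maxSub _ (comm_mem_frattini h.two x y), by rw [map_commutatorElement]⟩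
  have hpK : p ∈ K.map π := ⟨y * y, h.frattini_le_maxSub _ (sq_mem_frattini h.two y), by rw [map_mul]⟩
  have hzK : p * p ∈ K.map π := mul_mem hpK hpK
  have hcc := mem_center_iff.mp (hd _ (comm_mem_commutator (π x) (π y))).1
  have hpc := mem_center_iff.mp (sq_central hd (π y))
  have hbi : b⁻¹ = b := inv_eq_of_mul_eq_one_left e
  have hci : c⁻¹ = c := inv_eq_of_mul_eq_one_left (c_sq hd)
  have hzc : ∀ v, p * p * v = v * (p * p) := fun v =>
    (mem_center_iff.mp (mul_mem (sq_central hd (π y)) (sq_central hd (π y))) v).symm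
  have out : ∀ e f g : Fin 2,
      b ^ (e : ℕ) * c ^ (f : ℕ) * p ^ (g : ℕ) ∈ zpowers (p * p) → e = 0 ∧ f = 0 ∧ g = 0 := by
    intro e₁ f g hmem
    obtain ⟨m, hmm⟩ := mem_zpowers_iff.mp hmem
    have e' : b ^ ((e₁ : ℕ) : ℤ) * c ^ ((f : ℕ) : ℤ) * π y ^ (2 * ((g : ℕ) : ℤ) - 4 * m) = 1 := by
      rw [zpow_natCast, zpow_natCast, zpow_sub, zpow_mul, zpow_two, ← hp, zpow_natCast,
        show (4 : ℤ) = 2 * 2 by norm_num, mul_assoc 2 2 m, zpow_mul, zpow_two, ← hp, zpow_mul, zpow_two,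
        hmm]
      rw [← mul_assoc, mul_inv_cancel]
    obtain ⟨ee, ef, ek⟩ := hQ.indep hd hi hj e e'
    have e0 : ∀ v : Fin 2, Even ((v : ℕ) : ℤ) → v = 0 := fun v hv => by
      rw [Int.even_coe_nat] at hv
      revert hv; revert v; decide
    refine ⟨e0 _ ee, e0 _ ef, ?_⟩
    by_contra hg
    have hg1 : g = 1 := (by decide : ∀ v : Fin 2, v ≠ 0 → v = 1) g hg
    rw [hg1, show (2 * (((1 : Fin 2) : ℕ) : ℤ) - 4 * m) = 2 * (1 - 2 * m) by simp; ring,
      zpow_mul, zpow_two, ← hp] at ek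
    exact hQ.y_sq_ne hd (mem_bot.mp (mem_of_odd_zpow hQ.two (K := ⊥) (i := 1 - 2 * m)
      ⟨-m, by ring⟩ (mem_bot.mpr ek)))
  refine no_section hmK (z := ⟨p * p, hzK⟩) (a := ⟨b, hbK⟩) (b := ⟨c, hcK⟩) (c := ⟨p, hpK⟩)
    (Subtype.ext (hzc _)) (Subtype.ext (hzc _)) (Subtype.ext (hzc _)) ?_ ?_ (mem_zpowers _) ?_ ?_ ?_
    ?_ ?_ ?_ ?_ ?_ ?_ ?_
  · rw [show (⟨b, hbK⟩ : K.map π) * ⟨b, hbK⟩ = 1 from Subtype.ext e]; exact one_mem _
  · rw [show (⟨c, hcK⟩ : K.map π) * ⟨c, hcK⟩ = 1 from Subtype.ext (c_sq hd)]; exact one_mem _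
  iterate 3
    rw [commutatorElement_eq_one_iff_mul_comm.mpr (Subtype.ext (by first | exact hcc _ | exact hpc _))]
    exact one_mem _
  all_goals
    intro hmem
    have hmem' := mem_map_of_mem (K.map π).subtype hmem
    rw [MonoidHom.map_zpowers] at hmem'
    simp only [Subgroup.coe_subtype, Subgroup.coe_mul, Subgroup.coe_inv] at hmem'
  · exact absurd (out 1 0 0 (by simpa using hmem')).1 (by decide)
  · exact absurd (out 0 1 0 (by simpa using hmem')).2.1 (by decide)
  · exact absurd (out 1 1 0 (by simpa [hbi] using hmem')).1 (by decide)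
  · exact absurd (out 0 0 1 (by simpa using hmem')).2.2 (by decide)
  · exact absurd (out 1 0 1 (by simpa [hbi] using hmem')).1 (by decide)
  · exact absurd (out 0 1 1 (by simpa [hci] using hmem')).2.1 (by decide)
  · exact absurd (out 1 1 1 (by
      rw [mul_inv_rev, hci, hbi, ← hcc b] at hmem'
      simpa using hmem')).1 (by decide)

/-- The Frattini subgroup is metacyclic. -/
theorem frattini_metacyclic : Cfsg.IsMetacyclic (frattini G) :=
  isMetacyclic_le h.maxSub_x (h.frattini_le_maxSub _)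

/-- An element outside the third maximal subgroup or inside the Frattini subgroup lies in a metacyclic
maximal subgroup with it. -/
theorem exists_metacyclic_of_par {g : G} (hg : h.par g ≠ Multiplicative.ofAdd (1, 1)) :
    ∃ K : Subgroup G, Cfsg.IsMetacyclic K ∧ g ∈ K ∧ frattini G ≤ K := by
  rcases h.par_cases g with e | e | e | e
  · exact ⟨_, h.maxSub_x, h.mem_maxSub.mpr (Or.inl e), h.frattini_le_maxSub _⟩
  · exact ⟨_, h.maxSub_x, h.mem_maxSub.mpr (Or.inr e), h.frattini_le_maxSub _⟩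
  · exact ⟨_, h.maxSub_y, h.mem_maxSub.mpr (Or.inr e), h.frattini_le_maxSub _⟩
  · exact absurd e hg

/-- Every subgroup is generated by three elements. -/
theorem three_gen (E : Subgroup G) : ∃ a b c : G, closure ({a, b, c} : Set G) = E := by
  set M := h.maxSub (Multiplicative.ofAdd (1, 0))
  obtain ⟨⟨a, haE⟩, ⟨b, hbE⟩, hab⟩ := two_gen_of_metacyclic
    (isMetacyclic_le (H := E ⊓ M) h.maxSub_x inf_le_right)
  have hab' : E ⊓ M = closure ({a, b} : Set G) := by
    have := congrArg (Subgroup.map (E ⊓ M).subtype) hab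
    rw [MonoidHom.map_closure, Set.image_pair, ← MonoidHom.range_eq_map, range_subtype] at this
    exact this.symm
  by_cases hle : E ≤ M
  · refine ⟨a, b, a, ?_⟩
    rw [← inf_eq_left.mpr hle, hab']
    congr 1; ext; simp; tauto
  obtain ⟨w, hwE, hwM⟩ := SetLike.not_le_iff_exists.mp hle
  refine ⟨a, b, w, le_antisymm ((closure_le _).mpr ?_) fun g hg => ?_⟩
  · rintro v (rfl | rfl | rfl)
    exacts [haE.1, hbE.1, hwE]
  · set T := closure ({a, b, w} : Set G)
    have hM : ∀ v ∈ E, v ∈ M → v ∈ T := fun v hv hvM =>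
      by
      have hv2 : v ∈ E ⊓ M := ⟨hv, hvM⟩
      rw [hab'] at hv2
      exact closure_mono (by intro u; simp +contextual [or_imp]) hv2
    by_cases hgM : g ∈ M
    · exact hM g hg hgM
    have hwT : w ∈ T := subset_closure (by simp)
    -- outside `M` there are at most two parities, and products of two of them fall into `M`
    by_cases hgw : g * w⁻¹ ∈ M
    · have := mul_mem (hM _ (mul_mem hg (inv_mem hwE)) hgw) hwT
      rwa [inv_mul_cancel_right] at this
    exfalso
    rw [h.mem_maxSub] at hgM hwM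
    rw [h.mem_maxSub, map_mul, map_inv] at hgw
    rw [not_or] at hgM hwM
    exact hgw (quot_two _ _ hgM.1 hgM.2 hwM.1 hwM.2)

/-- The automorphism group is a 2-group. -/
theorem isPGroup_mulAut : IsPGroup 2 (MulAut G) := by
  haveI : Fact (Nat.Prime 2) := ⟨Nat.prime_two⟩
  haveI : Finite (MulAut G) := Finite.of_injective (fun a : MulAut G => (a : G → G))
    DFunLike.coe_injective
  have hfix : ∀ (α : MulAut G) (g : G),
      h.par g = Multiplicative.ofAdd (1, 1) → h.par (α g) = Multiplicative.ofAdd (1, 1) := by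
    intro α g hg
    by_contra hne
    obtain ⟨K, hKm, hgK, hΦ⟩ := h.exists_metacyclic_of_par hne
    refine h.maxSub_xy (isMetacyclic_le (K := K.comap α.toMonoidHom) ?_ ?_)
    · exact Cfsg.Lib.PGroup.Huppert.isMetacyclic_map (α.symm.subgroupMap K).toMonoidHom
        (α.symm.subgroupMap K).surjective hKm |> fun hm => by
          rwa [K.map_equiv_eq_comap_symm α.symm, MulEquiv.symm_symm] at hm
    · intro w hw
      have hfr : ∀ v ∈ frattini G, α v ∈ frattini G := fun v hv =>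
        Cfsg.Lib.PGroup.apply_mem_frattini α hv
      rcases h.mem_maxSub.mp hw with e | e
      · exact hΦ (hfr w (h.par_eq_one_iff.mp e))
      · have h1 : g⁻¹ * w ∈ frattini G := h.par_eq_one_iff.mp (by rw [map_mul, map_inv, hg, e, inv_mul_cancel])
        show α w ∈ K
        rw [show w = g * (g⁻¹ * w) by group, map_mul]
        exact mul_mem hgK (hΦ (hfr _ h1))
  have hsq : ∀ α : MulAut G, α * α ∈ Cfsg.Lib.PGroup.frattiniStab G := by
    intro α
    have hker : ∀ u, h.par u = 1 → h.par (α u) = 1 := fun u hu =>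
      h.par_eq_one_iff.mpr (Cfsg.Lib.PGroup.apply_mem_frattini α (h.par_eq_one_iff.mp hu))
    have hker' : ∀ u, h.par (α u) = 1 → h.par u = 1 := fun u hu => h.par_eq_one_iff.mpr (by
      simpa using Cfsg.Lib.PGroup.apply_mem_frattini α⁻¹ (h.par_eq_one_iff.mp hu))
    have hthree : ∀ u, h.par (α u) = Multiplicative.ofAdd (1, 1) →
        h.par u = Multiplicative.ofAdd (1, 1) := fun u hu => by simpa using hfix α⁻¹ _ hu
    have hcong : ∀ u v, h.par u = h.par v → h.par (α u) = h.par (α v) := fun u v huv => by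
      have := hker (u⁻¹ * v) (by rw [map_mul, map_inv, huv, inv_mul_cancel])
      rwa [map_mul, map_inv, map_mul, map_inv, inv_mul_eq_one] at this
    have key : ∀ u, (h.par u = Multiplicative.ofAdd (1, 0) ∨ h.par u = Multiplicative.ofAdd (0, 1)) →
        h.par (α u) = Multiplicative.ofAdd (1, 0) ∨ h.par (α u) = Multiplicative.ofAdd (0, 1) := by
      intro u hu
      rcases h.par_cases (α u) with e | e | e | e
      · have := hker' u e
        rw [this] at hu
        exact absurd hu one_ne_xy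
      · exact Or.inl e
      · exact Or.inr e
      · have := hthree u e
        rw [this] at hu
        exact absurd hu three_ne_xy
    have hne : h.par (α x) ≠ h.par (α y) := fun e => by
      have := hker' (x⁻¹ * y) (by rw [map_mul, map_inv, map_mul, map_inv, e, inv_mul_cancel])
      rw [map_mul, map_inv, inv_mul_eq_one, h.par_x, h.par_y] at this
      exact absurd this x_ne_y
    have hgen : ∀ u ∈ ({x, y} : Set G), h.par (α (α u)) = h.par u := by
      intro u hu
      simp only [Set.mem_insert_iff, Set.mem_singleton_iff] at hu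
      rcases hu with hu | hu <;> rw [hu] <;> rcases key x (Or.inl h.par_x) with ex | ex <;>
        rcases key y (Or.inr h.par_y) with ey | ey
      all_goals first
        | exact absurd (ex.trans ey.symm) hne
        | rw [hcong (α x) x (ex.trans h.par_x.symm), ex, h.par_x]
        | rw [hcong (α x) y (ex.trans h.par_y.symm), ey, h.par_x]
        | rw [hcong (α y) y (ey.trans h.par_y.symm), ey, h.par_y]
        | rw [hcong (α y) x (ey.trans h.par_x.symm), ex, h.par_y]
    intro w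
    rw [← h.par_eq_one_iff, map_mul, map_inv, inv_mul_eq_one, MulAut.mul_apply]
    exact ((MonoidHom.eqOn_closure (f := (h.par.comp α.toMonoidHom).comp α.toMonoidHom) (g := h.par)
      hgen) (h.gen ▸ mem_top w)).symm
  intro α
  obtain ⟨k, hk⟩ := Cfsg.Lib.PGroup.isPGroup_frattiniStab h.two ⟨α * α, hsq α⟩
  refine ⟨k + 1, ?_⟩
  rw [pow_succ', pow_mul, pow_two]
  exact congrArg Subtype.val hk

end BC

end Cfsg.Lib.Bicyclic
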