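import Cfsg.Agent.Lib.FusionSys.Bicyclic.Seed
import Cfsg.Agent.Lib.FusionSys.Bicyclic.Basic
import Cfsg.Agent.Lib.FusionSys.SatFamily
import Cfsg.Agent.Lib.PGroup.FrattiniStab

/-!
# The noninner system

It is generated by the inner system and the automorphisms of the subgroup fixing the cyclic part. An explicit
larger system shows that outside the conjugates of the subgroup and their subgroups all maps are conjugations, and the
criterion on that family gives saturation.
-/

set_option autoImplicit false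
set_option linter.style.haveILetI false

namespace Cfsg.Lib.Bicyclic

open Cfsg Cfsg.FusionSystem Cfsg.Lib.FusionSys Cfsg.Lib.FusionSys.SecThree Subgroup

variable {Ω : Type*} [Group Ω] {S : Subgroup Ω}

/-- Some conjugate by an element of `S` lies in `E`. -/
def IsBelow (S E P : Subgroup Ω) : Prop := ∃ s ∈ S, ∀ x ∈ P, s⁻¹ * x * s ∈ E

/-- The conjugate of `P` by `s` is `E`. -/
def IsEqAt (E P : Subgroup Ω) (s : Ω) : Prop := ∀ x, x ∈ P ↔ s⁻¹ * x * s ∈ E

theorem isEqAt_of_card [Finite S] {E P : Subgroup Ω} (hE : E ≤ S) (hP : P ≤ S) {s : Ω}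
    (h : ∀ x ∈ P, s⁻¹ * x * s ∈ E) (hc : Nat.card E ≤ Nat.card P) : IsEqAt E P s := by
  haveI := finite_of_le hE
  haveI := finite_of_le hP
  let f : P → E := fun x => ⟨s⁻¹ * x * s, h x x.2⟩
  have hf : Function.Injective f := fun p q e => Subtype.ext (by
    have := congrArg Subtype.val e
    exact mul_left_cancel (mul_right_cancel this))
  have hb : Function.Bijective f := (Nat.bijective_iff_injective_and_card f).mpr
    ⟨hf, le_antisymm (Nat.card_le_card_of_injective f hf) hc⟩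
  refine fun x => ⟨h x, fun hx => ?_⟩
  obtain ⟨p, hp⟩ := hb.2 ⟨_, hx⟩
  have : (p : Ω) = x := mul_left_cancel (mul_right_cancel (congrArg Subtype.val hp))
  exact this ▸ p.2

theorem card_of_isEqAt {E P : Subgroup Ω} {s : Ω} (h : IsEqAt E P s) : Nat.card P = Nat.card E := by
  let e : P ≃ E :=
    { toFun := fun x => ⟨s⁻¹ * x * s, (h x).mp x.2⟩
      invFun := fun y => ⟨s * y * s⁻¹, (h _).mpr (by simp [mul_assoc])⟩
      left_inv := fun x => Subtype.ext (by simp [mul_assoc])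
      right_inv := fun y => Subtype.ext (by simp [mul_assoc]) }
  exact Nat.card_congr e

namespace Seed

variable {b v c : Ω} (H : Seed S b v c) [Finite S]

/-- Fixing the square of `b`, conjugation away from the conjugates of the subgroup, and on those one of its
automorphisms between two conjugations. -/
structure IsMap {P : Subgroup Ω} (φ : P →* Ω) : Prop where
  le : P ≤ S
  mem : ∀ x, φ x ∈ S
  inj : Function.Injective φ
  z : ∀ x : P, φ x = b * b ↔ (x : Ω) = b * b
  below : IsBelow S (eGrp b v c) P → ∃ s ∈ S, ∀ x : P, s⁻¹ * φ x * s ∈ eGrp b v c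
  inner : ¬ IsBelow S (eGrp b v c) P → ∃ g ∈ S, ∀ x : P, φ x = g * x * g⁻¹
  form : ∀ s ∈ S, IsEqAt (eGrp b v c) P s →
    ∃ g ∈ S, ∃ β ∈ H.auto, ∀ x : P, φ x = g * ap β (s⁻¹ * x * s) * g⁻¹

/-- The system of all these maps. -/
def explicitSys : FusionSystem S where
  Hom P := {φ | H.IsMap φ}
  le_of_mem h := ⟨h.le, h.mem⟩
  injective_of_mem h := h.inj
  conj_mem {P g} hP hg := by
    refine ⟨hP, fun x => S.mul_mem (S.mul_mem hg (hP x.2)) (S.inv_mem hg), ?_, fun x => ?_, ?_, ?_, ?_⟩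
    · exact fun p q e => Subtype.ext (mul_left_cancel (mul_right_cancel e))
    · show g * (x : Ω) * g⁻¹ = b * b ↔ _
      have h1 : g * (b * b) * g⁻¹ = b * b := by rw [H.zc g hg, mul_inv_cancel_right]
      exact ⟨fun e => mul_left_cancel (mul_right_cancel (e.trans h1.symm)), fun e => by rw [e, h1]⟩
    · rintro ⟨s, hs, h⟩
      refine ⟨g * s, S.mul_mem hg hs, fun x => ?_⟩
      show (g * s)⁻¹ * (g * (x : Ω) * g⁻¹) * (g * s) ∈ _
      rw [show (g * s)⁻¹ * (g * (x : Ω) * g⁻¹) * (g * s) = s⁻¹ * x * s by group]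
      exact h x x.2
    · exact fun _ => ⟨g, hg, fun x => rfl⟩
    · intro s hs _
      refine ⟨g * s, S.mul_mem hg hs, 1, one_mem _, fun x => ?_⟩
      rw [ap_one_apply]
      show g * (x : Ω) * g⁻¹ = _
      group
  comp_mem {P Q φ ψ} hφ hψ hv := by
    refine ⟨hφ.le, fun x => hψ.mem _, hψ.inj.comp fun p q e =>
      hφ.inj (congrArg Subtype.val e), fun x => (hψ.z _).trans (hφ.z x), ?_, ?_, ?_⟩
    · intro hP
      obtain ⟨s', hs', h1⟩ := hφ.below hP
      by_cases hQ : IsBelow S (eGrp b v c) Q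
      · obtain ⟨s'', hs'', h2⟩ := hψ.below hQ
        exact ⟨s'', hs'', fun x => h2 _⟩
      · obtain ⟨g, hg, h2⟩ := hψ.inner hQ
        refine ⟨g * s', S.mul_mem hg hs', fun x => ?_⟩
        show (g * s')⁻¹ * ψ ⟨φ x, hv x⟩ * (g * s') ∈ _
        rw [h2, show (g * s')⁻¹ * (g * φ x * g⁻¹) * (g * s') = s'⁻¹ * φ x * s' by group]
        exact h1 x
    · intro hP
      obtain ⟨g, hg, h1⟩ := hφ.inner hP
      have hQ : ¬ IsBelow S (eGrp b v c) Q := fun ⟨s, hs, h⟩ => hP ⟨g⁻¹ * s,
        S.mul_mem (S.inv_mem hg) hs, fun x hx => by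
          have := h _ (hv ⟨x, hx⟩)
          rwa [h1, show s⁻¹ * (g * ((⟨x, hx⟩ : P) : Ω) * g⁻¹) * s = (g⁻¹ * s)⁻¹ * x * (g⁻¹ * s) by group]
            at this⟩
      obtain ⟨g', hg', h2⟩ := hψ.inner hQ
      refine ⟨g' * g, S.mul_mem hg' hg, fun x => ?_⟩
      show ψ ⟨φ x, hv x⟩ = _
      rw [h2]
      show g' * φ x * g'⁻¹ = _
      rw [h1]
      group
    · intro s hs hPs
      obtain ⟨g, hg, β, hβ, h1⟩ := hφ.form s hs hPs
      by_cases hQ : IsBelow S (eGrp b v c) Q
      swap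
      · obtain ⟨g', hg', h2⟩ := hψ.inner hQ
        refine ⟨g' * g, S.mul_mem hg' hg, β, hβ, fun x => ?_⟩
        show ψ ⟨φ x, hv x⟩ = _
        rw [h2]
        show g' * φ x * g'⁻¹ = _
        rw [h1]
        group
      obtain ⟨s', hs', hQs⟩ := hQ
      -- the image is the whole conjugate
      have himg : ∀ e ∈ eGrp b v c, g * e * g⁻¹ ∈ Q := by
        intro e he
        have hx : s * ap β⁻¹ e * s⁻¹ ∈ P := (hPs _).mpr (by simpa [mul_assoc] using ap_mem β⁻¹ he)
        have := hv ⟨_, hx⟩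
        rw [h1] at this
        rwa [show s⁻¹ * ((⟨_, hx⟩ : P) : Ω) * s = ap β⁻¹ e by
          show s⁻¹ * (s * ap β⁻¹ e * s⁻¹) * s = _; group, ap_ap_inv β he] at this
      set k := s'⁻¹ * g with hk
      haveI := finite_of_le H.le
      have hkN : k ∈ normalizer (eGrp b v c : Set Ω) := Subgroup.mem_normalizer_fintype fun e he => by
        rw [show k * e * k⁻¹ = s'⁻¹ * (g * e * g⁻¹) * s' by rw [hk]; group]
        exact hQs _ (himg e he)
      have hQeq : IsEqAt (eGrp b v c) Q s' := fun y => by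
        refine ⟨hQs y, fun hy => ?_⟩
        have h3 : k⁻¹ * (s'⁻¹ * y * s') * k ∈ eGrp b v c := (mem_normalizer_iff''.mp hkN _).mp hy
        have := himg _ h3
        rwa [show g * (k⁻¹ * (s'⁻¹ * y * s') * k) * g⁻¹ = y by rw [hk]; group] at this
      obtain ⟨g', hg', β', hβ', h2⟩ := hψ.form s' hs' hQeq
      have hkS : k ∈ S := S.mul_mem (S.inv_mem hs') hg
      refine ⟨g', hg', β' * conjAut _ hkN * β,
        mul_mem (mul_mem hβ' (H.conjAut_mem hkS hkN)) hβ, fun x => ?_⟩
      have hx : s⁻¹ * (x : Ω) * s ∈ eGrp b v c := (hPs x).mp x.2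
      show ψ ⟨φ x, hv x⟩ = _
      rw [h2, ap_mul_apply _ _ hx, ap_mul_apply _ _ (ap_mem β hx), Seed.ap_conjAut hkN (ap_mem β hx)]
      show g' * ap β' (s'⁻¹ * φ x * s') * g'⁻¹ = _
      rw [h1, hk, show s'⁻¹ * (g * ap β (s⁻¹ * x * s) * g⁻¹) * s' =
        s'⁻¹ * g * ap β (s⁻¹ * x * s) * (s'⁻¹ * g)⁻¹ by group]
  inv_mem {P φ} hφ := by
    let e : P ≃* φ.range := MonoidHom.ofInjective hφ.inj
    have hes : ∀ y : φ.range, φ (e.symm y) = y := fun y =>
      congrArg Subtype.val (e.apply_symm_apply y)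
    refine ⟨P.subtype.comp e.symm.toMonoidHom, ⟨?_, fun y => hφ.le (e.symm y).2, ?_, fun y => ?_,
      ?_, ?_, ?_⟩, fun x => congrArg Subtype.val (e.symm_apply_apply x)⟩
    · rintro _ ⟨x, rfl⟩
      exact hφ.mem x
    · exact P.subtype_injective.comp e.symm.injective
    · show ((e.symm y : P) : Ω) = b * b ↔ (y : Ω) = b * b
      rw [← hφ.z, hes]
    · intro hR
      have hP : IsBelow S (eGrp b v c) P := by
        by_contra hP
        obtain ⟨g, hg, h1⟩ := hφ.inner hP
        obtain ⟨s, hs, h⟩ := hR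
        refine hP ⟨g⁻¹ * s, S.mul_mem (S.inv_mem hg) hs, fun x hx => ?_⟩
        have := h _ ⟨⟨x, hx⟩, rfl⟩
        rwa [h1, show s⁻¹ * (g * ((⟨x, hx⟩ : P) : Ω) * g⁻¹) * s = (g⁻¹ * s)⁻¹ * x * (g⁻¹ * s) by group]
          at this
      obtain ⟨s, hs, h⟩ := hP
      exact ⟨s, hs, fun y => h _ (e.symm y).2⟩
    · intro hR
      have hP : ¬ IsBelow S (eGrp b v c) P := fun hP => hR (by
        obtain ⟨s, hs, h⟩ := hφ.below hP
        exact ⟨s, hs, by rintro _ ⟨x, rfl⟩; exact h x⟩)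
      obtain ⟨g, hg, h1⟩ := hφ.inner hP
      refine ⟨g⁻¹, S.inv_mem hg, fun y => ?_⟩
      show ((e.symm y : P) : Ω) = _
      rw [← hes y, h1]
      group
    · intro s' hs' hR
      haveI := finite_of_le H.le
      have hcard : Nat.card P = Nat.card (eGrp b v c) :=
        (Nat.card_congr e.toEquiv).trans (card_of_isEqAt hR)
      have hP : IsBelow S (eGrp b v c) P := by
        by_contra hP
        obtain ⟨g, hg, h1⟩ := hφ.inner hP
        refine hP ⟨g⁻¹ * s', S.mul_mem (S.inv_mem hg) hs', fun x hx => ?_⟩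
        have := (hR _).mp ⟨⟨x, hx⟩, rfl⟩
        rwa [h1, show s'⁻¹ * (g * ((⟨x, hx⟩ : P) : Ω) * g⁻¹) * s' = (g⁻¹ * s')⁻¹ * x * (g⁻¹ * s') by
          group] at this
      obtain ⟨s, hs, h⟩ := hP
      have hPs := isEqAt_of_card H.le hφ.le h hcard.ge
      obtain ⟨g, hg, β, hβ, h1⟩ := hφ.form s hs hPs
      set k := g⁻¹ * s' with hk
      have hkN : k ∈ normalizer (eGrp b v c : Set Ω) := Subgroup.mem_normalizer_fintype fun e' he' => by
        have hy : s' * e' * s'⁻¹ ∈ φ.range := (hR _).mpr (by simpa [mul_assoc] using he')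
        obtain ⟨x, hx⟩ := hy
        rw [h1] at hx
        rw [show k * e' * k⁻¹ = g⁻¹ * (s' * e' * s'⁻¹) * g by rw [hk]; group, ← hx]
        simpa [mul_assoc] using ap_mem β ((hPs x).mp x.2)
      have hkS : k ∈ S := S.mul_mem (S.inv_mem hg) hs'
      refine ⟨s, hs, β⁻¹ * conjAut _ hkN, mul_mem (inv_mem hβ) (H.conjAut_mem hkS hkN), fun y => ?_⟩
      have hy : s'⁻¹ * (y : Ω) * s' ∈ eGrp b v c := (hR y).mp y.2
      have hx := (hPs (e.symm y)).mp (e.symm y).2
      show ((e.symm y : P) : Ω) = _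
      rw [ap_mul_apply _ _ hy, Seed.ap_conjAut hkN hy, hk,
        show g⁻¹ * s' * (s'⁻¹ * (y : Ω) * s') * (g⁻¹ * s')⁻¹ = g⁻¹ * y * g by group, ← hes y, h1,
        show g⁻¹ * (g * ap β (s⁻¹ * (e.symm y : Ω) * s) * g⁻¹) * g = ap β (s⁻¹ * (e.symm y : Ω) * s) by
          group, ap_inv_ap β hx]
      group

theorem auto_mem_explicit {β : MulAut (eGrp b v c)} (hβ : β ∈ H.auto) :
    (eGrp b v c).subtype.comp β.toMonoidHom ∈ H.explicitSys.Hom (eGrp b v c) := by
  have hap : ∀ x : eGrp b v c, (eGrp b v c).subtype.comp β.toMonoidHom x = ap β x := fun x => (ap_coe β x).symm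
  have h1 : ∀ x ∈ eGrp b v c, (1 : Ω)⁻¹ * x * 1 ∈ eGrp b v c := fun x hx => by simpa using hx
  refine ⟨H.le, fun x => H.le (β x).2, (eGrp b v c).subtype_injective.comp β.injective, fun x => ?_,
    fun _ => ⟨1, S.one_mem, fun x => h1 _ (β x).2⟩, fun h => absurd ⟨1, S.one_mem, h1⟩ h, fun s hs hE => ?_⟩
  · rw [hap]
    have hz := H.fix_z hβ (mem_zpowers (b * b))
    exact ⟨fun e => ap_inj β x.2 Seed.z_mem (e.trans hz.symm), fun e => by rw [e, hz]⟩
  · haveI := finite_of_le H.le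
    have hsN : s ∈ normalizer (eGrp b v c : Set Ω) := Subgroup.mem_normalizer_fintype fun e he =>
      (hE _).mpr (by simpa [mul_assoc] using he)
    refine ⟨1, S.one_mem, β * conjAut _ hsN, mul_mem hβ (H.conjAut_mem hs hsN), fun x => ?_⟩
    have hx := (hE x).mp x.2
    rw [hap, ap_mul_apply _ _ hx, Seed.ap_conjAut hsN hx, one_mul, inv_one, mul_one]
    congr 1
    group

/-- The least system with these automorphisms. -/
def genSys : FusionSystem S where
  Hom P := {φ | ∀ D : FusionSystem S,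
    (∀ β ∈ H.auto, (eGrp b v c).subtype.comp (MulEquiv.toMonoidHom β) ∈ D.Hom (eGrp b v c)) → φ ∈ D.Hom P}
  le_of_mem h := H.explicitSys.le_of_mem (h H.explicitSys fun _ hβ => H.auto_mem_explicit hβ)
  injective_of_mem h := H.explicitSys.injective_of_mem (h H.explicitSys fun _ hβ => H.auto_mem_explicit hβ)
  conj_mem hP hg := fun D _ => D.conj_mem hP hg
  comp_mem hφ hψ hv := fun D hD => D.comp_mem (hφ D hD) (hψ D hD) hv
  inv_mem {P φ} hφ := by
    have hD := hφ H.explicitSys fun _ hβ => H.auto_mem_explicit hβ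
    obtain ⟨ψ, hψ, hψe⟩ := H.explicitSys.inv_mem hD
    refine ⟨ψ, fun D hDg => ?_, hψe⟩
    obtain ⟨ψ', hψ', hψ'e⟩ := D.inv_mem (hφ D hDg)
    refine hom_congr hψ' ?_
    rintro ⟨_, x, rfl⟩
    rw [hψ'e x, hψe x]

theorem genSys_isMap {P : Subgroup Ω} {φ : P →* Ω} (h : φ ∈ H.genSys.Hom P) : H.IsMap φ :=
  h H.explicitSys fun _ hβ => H.auto_mem_explicit hβ

theorem mem_genSys_autGroup {α : MulAut (eGrp b v c)} :
    α ∈ H.genSys.autGroup (eGrp b v c) ↔ α ∈ H.auto := by
  rw [mem_autGroup H.le]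
  refine ⟨fun h => ?_, fun hα D hD => hD α hα⟩
  obtain ⟨g, hg, β, hβ, h1⟩ := (H.genSys_isMap h).form 1 S.one_mem fun x => by rw [inv_one, one_mul, mul_one]
  have h1' : ∀ x ∈ eGrp b v c, ap α x = g * ap β x * g⁻¹ := fun x hx => by
    rw [ap_of_mem α hx]
    refine (h1 ⟨x, hx⟩).trans ?_
    simp
  haveI := finite_of_le H.le
  have hgN : g ∈ normalizer (eGrp b v c : Set Ω) := Subgroup.mem_normalizer_fintype fun e he => by
    rw [← ap_ap_inv β he, ← h1' _ (ap_mem β⁻¹ he)]
    exact ap_mem α (ap_mem β⁻¹ he)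
  have : α = conjAut _ hgN * β := ap_ext _ _ fun x hx => by
    rw [ap_mul_apply _ _ hx, Seed.ap_conjAut hgN (ap_mem β hx), h1' x hx]
  rw [this]
  exact mul_mem (H.conjAut_mem hg hgN) hβ

variable (h2 : IsPGroup 2 S)
include h2

theorem isFullyAutomized_eGrp : H.genSys.IsFullyAutomized 2 (eGrp b v c) := by
  haveI : Fact (Nat.Prime 2) := ⟨Nat.prime_two⟩
  haveI := finite_of_le H.le
  haveI : Finite (MulAut (eGrp b v c)) := Finite.of_injective (fun a : MulAut (eGrp b v c) =>
    (a : eGrp b v c → eGrp b v c)) DFunLike.coe_injective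
  set A := H.genSys.autGroup (eGrp b v c)
  set T := (autInducedBy S (eGrp b v c)).subgroupOf A with hT
  have hTp : IsPGroup 2 T := (isPGroup_autInducedBy h2).comap_subtype
  refine ⟨H.le, ?_⟩
  obtain ⟨α, hα, hαb, hαv⟩ := H.exists_rot
  have hαA : α ∈ A := H.mem_genSys_autGroup.mpr hα
  set a : A := ⟨α, hαA⟩
  have hmem : ∀ β : A, β ∈ T ↔ v⁻¹ * ap (β : MulAut (eGrp b v c)) v ∈ zpowers (b * b) := fun β =>
    ⟨fun h => (H.fix_of_mem h).2, fun h => H.exists_conj_of_fix (H.mem_genSys_autGroup.mp β.2) h⟩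
  -- three cosets
  have hv2 : ap α (v * b) = b := by rw [ap_map_mul α Seed.v_mem Seed.b_mem, hαb, hαv, H.vbv]
  have hcls : ∀ β : A, ∃ i : Fin 3, (a ^ (i : ℕ))⁻¹ * β ∈ T := by
    intro β
    have hβ := H.mem_genSys_autGroup.mp β.2
    have key : ∀ (γ : MulAut (eGrp b v c)) (k : Ω), γ ∈ H.auto → k ∈ zpowers (b * b) →
        ap (β : MulAut (eGrp b v c)) v = ap γ v * k →
          v⁻¹ * ap (γ⁻¹ * (β : MulAut (eGrp b v c))) v ∈ zpowers (b * b) := by
      intro γ k hγ hk e
      rw [ap_mul_apply _ _ Seed.v_mem, e, H.map_classes (inv_mem hγ) (ap_mem γ Seed.v_mem) hk,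
        ap_inv_ap γ Seed.v_mem, inv_mul_cancel_left]
      exact hk
    obtain ⟨k, hk, e⟩ := H.classes (hβ.2 v Seed.v_memU)
    rcases e with e | e | e | e
    · exact absurd (e ▸ hk) (H.notZ hβ Seed.v_memU H.v_notZ)
    · refine ⟨0, (hmem _).mpr ?_⟩
      simpa using key 1 k (one_mem _) hk (by rw [ap_one_apply]; exact e)
    · refine ⟨2, (hmem _).mpr ?_⟩
      exact key (α ^ 2) k (pow_mem hα 2) hk (by
        rw [pow_two, ap_mul_apply _ _ Seed.v_mem, hαv, hv2]; exact e)
    · refine ⟨1, (hmem _).mpr ?_⟩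
      simpa [a] using key α k hα hk (by rw [hαv]; exact e)
  have hne1 : a ∉ T := fun h => by
    have h1 := (hmem a).mp h
    rw [show ((a : A) : MulAut (eGrp b v c)) = α from rfl, hαv, inv_mul_cancel_left] at h1
    exact H.b_notZ h1
  have hne2 : a ^ 2 ∉ T := fun h => by
    have h1 := (hmem _).mp h
    rw [SubgroupClass.coe_pow, pow_two, ap_mul_apply _ _ Seed.v_mem, show ap α v = v * b from hαv,
      hv2] at h1
    exact H.b_ne_v h1
  have hindex : T.index = 3 := by
    let f : Fin 3 → A ⧸ T := fun i => QuotientGroup.mk (a ^ (i : ℕ))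
    have hb : Function.Bijective f := by
      refine ⟨fun i j e => ?_, fun q => QuotientGroup.induction_on q fun β => ?_⟩
      · have h1 := QuotientGroup.eq.mp e
        have h2' := QuotientGroup.eq.mp e.symm
        revert h1 h2'
        fin_cases i <;> fin_cases j <;> intro h1 h2' <;> first
          | rfl
          | exact absurd (by simpa [pow_two] using h1) hne1
          | exact absurd (by simpa [pow_two] using h2') hne1
          | exact absurd (by simpa using h1) hne2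
          | exact absurd (by simpa using h2') hne2
      · obtain ⟨i, hi⟩ := hcls β
        exact ⟨i, QuotientGroup.eq.mpr hi⟩
    rw [Subgroup.index_eq_card, ← Nat.card_congr (Equiv.ofBijective f hb), Nat.card_fin]
  exact ⟨hTp.toSylow (by rw [hindex]; norm_num), rfl⟩

omit h2 in
theorem isReceptive_eGrp : H.genSys.IsReceptive (eGrp b v c) := by
  refine ⟨H.le, fun P φ hφ hr => ?_⟩
  have hmap := H.genSys_isMap hφ
  haveI := finite_of_le H.le
  have hφE : ∀ x : P, φ x ∈ eGrp b v c := fun x => hr.le ⟨x, rfl⟩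
  have hP : IsBelow S (eGrp b v c) P := by
    by_contra hP
    obtain ⟨g, hg, h1⟩ := hmap.inner hP
    refine hP ⟨g⁻¹, S.inv_mem hg, fun x hx => ?_⟩
    have := hφE ⟨x, hx⟩
    rw [h1] at this
    simpa using this
  obtain ⟨s, hs, h⟩ := hP
  have hcard : Nat.card P = Nat.card (eGrp b v c) := by
    rw [← card_range hφ, hr]
  have hPs := isEqAt_of_card H.le hmap.le h hcard.ge
  obtain ⟨g, hg, β, hβ, h1⟩ := hmap.form s hs hPs
  have hgN : g ∈ normalizer (eGrp b v c : Set Ω) := Subgroup.mem_normalizer_fintype fun e he => by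
    have hx : s * ap β⁻¹ e * s⁻¹ ∈ P := (hPs _).mpr (by simpa [mul_assoc] using ap_mem β⁻¹ he)
    have := hφE ⟨_, hx⟩
    rwa [h1, show s⁻¹ * ((⟨_, hx⟩ : P) : Ω) * s = ap β⁻¹ e by
      show s⁻¹ * (s * ap β⁻¹ e * s⁻¹) * s = _; group, ap_ap_inv β he] at this
  set β' := conjAut _ hgN * β with hβ'
  have hβ'A : β' ∈ H.auto := mul_mem (H.conjAut_mem hg hgN) hβ
  have hform : ∀ x : P, φ x = ap β' (s⁻¹ * x * s) := fun x => by
    have hx := (hPs x).mp x.2
    rw [h1, hβ', ap_mul_apply _ _ hx, Seed.ap_conjAut hgN (ap_mem β hx)]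
  by_cases hT : β' ∈ autInducedBy S (eGrp b v c)
  · obtain ⟨h', hh', hc'⟩ := mem_autInducedBy.1 hT
    refine ⟨conjHom _ (h' * s⁻¹), H.genSys.conj_mem ((extender_le φ).trans (normalizerIn_le P))
      (S.mul_mem hh' (S.inv_mem hs)), fun x hxP hxN => ?_⟩
    show (h' * s⁻¹) * x * (h' * s⁻¹)⁻¹ = φ ⟨x, hxP⟩
    rw [hform, ap_of_mem β' ((hPs x).mp hxP), hc']
    show _ = h' * (s⁻¹ * x * s) * h'⁻¹
    group
  · have hle : extender S P φ ≤ P := by
      intro t ht
      obtain ⟨htS, htN, h', hh', hh⟩ := mem_extender.1 ht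
      by_contra htP
      set t' := s⁻¹ * t * s with ht'
      have ht'S : t' ∈ S := S.mul_mem (S.mul_mem (S.inv_mem hs) htS) hs
      have ht'E : t' ∉ eGrp b v c := fun hm => htP ((hPs t).mpr hm)
      have hin : ∀ e ∈ eGrp b v c, t * (s * e * s⁻¹) * t⁻¹ ∈ P := fun e he =>
        (mem_normalizer_iff.mp htN _).mp ((hPs _).mpr (by simpa [mul_assoc] using he))
      have ht'N : t' ∈ normalizer (eGrp b v c : Set Ω) := Subgroup.mem_normalizer_fintype fun e he => by
        rw [show t' * e * t'⁻¹ = s⁻¹ * (t * (s * e * s⁻¹) * t⁻¹) * s by rw [ht']; group]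
        exact (hPs _).mp (hin e he)
      refine hT (H.mem_of_normalize hβ'A ht'S ht'N ht'E hh' fun e he => ?_)
      have hx : s * e * s⁻¹ ∈ P := (hPs _).mpr (by simpa [mul_assoc] using he)
      have h3 := hh ⟨_, hx⟩ (hin e he)
      rw [hform, hform] at h3
      rw [show s⁻¹ * ((⟨_, hx⟩ : P) : Ω) * s = e by show s⁻¹ * (s * e * s⁻¹) * s = e; group] at h3
      rw [← h3, ht']
      congr 1
      show _ = s⁻¹ * (t * (s * e * s⁻¹) * t⁻¹) * s
      group
    exact ⟨φ.comp (Subgroup.inclusion hle), restrict_mem hφ hle, fun x hP hN => rfl⟩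

/-- A proper subgroup of the subgroup carrying no conjugate has a conjugation outside its inner ones in the core. -/
theorem exists_core_elem {Q : Subgroup Ω} (hQE : Q ≤ eGrp b v c) (hne : Q ≠ eGrp b v c)
    (hC : centralizerIn S Q ≤ Q) :
    ¬ (autInducedBy S Q ⊓ coreAut H.genSys 2 Q ≤ Inn Q) := by
  classical
  haveI : Fact (Nat.Prime 2) := ⟨Nat.prime_two⟩
  have hQS : Q ≤ S := hQE.trans H.le
  haveI := finite_of_le hQS
  haveI : Finite (MulAut Q) := finite_mulAut_of_le hQS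
  have hcenE : ∀ x ∈ eGrp b v c, (∀ y ∈ Q, x * y = y * x) → x ∈ Q := fun x hx h =>
    hC (mem_centralizerIn.2 ⟨H.le hx, h⟩)
  have hcQ : c ∈ Q := hcenE c Seed.c_mem fun y hy => H.c_comm (hQE hy)
  have hzQ : b * b ∈ Q := hcenE _ Seed.z_mem fun y hy => (H.z_comm (H.le (hQE hy)) (mem_zpowers _)).symm
  have hkQ : ∀ {k : Ω}, k ∈ zpowers (b * b) → k ∈ Q := fun hk => (zpowers_le.mpr hzQ) hk
  have hgens : ∀ (T : Subgroup Ω), b ∈ T → v ∈ T → c ∈ T → eGrp b v c ≤ T := fun T h1 h3 h4 =>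
    (closure_le _).mpr (by rintro w (rfl | rfl | rfl) <;> assumption)
  have hcomm : ∀ x : Ω, (∀ y ∈ ({b, v, c} : Set Ω), y * x = x * y) → ∀ y ∈ eGrp b v c, y * x = x * y :=
    fun x h y hy => mem_centralizer_singleton_iff.mp ((closure_le _).mpr (fun w hw =>
      mem_centralizer_singleton_iff.mpr (h w hw)) hy)
  obtain ⟨u, huU, huQ, huZ⟩ : ∃ u ∈ uGrp b v, u ∈ Q ∧ u ∉ zpowers (b * b) := by
    by_contra hno
    push Not at hno
    refine hne (le_antisymm hQE fun x hx => hcenE x hx fun y hy => ?_)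
    obtain ⟨w, hw, q, rfl⟩ := H.forms' (hQE hy)
    have hwQ : w ∈ Q := by
      have := mul_mem hy (inv_mem (zpow_mem hcQ q))
      rwa [mul_inv_cancel_right] at this
    exact ((show Commute x w from H.z_comm (H.le hx) (hno w hw hwQ)).mul_right
      ((show Commute c x from H.c_comm hx).symm.zpow_right q)).eq
  obtain ⟨ku, hku, heu⟩ := H.classes huU
  -- an element inverting it
  obtain ⟨w, hwE, hwU, hconj⟩ : ∃ w ∈ eGrp b v c, w ∈ uGrp b v ∧ w * u * w⁻¹ = u * (b * b) := by
    have hcz : ∀ {p r : Ω} {k : Ω}, k ∈ zpowers (b * b) → r ∈ S → r * p * r⁻¹ = p * (b * b) →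
        r * (p * k) * r⁻¹ = p * k * (b * b) := fun {p r k} hk hr e => by
      rw [show r * (p * k) * r⁻¹ = r * p * r⁻¹ * (r * k * r⁻¹) by group, e, H.z_comm hr hk,
        mul_inv_cancel_right, mul_assoc p, H.z_comm (S.mul_mem H.bS H.bS) hk, ← mul_assoc p]
    rcases heu with e | e | e | e
    · exact absurd (e ▸ hku) huZ
    · exact ⟨b, Seed.b_mem, Seed.b_memU, by rw [e]; exact hcz hku H.bS (H.bvb.trans H.v_inv)⟩
    · exact ⟨v, Seed.v_mem, Seed.v_memU, by rw [e]; exact hcz hku H.vS H.conj_vb⟩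
    · exact ⟨v, Seed.v_mem, Seed.v_memU, by
        rw [e]
        exact hcz hku H.vS (by
          rw [show v * (v * b) * v⁻¹ = v * (v * b * v⁻¹) by group, H.conj_vb, ← mul_assoc v])⟩
  have hz1 : b * b ≠ 1 := by
    intro hz
    refine hne (le_antisymm hQE fun x hx => hcenE x hx fun y hy => ?_)
    have hvb : b * v = v * b := by
      have := H.bvb.trans H.v_inv
      rw [hz, mul_one] at this
      exact mul_inv_eq_iff_eq_mul.mp this
    refine hcomm y (fun g hg => ?_) x hx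
    have hcy : ∀ g ∈ ({b, v, c} : Set Ω), ∀ g' ∈ ({b, v, c} : Set Ω), g' * g = g * g' := by
      intro g hg g' hg'
      simp only [Set.mem_insert_iff, Set.mem_singleton_iff] at hg hg'
      rcases hg with rfl | rfl | rfl <;> rcases hg' with rfl | rfl | rfl <;> first
        | rfl | exact hvb | exact hvb.symm | exact H.cb | exact H.cb.symm | exact H.cv | exact H.cv.symm
    exact (hcomm g (hcy g hg) y (hQE hy)).symm
  have huS := hQS huQ
  have hwS := H.le hwE
  -- every element is a power of `u` times a power of `c`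
  have hform : ∀ y ∈ Q, ∃ i q : ℤ, y = u ^ i * c ^ q := by
    intro y hy
    obtain ⟨p, hp, q, rfl⟩ := H.forms' (hQE hy)
    have hpQ : p ∈ Q := by
      have := mul_mem hy (inv_mem (zpow_mem hcQ q))
      rwa [mul_inv_cancel_right] at this
    obtain ⟨r, hr⟩ : ∃ i : ℤ, u ^ i = p := by
      have huu : u * u = b * b := by
        have hkk : ku * ku = 1 := by
          rcases H.memZ.mp hku with e' | e' <;> rw [e']
          exacts [one_mul 1, H.z2]
        have hsq : ∀ g : Ω, g ∈ S → g * g = b * b → g * ku * (g * ku) = b * b := fun g hg hgg => by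
          rw [show g * ku * (g * ku) = g * (ku * g) * ku by group, ← H.z_comm hg hku,
            show g * (g * ku) * ku = g * g * (ku * ku) by group, hkk, hgg, mul_one]
        rcases heu with e' | e' | e' | e' <;> rw [e']
        · exact absurd (show u ∈ zpowers (b * b) by rw [e']; exact hku) huZ
        · exact hsq v H.vS H.vv
        · exact hsq b H.bS rfl
        · exact hsq _ (S.mul_mem H.vS H.bS) (by rw [← mul_assoc, H.vbv])
      obtain ⟨k, hk, e⟩ := H.classes hp
      have hpow : ∀ k ∈ zpowers (b * b), ∃ i : ℤ, u ^ i = k := fun k hk => by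
        obtain ⟨i, rfl⟩ := mem_zpowers_iff.mp hk
        exact ⟨2 * i, by rw [zpow_mul, zpow_two, huu]⟩
      by_cases hpZ : p ∈ zpowers (b * b)
      · exact hpow p hpZ
      by_cases hup : u⁻¹ * p ∈ zpowers (b * b)
      · obtain ⟨i, hi⟩ := hpow _ hup
        exact ⟨1 + i, by rw [zpow_add, zpow_one, hi, mul_inv_cancel_left]⟩
      -- otherwise `b` and `v` lie in `Q`
      exfalso
      refine hne (le_antisymm hQE ?_)
      have hrec : ∀ {g k' : Ω}, k' ∈ zpowers (b * b) → g * k' ∈ Q → g ∈ Q := fun hk' hg => by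
        have := mul_mem hg (inv_mem (hkQ hk'))
        rwa [mul_inv_cancel_right] at this
      have huv : ∀ {g k₁ k₂ : Ω}, k₁ ∈ zpowers (b * b) → k₂ ∈ zpowers (b * b) → g ∈ S → u = g * k₁ →
          p = g * k₂ → False := fun {g k₁ k₂} hk₁ hk₂ hg h3 h4 => hup (by
        rw [h3, h4, show (g * k₁)⁻¹ * (g * k₂) = k₁⁻¹ * k₂ by group]
        exact mul_mem (inv_mem hk₁) hk₂)
      rcases heu with h3 | h3 | h3 | h3 <;> rcases e with h4 | h4 | h4 | h4
      all_goals first
        | (rw [h3] at huZ; exact absurd hku huZ)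
        | (rw [h4] at hpZ; exact absurd hk hpZ)
        | exact (huv hku hk H.vS h3 h4).elim
        | exact (huv hku hk H.bS h3 h4).elim
        | exact (huv hku hk (S.mul_mem H.vS H.bS) h3 h4).elim
        | (have q1 := hrec hku (h3 ▸ huQ); have q2 := hrec hk (h4 ▸ hpQ);
           first
            | exact hgens Q q1 q2 hcQ
            | exact hgens Q q2 q1 hcQ
            | exact hgens Q (by have := mul_mem (inv_mem q1) q2; rwa [inv_mul_cancel_left] at this) q1 hcQ
            | exact hgens Q (by have := mul_mem (inv_mem q2) q1; rwa [inv_mul_cancel_left] at this) q2 hcQ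
            | exact hgens Q q1 (by have := mul_mem q2 (inv_mem q1); rwa [mul_inv_cancel_right] at this) hcQ
            | exact hgens Q q2 (by have := mul_mem q1 (inv_mem q2); rwa [mul_inv_cancel_right] at this) hcQ)
    exact ⟨r, q, by rw [hr]⟩
  have hcu : Commute c u := H.c_comm (hQE huQ)
  have hQc : ∀ p ∈ Q, ∀ r ∈ Q, p * r = r * p := by
    intro p hp r hr
    obtain ⟨i, q, rfl⟩ := hform p hp
    obtain ⟨i', q', rfl⟩ := hform r hr
    exact ((((Commute.refl u).zpow_zpow i i').mul_right (hcu.symm.zpow_zpow i q')).mul_left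
      ((hcu.zpow_zpow q i').mul_right ((Commute.refl c).zpow_zpow q q'))).eq
  have hmeta : Cfsg.IsMetacyclic Q := by
    set N := zpowers (⟨u, huQ⟩ : Q) with hN
    haveI : N.Normal := ⟨fun n hn g => by
      rw [show g * n * g⁻¹ = n from Subtype.ext (by
        simp only [Subgroup.coe_mul, Subgroup.coe_inv]
        rw [hQc _ g.2 _ n.2, mul_inv_cancel_right])]
      exact hn⟩
    refine ⟨N, inferInstance, inferInstance, ⟨⟨QuotientGroup.mk ⟨c, hcQ⟩, fun r => ?_⟩⟩⟩
    induction r using QuotientGroup.induction_on with | H r =>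
    obtain ⟨i, q, e⟩ := hform r r.2
    refine ⟨q, ?_⟩
    show (QuotientGroup.mk (⟨c, hcQ⟩ : Q) : Q ⧸ N) ^ q = _
    rw [← QuotientGroup.mk_zpow, QuotientGroup.eq]
    refine ⟨i, Subtype.ext ?_⟩
    show ((⟨u, huQ⟩ ^ i : Q) : Ω) = _
    simp only [Subgroup.coe_mul, Subgroup.coe_inv, Subgroup.coe_zpow]
    rw [e, (hcu.symm.zpow_zpow i q).eq, inv_mul_cancel_left]
  have hfix : ∀ α : MulAut Q, α ∈ H.genSys.autGroup Q → α ⟨b * b, hzQ⟩ = ⟨b * b, hzQ⟩ := fun α hα =>
    Subtype.ext (((H.genSys_isMap ((mem_autGroup hQS).1 hα)).z ⟨b * b, hzQ⟩).mpr rfl)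
  have htwo : IsPGroup 2 (H.genSys.autGroup Q) := by
    refine Cfsg.Lib.PGroup.isPGroup_two_of_odd_eq_one fun ⟨α, hα⟩ ho => Subtype.ext ?_
    obtain ⟨m, hm⟩ := ho
    rw [Subgroup.orderOf_mk] at hm
    have hpow : α ^ (2 * m + 1) = 1 := hm ▸ pow_orderOf_eq_one α
    set z' : Q := ⟨b * b, hzQ⟩ with hz'
    have hzfix : α z' = z' := hfix α hα
    have hzz : z' * z' = 1 := Subtype.ext H.z2
    have hz'1 : z' ≠ 1 := fun e => hz1 (congrArg Subtype.val e)
    have hQc' : ∀ p r : Q, p * r = r * p := fun p r => Subtype.ext (hQc p p.2 r r.2)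
    have hinv : ∀ r : Q, r * r = 1 → α r = r := by
      intro r hr
      by_cases hr1 : r = 1
      · rw [hr1, map_one]
      by_cases hrz : r = z'
      · rw [hrz]; exact hzfix
      have hαr : α r = r ∨ α r = z' * r := by
        by_contra hcon
        push Not at hcon
        exact no_three hmeta hzz hr (by rw [← map_mul, hr, map_one]) (hQc' _ _) (hQc' _ _) (hQc' _ _) hz'1
          hr1 hrz (fun e => hr1 (α.injective (e.trans (map_one α).symm)))
          (fun e => hrz (α.injective (e.trans hzfix.symm))) hcon.1 hcon.2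
      have h2' : α (α r) = r := by
        rcases hαr with e | e
        · rw [e, e]
        · rw [e, map_mul, hzfix, e, ← mul_assoc, hzz, one_mul]
      have h2n : ∀ k : ℕ, (α ^ (2 * k)) r = r := by
        intro k
        induction k with
        | zero => rw [mul_zero, pow_zero, MulAut.one_apply]
        | succ k ih => rw [mul_add, mul_one, pow_add, MulAut.mul_apply, pow_two, MulAut.mul_apply, h2', ih]
      have h3 : (α ^ (2 * m + 1)) r = r := by rw [hpow, MulAut.one_apply]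
      rw [pow_succ', MulAut.mul_apply, h2n] at h3
      exact h3
    have hall : ∀ (k : ℕ) (r : Q), r ^ 2 ^ k = 1 → α r = r := by
      intro k
      induction k with
      | zero => intro r hr; rw [pow_zero, pow_one] at hr; rw [hr, map_one]
      | succ k ih =>
        intro r hr
        have h3 := ih (r * r) (by rw [← pow_two, ← pow_mul, ← pow_succ']; exact hr)
        set e := r⁻¹ * α r with he
        have hee : e * e = 1 := by
          rw [map_mul] at h3
          rw [he, show r⁻¹ * α r * (r⁻¹ * α r) = r⁻¹ * (α r * r⁻¹) * α r by group, hQc' (α r) r⁻¹,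
            show r⁻¹ * (r⁻¹ * α r) * α r = r⁻¹ * r⁻¹ * (α r * α r) by group, h3]
          group
        have hαe : α e = e := hinv e hee
        have hn : ∀ j : ℕ, (α ^ j) r = r * e ^ j := by
          intro j
          induction j with
          | zero => simp
          | succ j ihj =>
            rw [pow_succ', MulAut.mul_apply, ihj, map_mul, map_pow, hαe, show α r = r * e by
              rw [he, mul_inv_cancel_left], mul_assoc, ← pow_succ']
        have h5 := hn (2 * m + 1)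
        rw [hpow, MulAut.one_apply, pow_succ, pow_mul, pow_two, hee, one_pow, one_mul, left_eq_mul] at h5
        rw [he, inv_mul_eq_one] at h5
        exact h5.symm
    refine MulEquiv.ext fun r => ?_
    obtain ⟨k, hk⟩ := (h2.to_le hQS) r
    exact hall k r hk
  have hwN : w ∈ normalizer (Q : Set Ω) := Subgroup.mem_normalizer_fintype fun y hy => by
    obtain ⟨i, q, rfl⟩ := hform y hy
    rw [show w * (u ^ i * c ^ q) * w⁻¹ = w * u ^ i * w⁻¹ * (w * c ^ q * w⁻¹) by group, ← conj_zpow, hconj,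
      ← conj_zpow, ← H.c_comm hwE, mul_inv_cancel_right]
    exact mul_mem (zpow_mem (mul_mem huQ hzQ) i) (zpow_mem hcQ q)
  intro hle
  have hcore : conjAut Q hwN ∈ coreAut H.genSys 2 Q := by
    refine ⟨⟨_, autInducedBy_le_autGroup hQS (conjAut_mem_autInducedBy hwN hwS)⟩, ?_, rfl⟩
    exact Cfsg.Lib.Core.le_pCore' (N := ⊤) inferInstance
      (htwo.of_equiv Subgroup.topEquiv.symm) (mem_top _)
  obtain ⟨y, hy⟩ := hle ⟨conjAut_mem_autInducedBy hwN hwS, hcore⟩
  have h3 := congrArg (fun a : MulAut Q => ((a ⟨u, huQ⟩ : Q) : Ω)) hy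
  simp only [MulAut.conj_apply, Subgroup.coe_mul, Subgroup.coe_inv, coe_conjAut] at h3
  rw [hQc _ y.2 u huQ, mul_inv_cancel_right, hconj, left_eq_mul] at h3
  exact hz1 h3

/-- The generated system is saturated. -/
theorem isSaturated_genSys : H.genSys.IsSaturated 2 := by
  haveI : Fact (Nat.Prime 2) := ⟨Nat.prime_two⟩
  set E := eGrp b v c with hE
  refine isSaturated_of_family h2
    {P | P ≤ S ∧ (¬ IsBelow S E P ∨ ∃ s ∈ S, IsEqAt E P s)} ?_ ?_ ?_ ?_
  · rintro P ⟨hP, hor⟩ Q ⟨φ, hφ, rfl⟩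
    have hm := H.genSys_isMap hφ
    refine ⟨range_le hφ, ?_⟩
    rcases hor with hnb | ⟨s, hs, hPs⟩
    · left
      rintro ⟨s, hs, h⟩
      obtain ⟨g, hg, h1⟩ := hm.inner hnb
      refine hnb ⟨g⁻¹ * s, S.mul_mem (S.inv_mem hg) hs, fun x hx => ?_⟩
      have := h _ ⟨⟨x, hx⟩, rfl⟩
      rwa [h1, show s⁻¹ * (g * ((⟨x, hx⟩ : P) : Ω) * g⁻¹) * s = (g⁻¹ * s)⁻¹ * x * (g⁻¹ * s) by group]
        at this
    · right
      obtain ⟨g, hg, β, hβ, h1⟩ := hm.form s hs hPs
      refine ⟨g, hg, fun y => ⟨?_, fun hy => ?_⟩⟩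
      · rintro ⟨x, rfl⟩
        rw [h1]
        simpa [mul_assoc] using ap_mem β ((hPs x).mp x.2)
      · have hx : s * ap β⁻¹ (g⁻¹ * y * g) * s⁻¹ ∈ P :=
          (hPs _).mpr (by simpa [mul_assoc] using ap_mem β⁻¹ hy)
        refine ⟨⟨_, hx⟩, ?_⟩
        rw [h1, show s⁻¹ * ((⟨_, hx⟩ : P) : Ω) * s = ap β⁻¹ (g⁻¹ * y * g) by
          show s⁻¹ * (s * ap β⁻¹ (g⁻¹ * y * g) * s⁻¹) * s = _; group, ap_ap_inv β hy]
        group
  · rintro P ⟨hP, hnb | ⟨s, hs, hPs⟩⟩
    · haveI := finite_of_le hP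
      haveI : Finite (MulAut P) := finite_mulAut_of_le hP
      refine ⟨P, isConj_refl _ hP, ⟨hP, ?_⟩, hP, fun R φ hφ hr => ?_⟩
      · have htop : (autInducedBy S P).subgroupOf (H.genSys.autGroup P) = ⊤ := by
          rw [eq_top_iff]
          intro α _
          obtain ⟨g, hg, h1⟩ := (H.genSys_isMap ((mem_autGroup hP).1 α.2)).inner hnb
          exact mem_autInducedBy.2 ⟨g, hg, h1⟩
        have hp : IsPGroup 2 (⊤ : Subgroup (H.genSys.autGroup P)) := by
          rw [← htop]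
          exact (isPGroup_autInducedBy h2).comap_subtype
        obtain ⟨R, hR⟩ := hp.exists_le_sylow
        exact ⟨R, by rw [htop]; exact top_le_iff.1 hR⟩
      · have hm := H.genSys_isMap hφ
        have hR : ¬ IsBelow S E R := fun hb => hnb (by
          obtain ⟨s, hs, h⟩ := hm.below hb
          refine ⟨s, hs, ?_⟩
          rw [← hr]
          rintro _ ⟨x, rfl⟩
          exact h x)
        obtain ⟨g, hg, h1⟩ := hm.inner hR
        exact ⟨conjHom _ g, H.genSys.conj_mem ((extender_le φ).trans (normalizerIn_le R)) hg,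
          fun x hx _ => (h1 ⟨x, hx⟩).symm⟩
    · refine ⟨E, ⟨conjHom P s⁻¹, H.genSys.conj_mem hP (S.inv_mem hs), ?_⟩, H.isFullyAutomized_eGrp h2,
        H.isReceptive_eGrp⟩
      refine le_antisymm ?_ fun y hy => ⟨⟨s * y * s⁻¹, (hPs _).mpr (by simpa [mul_assoc] using hy)⟩, ?_⟩
      · rintro _ ⟨x, rfl⟩
        show s⁻¹ * (x : Ω) * s⁻¹⁻¹ ∈ E
        rw [inv_inv]
        exact (hPs x).mp x.2
      · show s⁻¹ * (s * y * s⁻¹) * s⁻¹⁻¹ = y
        group
  · intro D hD P φ hφ
    exact hφ D fun β hβ => hD E ⟨H.le, Or.inr ⟨1, S.one_mem, fun x => by rw [inv_one, one_mul, mul_one]⟩⟩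
      ((mem_autGroup H.le).1 (H.mem_genSys_autGroup.mpr hβ))
  · intro P hcen hPno
    obtain ⟨s, hs, h⟩ : IsBelow S E P := by
      by_contra hn
      exact hPno ⟨hcen.1, Or.inl hn⟩
    have hconj := H.genSys.conj_mem hcen.1 (S.inv_mem hs)
    refine ⟨(conjHom P s⁻¹).range, ⟨_, hconj, rfl⟩, H.exists_core_elem h2 ?_ ?_ (hcen.2 _ ⟨_, hconj, rfl⟩)⟩
    · rintro _ ⟨x, rfl⟩
      show s⁻¹ * (x : Ω) * s⁻¹⁻¹ ∈ E
      rw [inv_inv]
      exact h x x.2
    · intro e
      refine hPno ⟨hcen.1, Or.inr ⟨s, hs, fun x => ⟨h x, fun hx => ?_⟩⟩⟩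
      rw [hE, ← e] at hx
      obtain ⟨p, hp⟩ := hx
      have hp' : (p : Ω) = x := by
        rw [show (p : Ω) = s * (s⁻¹ * (p : Ω) * s⁻¹⁻¹) * s⁻¹ by group,
          show s⁻¹ * (p : Ω) * s⁻¹⁻¹ = s⁻¹ * x * s from hp]
        group
      exact hp' ▸ p.2

omit h2 in
/-- It differs from the inner system. -/
theorem genSys_ne_inner : ¬ ∀ P : Subgroup Ω, H.genSys.Hom P = (innerFusionSystem S).Hom P := by
  intro h
  obtain ⟨α, hα, hαb, hαv⟩ := H.exists_rot
  have h1 : (eGrp b v c).subtype.comp α.toMonoidHom ∈ (innerFusionSystem S).Hom (eGrp b v c) := by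
    rw [← h]
    exact fun D hD => hD α hα
  obtain ⟨-, g, hg, hga⟩ := h1
  have h3 := (H.fix_of_mem (mem_autInducedBy.2 ⟨g, hg, fun x => hga x⟩ :
    α ∈ autInducedBy S (eGrp b v c))).2
  rw [hαv, inv_mul_cancel_left] at h3
  exact H.b_notZ h3

include H in
/-- A saturated system other than the inner one. -/
theorem exists_noninner :
    ∃ F : FusionSystem S, F.IsSaturated 2 ∧ ¬ ∀ P : Subgroup Ω, F.Hom P = (innerFusionSystem S).Hom P :=
  ⟨H.genSys, H.isSaturated_genSys h2, H.genSys_ne_inner⟩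

end Seed

end Cfsg.Lib.Bicyclic
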