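import Cfsg.Agent.Lib.FusionSys.Bicyclic.FourQuat
import Cfsg.Agent.Lib.FusionSys.Bicyclic.Sel
import Cfsg.Agent.Lib.FusionSys.RankTwoEssential
import Cfsg.Agent.Lib.FusionSys.RankThreeTools
import Cfsg.Agent.Lib.FusionSys.Inner

/-!
# A saturated system other than the inner one needs a cyclic derived subgroup

An essential subgroup carries an automorphism of order three inverted in its normalizer.
-/

set_option autoImplicit false
set_option linter.style.haveILetI false

namespace Cfsg.Lib.Bicyclic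

open Cfsg Cfsg.FusionSystem Cfsg.Lib.FusionSys Subgroup
open scoped commutatorElement

universe u

section Groups

variable {A : Type*} [Group A] [Finite A]

/-- An automorphism of order three inverted modulo a normal 2-subgroup is inverted exactly by a translate. -/
theorem exists_exact_inverse {I : Subgroup A} [I.Normal] (hI : IsPGroup 2 I) {α w : A} (hα : α ^ 3 = 1)
    (hαI : α ∉ I) (hw : w * α * w⁻¹ * α ∈ I) : ∃ i ∈ I, i * w * α * (i * w)⁻¹ = α⁻¹ := by
  haveI : Fact (Nat.Prime 3) := ⟨Nat.prime_three⟩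
  haveI : Fact (Nat.Prime 2) := ⟨Nat.prime_two⟩
  set π := QuotientGroup.mk' I with hπ
  have hπker : ∀ v, π v = 1 ↔ v ∈ I := fun v => QuotientGroup.eq_one_iff v
  set K := (zpowers (π α)).comap π with hK
  have hαK : α ∈ K := mem_zpowers (π α)
  have h1 : π (w * α * w⁻¹) = (π α)⁻¹ := eq_inv_of_mul_eq_one_left (by rw [← map_mul, hπker]; exact hw)
  have hcK : w * α * w⁻¹ ∈ K := by
    rw [hK, mem_comap, h1]
    exact inv_mem (mem_zpowers _)
  have ho : orderOf (π α) = 3 :=
    orderOf_eq_prime (by rw [← map_pow, hα, map_one]) fun h => hαI ((hπker α).mp h)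
  -- `K` is `I` extended by a group of order three
  let θ : K →* zpowers (π α) := (π.comp K.subtype).codRestrict _ fun k => k.2
  have hθs : Function.Surjective θ := by
    rintro ⟨q, hq⟩
    obtain ⟨v, hv⟩ := QuotientGroup.mk'_surjective I q
    exact ⟨⟨v, show π v ∈ zpowers (π α) by rw [hπ, hv]; exact hq⟩, Subtype.ext hv⟩
  have hθker : θ.ker = I.subgroupOf K := by
    ext k
    rw [MonoidHom.mem_ker, mem_subgroupOf, ← hπker]
    exact Subtype.ext_iff
  have hIK : I ≤ K := fun v hv => by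
    rw [hK, mem_comap, (hπker v).mpr hv]
    exact one_mem _
  obtain ⟨n, hn⟩ := IsPGroup.iff_card.mp hI
  have hcard : Nat.card K = 2 ^ n * 3 := by
    have h2 := θ.ker.card_mul_index
    rw [Subgroup.index_ker, MonoidHom.range_eq_top.mpr hθs, card_top, Nat.card_zpowers, ho, hθker,
      Nat.card_congr (subgroupOfEquivOfLe hIK).toEquiv, hn] at h2
    exact h2.symm
  have hfac : 3 ^ (Nat.card K).factorization 3 = 3 := by
    rw [hcard, Nat.factorization_mul (by positivity) (by norm_num), Finsupp.add_apply,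
      Nat.factorization_eq_zero_of_not_dvd (fun hd => absurd (Nat.prime_three.dvd_of_dvd_pow hd) (by norm_num)),
      Nat.Prime.factorization_self Nat.prime_three]
    simp
  have hthree : ∀ (k : A) (hk : k ∈ K), k ^ 3 = 1 → k ≠ 1 → Nat.card (zpowers (⟨k, hk⟩ : K)) = 3 := by
    intro k hk hk3 hk1
    rw [Nat.card_zpowers, Subgroup.orderOf_mk, orderOf_eq_prime hk3 hk1]
  have hα1 : α ≠ 1 := fun h => hαI (h ▸ one_mem I)
  let P₁ : Sylow 3 K := Sylow.ofCard (zpowers ⟨α, hαK⟩) (by rw [hfac]; exact hthree α hαK hα hα1)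
  let P₂ : Sylow 3 K := Sylow.ofCard (zpowers ⟨w * α * w⁻¹, hcK⟩) (by
    rw [hfac]
    exact hthree _ hcK (by rw [conj_pow, hα, mul_one, mul_inv_cancel]) fun h => hα1 (conj_eq_one_iff.mp h))
  obtain ⟨k, hk⟩ := MulAction.exists_smul_eq K P₂ P₁
  have hmem : k * ⟨w * α * w⁻¹, hcK⟩ * k⁻¹ ∈ (P₁ : Subgroup K) := by
    rw [← hk]
    exact ⟨⟨_, hcK⟩, mem_zpowers _, rfl⟩
  obtain ⟨j, hj⟩ := mem_zpowers_iff.mp hmem
  have hj' : α ^ j = (k : A) * (w * α * w⁻¹) * (k : A)⁻¹ := by
    simpa [Subtype.ext_iff] using hj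
  obtain ⟨m, hm⟩ := mem_zpowers_iff.mp (show π (k : A) ∈ zpowers (π α) from k.2)
  refine ⟨α ^ (-m) * k, (hπker _).mp (by rw [map_mul, map_zpow, ← hm, ← zpow_add, neg_add_cancel,
    zpow_zero]), ?_⟩
  have e : α ^ (-m) * (k : A) * w * α * (α ^ (-m) * (k : A) * w)⁻¹ = α ^ j := by
    rw [show α ^ (-m) * (k : A) * w * α * (α ^ (-m) * (k : A) * w)⁻¹ =
      α ^ (-m) * ((k : A) * (w * α * w⁻¹) * (k : A)⁻¹) * (α ^ (-m))⁻¹ by group, ← hj',
      (Commute.zpow_zpow (Commute.refl α) (-m) j).eq, mul_inv_cancel_right]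
  rw [e]
  have h2 : π α ^ j = π α ^ (-1 : ℤ) := by
    rw [← map_zpow, hj', map_mul, map_mul, map_inv, h1, ← hm, ← zpow_neg_one, ← zpow_add, ← zpow_neg,
      ← zpow_add]
    congr 1
    ring
  rw [zpow_eq_zpow_iff_modEq, ho] at h2
  rw [← zpow_neg_one, zpow_eq_zpow_iff_modEq, orderOf_eq_prime hα hα1]
  exact h2

omit [Finite A] in
/-- An exponent two commutative group generated by three elements has at most eight elements. -/
theorem card_le_eight {V : Type*} [CommGroup V] (hexp : ∀ v : V, v * v = 1) {a b c : V}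
    (hgen : closure ({a, b, c} : Set V) = ⊤) : Nat.card V ≤ 8 := by
  let f : Fin 2 × Fin 2 × Fin 2 → V := fun t => a ^ (t.1 : ℕ) * b ^ (t.2.1 : ℕ) * c ^ (t.2.2 : ℕ)
  have hmod : ∀ (v : V) (i : ℕ), v ^ i = v ^ (i % 2) := fun v i => by
    conv_lhs => rw [← Nat.div_add_mod i 2]
    rw [pow_add, pow_mul, pow_two, hexp, one_pow, one_mul]
  have hform : ∀ i j k : ℕ, a ^ i * b ^ j * c ^ k ∈ Set.range f := fun i j k =>
    ⟨(⟨i % 2, Nat.mod_lt _ two_pos⟩, ⟨j % 2, Nat.mod_lt _ two_pos⟩, ⟨k % 2, Nat.mod_lt _ two_pos⟩), by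
      rw [hmod a i, hmod b j, hmod c k]⟩
  have hmul : ∀ u v, u ∈ Set.range f → v ∈ Set.range f → u * v ∈ Set.range f := by
    rintro u v ⟨s, rfl⟩ ⟨t, rfl⟩
    have e : f s * f t = a ^ ((s.1 : ℕ) + t.1) * b ^ ((s.2.1 : ℕ) + t.2.1) * c ^ ((s.2.2 : ℕ) + t.2.2) := by
      simp only [f, pow_add]
      ac_rfl
    rw [e]
    exact hform _ _ _
  have hsurj : Function.Surjective f := fun v => by
    have hv : v ∈ closure ({a, b, c} : Set V) := hgen ▸ mem_top v
    induction hv using closure_induction with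
    | mem u hu =>
      rcases hu with rfl | rfl | rfl
      · exact (by simpa using hform 1 0 0 : u ∈ Set.range f)
      · exact (by simpa using hform 0 1 0 : u ∈ Set.range f)
      · exact (by simpa using hform 0 0 1 : u ∈ Set.range f)
    | one => exact (by simpa using hform 0 0 0 : (1 : V) ∈ Set.range f)
    | mul u v _ _ h1 h2 => exact hmul u v h1 h2
    | inv u _ h1 =>
      rw [inv_eq_of_mul_eq_one_left (hexp u)]
      exact h1
  exact (Nat.card_le_card_of_surjective f hsurj).trans (by simp)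

end Groups

variable {Ω : Type u} [Group Ω] {S : Subgroup Ω} [Finite S] {F : FusionSystem S}

/-- An essential subgroup carries the configuration. -/
theorem exists_frame_of_essential (hS : IsPGroup 2 S) (hF : F.IsSaturated 2) {x y : S} (h : BC S x y)
    {P : Subgroup Ω} (hP : F.IsEssential 2 P) :
    ∃ (E : Subgroup S) (a : S → S) (σ : S), Fr E a σ := by
  classical
  haveI : Fact (Nat.Prime 2) := ⟨Nat.prime_two⟩
  obtain ⟨-, hIN, hIp, hO, -, -⟩ := RankTwo.basic hS hF hP
  have hPS : P ≤ S := hP.1.1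
  haveI := finite_of_le hPS
  have hPp : IsPGroup 2 P := hS.to_le hPS
  haveI : Finite (MulAut P) := Finite.of_injective (fun a : MulAut P => (a : P → P))
    DFunLike.coe_injective
  have hC : centralizerIn S P ≤ P := hP.1.2 P (isConj_refl F hPS)
  obtain ⟨-, hfn, hN', Y, hY⟩ := hP
  set A := F.autGroup P with hA
  set I := (Inn P).subgroupOf A with hI
  haveI := hIN
  set π := QuotientGroup.mk' I with hπ
  obtain ⟨-, -, R, hR⟩ := isFullyAutomized_and_fc_of_fn hS hF hfn
  -- the action on at most eight elements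
  let V := P ⧸ frattini P
  have hVc : ∀ p q : V, p * q = q * p := fun p q => QuotientGroup.induction_on p fun p =>
    QuotientGroup.induction_on q fun q => by
      rw [← commutatorElement_eq_one_iff_mul_comm]
      exact (map_commutatorElement (QuotientGroup.mk' (frattini P)) p q).symm.trans
        ((QuotientGroup.eq_one_iff _).mpr (RankThree.comm_mem_frattini hPp p q))
  letI : CommGroup V := { (inferInstance : Group V) with mul_comm := hVc }
  have hVexp : ∀ v : V, v * v = 1 := fun v => QuotientGroup.induction_on v fun v => by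
    rw [← QuotientGroup.mk_mul, QuotientGroup.eq_one_iff, ← pow_two]
    exact Cfsg.Lib.PGroup.pow_mem_frattini hPp v
  obtain ⟨d, hd⟩ := (hPp.to_quotient (frattini P)).exists_card_eq
  have hd3 : d ≤ 3 := by
    obtain ⟨a, b, c, habc⟩ := h.three_gen (P.subgroupOf S)
    have haP : (a : Ω) ∈ P := (habc ▸ subset_closure (by simp) : a ∈ P.subgroupOf S)
    have hbP : (b : Ω) ∈ P := (habc ▸ subset_closure (by simp) : b ∈ P.subgroupOf S)
    have hcP : (c : Ω) ∈ P := (habc ▸ subset_closure (by simp) : c ∈ P.subgroupOf S)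
    set m := QuotientGroup.mk' (frattini P)
    have hgen : closure ({m ⟨a, haP⟩, m ⟨b, hbP⟩, m ⟨c, hcP⟩} : Set V) = ⊤ := by
      rw [eq_top_iff]
      rintro q -
      obtain ⟨v, rfl⟩ := QuotientGroup.mk'_surjective _ q
      have hv : (⟨(v : Ω), hPS v.2⟩ : S) ∈ closure ({a, b, c} : Set S) := by rw [habc]; exact v.2
      suffices H : ∀ (s : S), s ∈ closure ({a, b, c} : Set S) → ∀ hsP : (s : Ω) ∈ P,
          m ⟨s, hsP⟩ ∈ closure ({m ⟨a, haP⟩, m ⟨b, hbP⟩, m ⟨c, hcP⟩} : Set V) from H _ hv v.2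
      intro s hs
      induction hs using closure_induction with
      | mem u hu =>
        intro _
        rcases hu with rfl | rfl | rfl <;> exact subset_closure (by simp)
      | one =>
        intro _
        exact (show (⟨(1 : Ω), one_mem P⟩ : P) = 1 from rfl) ▸ (map_one m).symm ▸ one_mem _
      | mul u v hu hv i1 i2 =>
        intro _
        have hu' : (u : Ω) ∈ P := (habc ▸ hu : u ∈ P.subgroupOf S)
        have hv' : (v : Ω) ∈ P := (habc ▸ hv : v ∈ P.subgroupOf S)
        have := mul_mem (i1 hu') (i2 hv')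
        rw [← map_mul] at this
        exact this
      | inv u hu i1 =>
        intro _
        have hu' : (u : Ω) ∈ P := (habc ▸ hu : u ∈ P.subgroupOf S)
        have := inv_mem (i1 hu')
        rw [← map_inv] at this
        exact this
    have h8 := card_le_eight hVexp hgen
    rw [hd] at h8
    exact (Nat.pow_le_pow_iff_right (by norm_num : 1 < 2)).1 (h8.trans (le_of_eq (by norm_num : 8 = 2 ^ 3)))
  let W := V × Multiplicative (Fin (3 - d) → ZMod 2)
  have hWexp : ∀ v : W, v * v = 1 := fun v => Prod.ext (hVexp v.1)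
    (Multiplicative.toAdd.injective (funext fun i => ZModModule.add_self ((Multiplicative.toAdd v.2) i)))
  have hWcard : Nat.card W = 8 := by
    rw [Nat.card_prod, hd, Nat.card_congr Multiplicative.toAdd, Nat.card_fun, Nat.card_fin, Nat.card_zmod,
      ← pow_add, show d + (3 - d) = 3 by omega]
    norm_num
  let ι : MulAut V →* MulAut W :=
    { toFun := fun g => MulEquiv.prodCongr g (MulEquiv.refl _)
      map_one' := rfl
      map_mul' := fun _ _ => rfl }
  set ρV := (RankThree.quotAut (frattini P)).comp A.subtype with hρV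
  have hker : ρV.ker = I := by
    refine le_antisymm (hO _ inferInstance ?_) ?_
    · refine ((Cfsg.Lib.PGroup.isPGroup_frattiniStab hPp).comap_of_injective A.subtype
        A.subtype_injective).to_le fun u hu v => ?_
      have h1 := DFunLike.congr_fun (MonoidHom.mem_ker.1 hu) (v : V)
      simp only [hρV, MonoidHom.comp_apply, RankThree.quotAut_mk, MulAut.one_apply] at h1
      exact QuotientGroup.eq.1 h1.symm
    · intro u hu
      obtain ⟨z, hz⟩ := Subgroup.mem_subgroupOf.mp hu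
      refine MonoidHom.mem_ker.mpr (MulEquiv.ext fun q => QuotientGroup.induction_on q fun v => ?_)
      rw [hρV, MonoidHom.comp_apply, Subgroup.subtype_apply, RankThree.quotAut_mk, ← hz, MulAut.conj_apply,
        MulAut.one_apply]
      refine (QuotientGroup.eq.2 ?_).symm
      have h1 := RankThree.comm_mem_frattini hPp v⁻¹ z
      rwa [commutatorElement_def, inv_inv, mul_assoc v⁻¹, mul_assoc v⁻¹] at h1
  let ρ : A ⧸ I →* MulAut W := QuotientGroup.lift I (ι.comp ρV) fun u hu => by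
    rw [MonoidHom.mem_ker, MonoidHom.comp_apply, show ρV u = 1 from MonoidHom.mem_ker.1 (hker.ge hu), map_one]
  have hρ : Function.Injective ρ := by
    rw [injective_iff_map_eq_one]
    intro q
    induction q using QuotientGroup.induction_on with | H u =>
    intro hq
    rw [QuotientGroup.eq_one_iff, ← hker, MonoidHom.mem_ker]
    exact MulEquiv.ext fun v => congrArg Prod.fst (DFunLike.congr_fun hq (v, 1))
  let T := R.mapSurjective (QuotientGroup.mk'_surjective I)
  obtain ⟨hT2, a₀, ha₀T, β, hβ3, hβ1, hinv⟩ :=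
    sylow_two_and_three hWexp hWcard ρ hρ hY (T : Subgroup (A ⧸ I)) T.isPGroup' ⟨T, rfl⟩
  -- the element of order three
  obtain ⟨β', hβ'⟩ := QuotientGroup.mk'_surjective I β
  obtain ⟨j, hj⟩ := hIp ⟨β' ^ 3, (QuotientGroup.eq_one_iff _).mp (by
    rw [← QuotientGroup.mk'_apply, map_pow, hβ', hβ3])⟩
  set α := β' ^ 2 ^ j with hα
  have hα3 : α ^ 3 = 1 := by
    rw [hα, ← pow_mul, mul_comm, pow_mul]
    exact congrArg Subtype.val hj
  have hπα : π α = β ^ 2 ^ j := by rw [hα, map_pow, hπ, hβ']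
  have hαI : α ∉ I := by
    intro hm
    rw [← QuotientGroup.eq_one_iff, ← QuotientGroup.mk'_apply, ← hπ, hπα, ← orderOf_dvd_iff_pow_eq_one,
      orderOf_eq_prime hβ3 hβ1] at hm
    exact absurd (Nat.prime_three.dvd_of_dvd_pow hm) (by norm_num)
  obtain ⟨w₀, hw₀R, hw₀⟩ := ha₀T
  have hw₀' : π w₀ * π α * (π w₀)⁻¹ = (π α)⁻¹ := by rw [hπα, hw₀, ← conj_pow, hinv, inv_pow]
  obtain ⟨i, hi, hiw⟩ := exists_exact_inverse hIp hα3 hαI (w := w₀) ((QuotientGroup.eq_one_iff _).mp (by
    rw [← QuotientGroup.mk'_apply, ← hπ, map_mul, map_mul, map_mul, map_inv, hw₀', inv_mul_cancel]))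
  have hπi : π (i * w₀) = a₀ := by
    rw [map_mul, hπ, QuotientGroup.mk'_apply, (QuotientGroup.eq_one_iff i).2 hi, one_mul]
    exact hw₀
  have hwR : i * w₀ ∈ (autInducedBy S P).subgroupOf A := by
    refine mul_mem ?_ (hR.le hw₀R)
    exact inn_le_autInducedBy hPS hi
  obtain ⟨g₀, hg₀S, hg₀⟩ := mem_autInducedBy.1 (Subgroup.mem_subgroupOf.mp hwR)
  have hg₀N := mem_normalizer_of_aut hg₀
  set w := i * w₀ with hw
  have hcA : ∀ v : P, (((w : MulAut P) v : P) : Ω) = g₀ * v * g₀⁻¹ := hg₀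
  have ha₀1 : a₀ ≠ 1 := fun e => by
    rw [e, one_mul, inv_one, mul_one, eq_inv_iff_mul_eq_one] at hinv
    rw [pow_succ, pow_two, hinv, one_mul] at hβ3
    exact hβ1 hβ3
  -- conjugations by the normalizer
  have hcover : ∀ g : Ω, g ∈ normalizerIn S P → g ∈ P ∨ g₀⁻¹ * g ∈ P := by
    intro g hg
    set c : A := RankTwo.cA F hPS ⟨g, hg⟩
    have hcR : π c ∈ (T : Subgroup (A ⧸ I)) :=
      mem_map_of_mem _ (hR.ge (conjAut_mem_autInducedBy hg.2 hg.1) : c ∈ (R : Subgroup A))
    have hTe : π c = 1 ∨ π c = a₀ := by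
      by_contra hne
      push Not at hne
      have hw₀T : a₀ ∈ (T : Subgroup (A ⧸ I)) := hw₀ ▸ mem_map_of_mem _ hw₀R
      obtain ⟨t, -, ht⟩ := (Nat.card_eq_two_iff' (1 : (T : Subgroup (A ⧸ I)))).mp hT2
      have e1 := ht ⟨a₀, hw₀T⟩ (fun e => ha₀1 (congrArg Subtype.val e))
      have e2 := ht ⟨π c, hcR⟩ (fun e => hne.1 (congrArg Subtype.val e))
      exact hne.2 (congrArg Subtype.val (e2.trans e1.symm))
    rcases hTe with e | e
    · exact Or.inl (mem_of_conjAut_mem_inn hC hPS hg.1 (α := (c : MulAut P)) (fun _ => rfl)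
        (Subgroup.mem_subgroupOf.mp ((QuotientGroup.eq_one_iff c).mp e)))
    · refine Or.inr (mem_of_conjAut_mem_inn hC hPS (S.mul_mem (S.inv_mem hg₀S) hg.1)
        (α := ((w⁻¹ * c : A) : MulAut P)) (fun v => ?_)
        (Subgroup.mem_subgroupOf.mp ((QuotientGroup.eq_one_iff _).mp (by
          rw [← QuotientGroup.mk'_apply, ← hπ, map_mul, map_inv, hπi, e, inv_mul_cancel]))))
      have h1 : (((c : MulAut P) v : P) : Ω) = g * v * g⁻¹ := rfl
      have h2 := hcA ((w⁻¹ * c : A).1 v)
      rw [show (w : MulAut P) ((w⁻¹ * c : A).1 v) = (c : MulAut P) v by simp, h1] at h2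
      rw [show g₀⁻¹ * g * (v : Ω) * (g₀⁻¹ * g)⁻¹ = g₀⁻¹ * (g * v * g⁻¹) * g₀ by group, h2]
      group
  have hout : g₀ ∉ P := fun hm => by
    refine ha₀1 (hπi ▸ (QuotientGroup.eq_one_iff w).2 ?_)
    exact ⟨⟨g₀, hm⟩, MulEquiv.ext fun v => Subtype.ext (hcA v).symm⟩
  -- the configuration
  let E := P.subgroupOf S
  let a : S → S := fun s =>
    if hs : (s : Ω) ∈ P then ⟨(((α : MulAut P) ⟨s, hs⟩ : P) : Ω), hPS (((α : MulAut P) ⟨s, hs⟩ : P)).2⟩ else s
  have ha : ∀ (s : S) (hs : (s : Ω) ∈ P), ((a s : S) : Ω) = (((α : MulAut P) ⟨s, hs⟩ : P) : Ω) := by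
    intro s hs; simp only [a, dif_pos hs]
  have haP : ∀ s : S, (s : Ω) ∈ P → ((a s : S) : Ω) ∈ P := fun s hs => by rw [ha s hs]; exact Subtype.coe_prop _
  have haa : ∀ (s : S) (hs : (s : Ω) ∈ P),
      ((a (a s) : S) : Ω) = (((α : MulAut P) ((α : MulAut P) ⟨s, hs⟩) : P) : Ω) := fun s hs => by
    rw [ha _ (haP s hs)]
    exact congrArg (fun t : P => (((α : MulAut P) t : P) : Ω)) (Subtype.ext (ha s hs))
  have hcube : ∀ v : P, (α : MulAut P) ((α : MulAut P) ((α : MulAut P) v)) = v := fun v => by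
    have h1 : ((α : MulAut P) ^ 3) v = v := by rw [← SubgroupClass.coe_pow, hα3]; rfl
    rwa [pow_succ', pow_two, MulAut.mul_apply, MulAut.mul_apply] at h1
  have hN : ∀ s : S, s ∈ normalizer (E : Set S) → (s : Ω) ∈ normalizerIn S P := fun s hs =>
    ⟨s.2, Subgroup.mem_normalizer_fintype fun v hv => ((mem_normalizer_iff.mp hs ⟨v, hPS hv⟩).mp hv)⟩
  refine ⟨E, a, ⟨g₀, hg₀S⟩, ?_, ?_, ?_, ?_, ?_, ?_, hout, fun s hs => hcover _ (hN s hs), ?_⟩
  · exact fun s hs => haP s hs
  · intro s hs t ht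
    refine Subtype.ext ?_
    rw [Subgroup.coe_mul, ha (s * t) (E.mul_mem hs ht), ha s hs, ha t ht, ← Subgroup.coe_mul, ← map_mul]
    rfl
  · intro s hs
    refine Subtype.ext ?_
    rw [ha _ (haP _ (haP s hs))]
    exact (congrArg (fun t : P => (((α : MulAut P) t : P) : Ω)) (Subtype.ext (haa s hs))).trans
      (congrArg Subtype.val (hcube ⟨s, hs⟩))
  · by_contra hno
    push Not at hno
    refine hαI ?_
    rw [show α = 1 from Subtype.ext (MulEquiv.ext fun v => Subtype.ext ?_)]
    · exact one_mem I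
    have h1 := ha ⟨(v : Ω), hPS v.2⟩ v.2
    rw [hno _ v.2] at h1
    exact h1.symm
  · intro s hs
    refine hC (mem_centralizerIn.2 ⟨s.2, fun v hv => ?_⟩)
    simpa using (congrArg Subtype.val (mem_centralizer_iff.mp hs ⟨v, hPS hv⟩ hv)).symm
  · refine Subgroup.mem_normalizer_fintype fun v hv => ?_
    exact (mem_normalizer_iff.mp hg₀N v).mp hv
  · intro s hs
    refine Subtype.ext ?_
    have hσs : g₀ * (s : Ω) * g₀⁻¹ ∈ P := (mem_normalizer_iff.mp hg₀N _).mp hs
    have e1 : (w : MulAut P) * (α : MulAut P) = (α : MulAut P) * (α : MulAut P) * (w : MulAut P) := by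
      have h1 : w * α * w⁻¹ = α * α := by
        rw [hiw]
        exact inv_eq_of_mul_eq_one_left (by rw [← pow_two, ← pow_succ, hα3])
      have h2 : w * α = α * α * w := mul_inv_eq_iff_eq_mul.mp h1
      exact congrArg Subtype.val h2
    show g₀ * ((a s : S) : Ω) * g₀⁻¹ = _
    rw [ha s hs, ← hcA, haa _ hσs, ← MulAut.mul_apply, e1, MulAut.mul_apply, MulAut.mul_apply]
    exact congrArg (fun t : P => (((α : MulAut P) ((α : MulAut P) t) : P) : Ω)) (Subtype.ext (hcA ⟨s, hs⟩))

/-- A saturated system with a noncyclic derived subgroup is the inner one. -/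
theorem isCyclic_of_noninner (hS : IsPGroup 2 S) {x y : S} (h : BC S x y) (hF : F.IsSaturated 2)
    (hne : ¬ ∀ P : Subgroup Ω, F.Hom P = (innerFusionSystem S).Hom P) : IsCyclic (commutator S) := by
  haveI : Fact (Nat.Prime 2) := ⟨Nat.prime_two⟩
  by_contra hnc
  have hle : F ≤ innerFusionSystem S := by
    refine le_of_autGroup_le hS hF _ fun P hP => ?_
    rcases hP with rfl | hP
    · obtain ⟨-, -, R, hR⟩ := isFullyAutomized_and_fc_of_fn hS hF (isFullyNormalized_top F)
      have hp : IsPGroup 2 (⊤ : Subgroup (F.autGroup P)) :=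
        ((h.isPGroup_mulAut.to_subgroup (F.autGroup P)).of_equiv Subgroup.topEquiv.symm)
      have htop := R.is_maximal' hp le_top
      rw [hR] at htop
      intro α hα
      exact autInducedBy_le_autGroup le_rfl
        (Subgroup.mem_subgroupOf.mp (htop ▸ mem_top (⟨α, hα⟩ : F.autGroup P)))
    · obtain ⟨E, a, σ, hFr⟩ := exists_frame_of_essential hS hF h hP
      exact (hFr.no_frame h hnc).elim
  exact hne fun P => Set.Subset.antisymm (hle P) (innerFusionSystem_le F P)

end Cfsg.Lib.Bicyclic
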